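import Groth.Agent.Coherent.RpushVanish
import Groth.Agent.Coherent.RpushStalk
import Groth.Agent.H8Coh.RpushVanishBC
import Groth.Agent.H8Coh.BCMapSections
import Groth.Agent.CohExch.FlatBC0
import Groth.Agent.DQCoh.BettiRank
import Groth.Agent.FlatMor12.FlatFun.Sheaf
import Groth.Agent.Coherent.QcohOps
import Groth.Agent.DQCoh.ProperSuppFlat17
import Groth.Agent.CohExch.Chart0

/-!
# Higher direct images and counits under restriction to opens of the base
-/

set_option autoImplicit false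
set_option linter.style.haveILetI false
set_option backward.isDefEq.respectTransparency.types false

universe u

open CategoryTheory CategoryTheory.Limits AlgebraicGeometry TopologicalSpace Opposite
open Groth.Agent.Coherent

noncomputable section

namespace Groth.Agent.KPr28

variable {P T P' T' : Scheme.{u}} {π : P ⟶ T} {π' : P' ⟶ T'} {ψ : P' ⟶ P} {φ : T' ⟶ T}

/-- Vanishing of a higher direct image is vanishing of cohomology on the preimages of affine opens. -/
theorem isZero_rpushAb_iff [QuasiCompact π] [QuasiSeparated π] (M : P.Modules) [Coh.IsQCoh M] (q : ℕ) :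
    IsZero ((Coh.RpushAb π q).obj (Coh.toAb M)) ↔
      ∀ V : T.Opens, IsAffineOpen V → Subsingleton (Sheaf.H' (Coh.toAb M) q (π ⁻¹ᵁ V)) := by
  refine ⟨fun h V hV => ?_, fun h => isZero_rpushAb_of_basis π {V | IsAffineOpen V} T.isBasis_affineOpens _ q h⟩
  haveI := hasInjectiveResolutions_modules P
  obtain ⟨g⟩ := exists_rpush_sections_equiv (f := π) hV M q
  have hz : IsZero (Coh.toAb ((Coh.Rpush π q).obj M)) := h.of_iso (toAbRpushIso π M q)
  have hsub : Subsingleton Γ((Coh.Rpush π q).obj M, V) := by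
    have h0 : IsZero ((Coh.toAb ((Coh.Rpush π q).obj M)).obj.obj (op V)) :=
      Functor.map_isZero (sheafToPresheaf _ _ ⋙ (evaluation _ _).obj (op V)) hz
    exact AddCommGrpCat.subsingleton_of_isZero h0
  have h1 : Subsingleton (Coh.HH (π ⁻¹ᵁ V).toScheme (M.restrict (π ⁻¹ᵁ V).ι) q) := g.toEquiv.subsingleton
  have h2 : Subsingleton (Sheaf.H' (Coh.toAb (M.restrict (π ⁻¹ᵁ V).ι)) q (⊤ : (π ⁻¹ᵁ V).toScheme.Opens)) :=
    (HHTopEquiv _ q).symm.toEquiv.subsingleton
  exact ((H'ModRestrictEquiv (π ⁻¹ᵁ V).ι M ⊤ q).trans (H'Congr (Coh.toAb M) q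
    (Scheme.Opens.ι_image_top _))).symm.toEquiv.subsingleton

variable [IsOpenImmersion φ]

theorem isOpenImmersion_of_sq (h : IsPullback ψ π' π φ) : IsOpenImmersion ψ :=
  MorphismProperty.of_isPullback (P := @IsOpenImmersion) h.flip inferInstance

theorem image_preimage_of_sq [IsOpenImmersion ψ] (h : IsPullback ψ π' π φ) (W : T'.Opens) :
    ψ ''ᵁ (π' ⁻¹ᵁ W) = π ⁻¹ᵁ (φ ''ᵁ W) := by
  ext y
  constructor
  · rintro ⟨x, hx, rfl⟩
    exact ⟨π'.base x, hx, (Scheme.Hom.comp_apply π' φ x).symm.trans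
      ((congrArg (fun f : P' ⟶ T => f.base x) h.w.symm).trans (Scheme.Hom.comp_apply ψ π x))⟩
  · rintro ⟨t, ht, htw⟩
    obtain ⟨x, hx⟩ : y ∈ Set.range ψ.base := by
      rw [← h.isoPullback_hom_fst]
      obtain ⟨z, hz₁, hz₂⟩ := Scheme.Pullback.exists_preimage_pullback (f := π) (g := φ) y t htw.symm
      exact ⟨h.isoPullback.inv.base z, by rw [← Scheme.Hom.comp_apply, Iso.inv_hom_id_assoc]; exact hz₁⟩
    refine ⟨x, ?_, hx⟩
    have e : φ (π' x) = φ t :=
      (Scheme.Hom.comp_apply π' φ x).symm.trans ((congrArg (fun f : P' ⟶ T => f x) h.w.symm).trans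
        ((Scheme.Hom.comp_apply ψ π x).trans ((congrArg (fun z => π z) hx).trans htw.symm)))
    show π' x ∈ W
    exact (φ.isOpenEmbedding.injective e).symm ▸ ht

/-- Vanishing of higher direct images passes to opens of the base. -/
theorem isZero_rpushAb_of_sq [QuasiCompact π] [QuasiSeparated π] (h : IsPullback ψ π' π φ) (M : P.Modules)
    [Coh.IsQCoh M] (q : ℕ) (hz : IsZero ((Coh.RpushAb π q).obj (Coh.toAb M))) :
    IsZero ((Coh.RpushAb π' q).obj (Coh.toAb ((Scheme.Modules.pullback ψ).obj M))) := by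
  haveI := isOpenImmersion_of_sq h
  refine isZero_rpushAb_of_basis π' {V | IsAffineOpen V} T'.isBasis_affineOpens _ q fun W hW => ?_
  have h1 := (isZero_rpushAb_iff M q).1 hz _ (hW.image_of_isOpenImmersion φ)
  rw [← image_preimage_of_sq h] at h1
  exact Coherent.subsingleton_H'_of_iso ((Scheme.Modules.restrictFunctorIsoPullback ψ).app M) q _
    (H'ModRestrictEquiv ψ M _ q).toEquiv.subsingleton

/-- Vanishing of higher direct images is local on the base. -/
theorem isZero_rpushAb_of_cover [QuasiCompact π] [QuasiSeparated π] (M : P.Modules) [Coh.IsQCoh M] (q : ℕ)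
    (hc : ∀ t : T, ∃ (P' T' : Scheme.{u}) (ψ : P' ⟶ P) (π' : P' ⟶ T') (φ : T' ⟶ T) (_ : IsOpenImmersion φ),
      IsPullback ψ π' π φ ∧ t ∈ Set.range φ.base ∧
      IsZero ((Coh.RpushAb π' q).obj (Coh.toAb ((Scheme.Modules.pullback ψ).obj M)))) :
    IsZero ((Coh.RpushAb π q).obj (Coh.toAb M)) := by
  refine isZero_rpushAb_of_basis π {V | IsAffineOpen V ∧
    Subsingleton (Sheaf.H' (Coh.toAb M) q (π ⁻¹ᵁ V))} ?_ _ q fun V hV => hV.2
  rw [Opens.isBasis_iff_nbhd]
  intro U t ht
  obtain ⟨P', T', ψ, π', φ, _, h, ⟨t', rfl⟩, hz⟩ := hc t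
  haveI := isOpenImmersion_of_sq h
  haveI : QuasiCompact π' := MorphismProperty.of_isPullback (P := @QuasiCompact) h inferInstance
  haveI : QuasiSeparated π' := MorphismProperty.of_isPullback (P := @QuasiSeparated) h inferInstance
  haveI : Coh.IsQCoh ((Scheme.Modules.pullback ψ).obj M) := EGA43.InjFibre.isQCoh_pullback _ _
  obtain ⟨W, hW, htW, hle⟩ := exists_isAffineOpen_mem_and_subset (x := t') (U := φ ⁻¹ᵁ U) ht
  refine ⟨φ ''ᵁ W, ⟨hW.image_of_isOpenImmersion φ, ?_⟩, ⟨t', htW, rfl⟩, ?_⟩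
  · rw [← image_preimage_of_sq h]
    have h1 := Coherent.subsingleton_H'_of_iso ((Scheme.Modules.restrictFunctorIsoPullback ψ).app M).symm q _
      ((isZero_rpushAb_iff _ q).1 hz W hW)
    exact (H'ModRestrictEquiv ψ M _ q).symm.toEquiv.subsingleton
  · rintro _ ⟨x, hx, rfl⟩
    exact hle hx

/-- Direct images commute with restriction to opens of the base. -/
theorem isIso_bc0_of_sq [QuasiCompact π] [QuasiSeparated π] (h : IsPullback ψ π' π φ) (M : P.Modules)
    [Coh.IsQCoh M] : IsIso (CohBC.bc0 π φ π' ψ h.w M) :=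
  CohExch.isIso_bc0_of_flat_morphism h M

/-- The counit after restriction. -/
theorem exists_counit_fac (h : IsPullback ψ π' π φ) (M : P.Modules) :
    ∃ e : (Scheme.Modules.pullback π').obj ((Scheme.Modules.pullback φ).obj ((Scheme.Modules.pushforward π).obj M)) ≅
        (Scheme.Modules.pullback ψ).obj ((Scheme.Modules.pullback π).obj ((Scheme.Modules.pushforward π).obj M)),
      (Scheme.Modules.pullback π').map (CohBC.bc0 π φ π' ψ h.w M) ≫
          (Scheme.Modules.pullbackPushforwardAdjunction π').counit.app _ =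
        e.hom ≫ (Scheme.Modules.pullback ψ).map ((Scheme.Modules.pullbackPushforwardAdjunction π).counit.app M) := by
  let e : (Scheme.Modules.pullback π').obj ((Scheme.Modules.pullback φ).obj ((Scheme.Modules.pushforward π).obj M)) ≅
      (Scheme.Modules.pullback ψ).obj ((Scheme.Modules.pullback π).obj ((Scheme.Modules.pushforward π).obj M)) :=
    (Scheme.Modules.pullbackComp π' φ).app _ ≪≫ (Scheme.Modules.pullbackCongr h.w.symm).app _ ≪≫
      ((Scheme.Modules.pullbackComp ψ π).app _).symm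
  refine ⟨e, ?_⟩
  have hbc : CohBC.bc0 π φ π' ψ h.w M = ((Scheme.Modules.pullbackPushforwardAdjunction π').homEquiv _ _)
      (e.hom ≫ (Scheme.Modules.pullback ψ).map ((Scheme.Modules.pullbackPushforwardAdjunction π).counit.app M)) :=
    RelVALib.hom_ext_pullSec φ _ _ fun V _ m => by
      refine (CohExch.bc0_pullSec h.w M V m).trans ?_
      exact (H8Coh.adjointBC_app_pullSec π h.w M m).symm
  rw [hbc]
  exact ((Scheme.Modules.pullbackPushforwardAdjunction π').homEquiv_counit _ _ _).symm.trans (Equiv.symm_apply_apply _ _)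

theorem epi_counit_of_sq [QuasiCompact π] [QuasiSeparated π] (h : IsPullback ψ π' π φ) (M : P.Modules)
    [Coh.IsQCoh M] [Epi ((Scheme.Modules.pullbackPushforwardAdjunction π).counit.app M)] :
    Epi ((Scheme.Modules.pullbackPushforwardAdjunction π').counit.app ((Scheme.Modules.pullback ψ).obj M)) := by
  haveI := isIso_bc0_of_sq h M
  obtain ⟨e, he⟩ := exists_counit_fac h M
  haveI : Epi ((Scheme.Modules.pullback ψ).map ((Scheme.Modules.pullbackPushforwardAdjunction π).counit.app M)) :=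
    (Scheme.Modules.pullback ψ).map_epi _
  haveI : Epi ((Scheme.Modules.pullback π').map (CohBC.bc0 π φ π' ψ h.w M) ≫
      (Scheme.Modules.pullbackPushforwardAdjunction π').counit.app ((Scheme.Modules.pullback ψ).obj M)) := by
    rw [he]; infer_instance
  exact epi_of_epi ((Scheme.Modules.pullback π').map (CohBC.bc0 π φ π' ψ h.w M)) _

/-- Surjectivity of the counit is local on the base. -/
theorem epi_counit_of_cover [QuasiCompact π] [QuasiSeparated π] (M : P.Modules) [Coh.IsQCoh M]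
    (hc : ∀ t : T, ∃ (P' T' : Scheme.{u}) (ψ : P' ⟶ P) (π' : P' ⟶ T') (φ : T' ⟶ T) (_ : IsOpenImmersion φ),
      IsPullback ψ π' π φ ∧ t ∈ Set.range φ.base ∧
      Epi ((Scheme.Modules.pullbackPushforwardAdjunction π').counit.app ((Scheme.Modules.pullback ψ).obj M))) :
    Epi ((Scheme.Modules.pullbackPushforwardAdjunction π).counit.app M) := by
  refine FlatMor12.FlatFun.epi_of_local _ fun z => ?_
  obtain ⟨P', T', ψ, π', φ, _, h, ⟨t, ht⟩, he⟩ := hc (π.base z)
  haveI := isOpenImmersion_of_sq h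
  haveI := isIso_bc0_of_sq h M
  obtain ⟨y, hy⟩ : z ∈ Set.range ψ.base := by
    have : z ∈ π ⁻¹ᵁ (φ ''ᵁ ⊤) := ⟨t, trivial, ht⟩
    rw [← image_preimage_of_sq h] at this
    obtain ⟨y, -, hy⟩ := this
    exact ⟨y, hy⟩
  refine ⟨P', ψ, y, inferInstance, hy, ?_⟩
  obtain ⟨e, he'⟩ := exists_counit_fac h M
  haveI := he
  haveI : Epi (e.hom ≫ (Scheme.Modules.pullback ψ).map
      ((Scheme.Modules.pullbackPushforwardAdjunction π).counit.app M)) := by
    rw [← he']; infer_instance
  exact epi_of_epi e.hom _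

/-- Local freeness of the direct image is local on the base. -/
theorem isFinLocFree_push_of_cover [QuasiCompact π] [QuasiSeparated π] (M : P.Modules) [Coh.IsQCoh M]
    (hc : ∀ t : T, ∃ (P' T' : Scheme.{u}) (ψ : P' ⟶ P) (π' : P' ⟶ T') (φ : T' ⟶ T) (_ : IsOpenImmersion φ),
      IsPullback ψ π' π φ ∧ t ∈ Set.range φ.base ∧
      FlatMod.IsFinLocFree ((Scheme.Modules.pushforward π').obj ((Scheme.Modules.pullback ψ).obj M))) :
    FlatMod.IsFinLocFree ((Scheme.Modules.pushforward π).obj M) := by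
  refine DQCoh.isFinLocFree_of_local _ fun t => ?_
  obtain ⟨P', T', ψ, π', φ, hφ, h, ht, hf⟩ := hc t
  haveI := isIso_bc0_of_sq h M
  exact ⟨T', φ, hφ, ht, DQCoh.ProperSuppFlat17.isFinLocFree_of_iso
    ((asIso (CohBC.bc0 π φ π' ψ h.w M)).symm ≪≫ ((Scheme.Modules.restrictFunctorIsoPullback φ).app _).symm) hf⟩

end Groth.Agent.KPr28
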