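import Groth.Agent.CycLib28.RegTwist
import Groth.Agent.KoszPn17.ProjSpace
import Groth.Agent.DCat.PullTensor
import Groth.Agent.CycLib28.KoszulTor
import Groth.Agent.BlowUpCoh.LocFree

/-!
# Koszul complexes of twists on `P^n_Y` and propagation of regularity
-/

set_option autoImplicit false
set_option backward.isDefEq.respectTransparency false
set_option linter.style.haveILetI false

universe u v w

open CategoryTheory CategoryTheory.Limits AlgebraicGeometry TopologicalSpace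
open Groth.Agent.Coherent Groth.Agent.SerreDual

noncomputable section

namespace Groth.Agent.KPr28

section Restrict

variable {A : Scheme.{u}}

/-- An isomorphism over an open stays one after inverse image. -/
theorem isIso_restrict_pullback {B : Scheme.{u}} (h : A ⟶ B) (U : B.Opens) {M N : B.Modules} (φ : M ⟶ N)
    (hφ : IsIso ((Scheme.Modules.restrictFunctor U.ι).map φ)) :
    IsIso ((Scheme.Modules.restrictFunctor (h ⁻¹ᵁ U).ι).map ((Scheme.Modules.pullback h).map φ)) := by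
  haveI : IsIso ((Scheme.Modules.pullback U.ι).map φ) :=
    (NatIso.isIso_map_iff (Scheme.Modules.restrictFunctorIsoPullback U.ι) φ).1 hφ
  rw [NatIso.isIso_map_iff (Scheme.Modules.restrictFunctorIsoPullback (h ⁻¹ᵁ U).ι)]
  let e : Scheme.Modules.pullback h ⋙ Scheme.Modules.pullback (h ⁻¹ᵁ U).ι ≅
      Scheme.Modules.pullback U.ι ⋙ Scheme.Modules.pullback (h ∣_ U) :=
    Scheme.Modules.pullbackComp _ _ ≪≫ Scheme.Modules.pullbackCongr (morphismRestrict_ι h U).symm ≪≫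
      (Scheme.Modules.pullbackComp _ _).symm
  exact (NatIso.isIso_map_iff e φ).2 (inferInstanceAs (IsIso ((Scheme.Modules.pullback (h ∣_ U)).map _)))

/-- An isomorphism over an open stays one after tensoring. -/
theorem isIso_restrict_tensor (U : A.Opens) {M N : A.Modules} (φ : M ⟶ N) (F : A.Modules)
    (hφ : IsIso ((Scheme.Modules.restrictFunctor U.ι).map φ)) :
    IsIso ((Scheme.Modules.restrictFunctor U.ι).map (((DCoh.tensorBi (X := A)).map φ).app F)) := by
  haveI : IsIso ((Scheme.Modules.pullback U.ι).map φ) :=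
    (NatIso.isIso_map_iff (Scheme.Modules.restrictFunctorIsoPullback U.ι) φ).1 hφ
  rw [NatIso.isIso_map_iff (Scheme.Modules.restrictFunctorIsoPullback U.ι)]
  exact IsIso.of_isIso_fac_right (DCat.PullTensor.pullTensorHom_nat₁ U.ι φ F)

end Restrict

variable (n : ℕ) (Y : Scheme.{u})

/-- The projection of `P^n_Y` to `P^n_ℤ`. -/
abbrev toPnZ : KRR.PY n Y ⟶ CohB1.ProjSpace n (ULift.{u} ℤ) :=
  pullback.fst (CohB1.ProjSpace.toSpec n (ULift.{u} ℤ)) (specULiftZIsTerminal.from Y)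

/-- Tensoring the pull back of `L` with `F`. -/
abbrev twFun (F : (KRR.PY n Y).Modules) : (CohB1.ProjSpace n (ULift.{u} ℤ)).Modules ⥤ (KRR.PY n Y).Modules :=
  Scheme.Modules.pullback (toPnZ n Y) ⋙ (DCoh.tensorBi (X := KRR.PY n Y)).flip.obj F

/-- The twisted Koszul complex of `F` on `P^n_Y`. -/
theorem exists_koszul (F : (KRR.PY n Y).Modules) (a : ℤ) :
    ∃ C : CochainComplex (KRR.PY n Y).Modules ℤ, (∀ i : ℤ, C.ExactAt i) ∧
      (∀ i : ℕ, i ≤ n + 1 → Nonempty (C.X (i : ℤ) ≅ ∐ fun _ : Fin (Nat.choose (n + 1) i) => KRR.twF n Y (a + i) F)) ∧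
      (∀ i : ℤ, i < 0 ∨ (n : ℤ) + 1 < i → IsZero (C.X i)) := by
  let A : Type u := ULift.{u} ℤ
  let x : Fin (n + 1) → CohB1.polyGrading n A 1 := fun j => ⟨MvPolynomial.X j, ProjLib.X_mem_polyGrading n A j⟩
  refine KoszPn17.exists_exact_shift n (fun b => KRR.twF n Y b F)
    (fun j b => (twFun n Y F).map (mulHom (x j) (show b + ((1 : ℕ) : ℤ) = b + 1 by simp)))
    (fun i j b => ?_) (fun j => toPnZ n Y ⁻¹ᵁ Proj.basicOpen (CohB1.polyGrading n A) (x j).1) (fun y => ?_)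
    (fun j b => ?_) a
  · rw [← Functor.map_comp, ← Functor.map_comp,
      KoszPn17.mulHom_comm (x i) (x j) _ _ _ _]
  · have hy : (toPnZ n Y).base y ∈ ⨆ j : Fin (n + 1), Proj.basicOpen (CohB1.polyGrading n A) (MvPolynomial.X j : MvPolynomial (Fin (n + 1)) A) :=
      (ProjLib.iSup_basicOpen_X n A).symm ▸ Opens.mem_top ((toPnZ n Y).base y)
    obtain ⟨j, hj⟩ := Opens.mem_iSup.1 hy
    exact ⟨j, hj⟩
  · exact isIso_restrict_tensor _ _ F (isIso_restrict_pullback (toPnZ n Y) _ _ (KoszPn17.isIso_restrict_mulHom (x j) _))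

/-- Congruence of constant finite coproducts. -/
def sigmaCongr {C : Type w} [Category.{v} C] {m m' : ℕ} (hm : m = m') {M M' : C}
    [HasCoproduct fun _ : Fin m => M] [HasCoproduct fun _ : Fin m' => M'] (e : M ≅ M') :
    (∐ fun _ : Fin m => M) ≅ ∐ fun _ : Fin m' => M' :=
  Sigma.whiskerEquiv (f := fun _ : Fin m => M) (g := fun _ : Fin m' => M') (finCongr hm) fun _ => e.symm

/-- A coproduct over a one element set. -/
theorem nonempty_sigma_one {C : Type w} [Category.{v} C] {m : ℕ} (hm : m = 1) (M : C)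
    [HasCoproduct fun _ : Fin m => M] : Nonempty ((∐ fun _ : Fin m => M) ≅ M) := by
  subst hm
  exact ⟨coproductUniqueIso _⟩

/-- The Koszul complex, indexed downwards from its last term. -/
theorem exists_koszulSeq (F : (KRR.PY n Y).Modules) (a : ℤ) :
    ∃ (D : ℕ → (KRR.PY n Y).Modules) (f : ∀ p, D (p + 1) ⟶ D p) (w : ∀ p, f (p + 1) ≫ f p = 0),
      (∀ p, (ShortComplex.mk (f (p + 1)) (f p) (w p)).Exact) ∧ Epi (f 0) ∧
      (∀ p, p ≤ n + 1 → Nonempty (D p ≅ ∐ fun _ : Fin (Nat.choose (n + 1) p) => KRR.twF n Y (a - p) F)) ∧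
      (∀ p, n + 1 < p → IsZero (D p)) := by
  obtain ⟨C, hex, hX, hz⟩ := exists_koszul n Y F (a - (n + 1))
  let N : ℤ := (n : ℤ) + 1
  refine ⟨fun p => C.X (N - p), fun p => C.d (N - (p + 1 : ℕ)) (N - p), fun p => C.d_comp_d _ _ _, fun p => ?_, ?_,
    fun p hp => ?_, fun p hp => hz _ (Or.inl (by omega))⟩
  · exact (C.exactAt_iff' (N - (p + 1 + 1 : ℕ)) (N - (p + 1 : ℕ)) (N - p) (by simp; omega) (by simp; omega)).1 (hex _)
  · have h := (C.exactAt_iff' (N - (0 + 1 : ℕ)) (N - (0 : ℕ)) (N + 1) (by simp) (by simp)).1 (hex _)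
    exact h.epi_f ((hz (N + 1) (Or.inr (by omega))).eq_of_tgt _ _)
  · obtain ⟨e⟩ := hX (n + 1 - p) (by omega)
    have h1 : N - (p : ℤ) = ((n + 1 - p : ℕ) : ℤ) := by omega
    have h2 : a - (n + 1) + ((n + 1 - p : ℕ) : ℤ) = a - p := by omega
    refine ⟨eqToIso (congrArg C.X h1) ≪≫ e ≪≫ ?_⟩
    exact sigmaCongr (Nat.choose_symm hp) (eqToIso (congrArg (fun d => KRR.twF n Y d F) h2))

variable {n Y}

/-- `R^j p_*` of the underlying abelian sheaf vanishes. -/
abbrev Van (j : ℕ) (M : (KRR.PY n Y).Modules) : Prop :=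
  IsZero ((Coh.RpushAb (KRR.pr n Y) j).obj (Coh.toAb M))

theorem van_of_iso {j : ℕ} {M M' : (KRR.PY n Y).Modules} (e : M ≅ M') (h : Van j M) : Van j M' :=
  h.of_iso ((Coh.RpushAb (KRR.pr n Y) j).mapIso ((toAbFunctor _).mapIso e)).symm

theorem van_sigma {j m : ℕ} (M : (KRR.PY n Y).Modules) (h : Van j M) :
    Van j (∐ fun _ : Fin m => M) := by
  classical
  haveI : HasFiniteBiproducts (KRR.PY n Y).Modules := Abelian.hasFiniteBiproducts
  haveI : HasFiniteBiproducts (Sheaf (Opens.grothendieckTopology ↥Y) AddCommGrpCat.{u}) :=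
    Abelian.hasFiniteBiproducts
  let G := toAbFunctor (KRR.PY n Y) ⋙ Coh.RpushAb (KRR.pr n Y) j
  refine IsZero.of_iso ?_ (G.mapIso (biproduct.isoCoproduct fun _ : Fin m => M).symm ≪≫
    G.mapBiproduct (fun _ : Fin m => M))
  rw [IsZero.iff_id_eq_zero]
  exact biproduct.hom_ext _ _ fun i => (h : IsZero (G.obj M)).eq_of_tgt _ _

theorem van_X₃ {S : ShortComplex (KRR.PY n Y).Modules} (hS : S.ShortExact) (j : ℕ)
    (h₂ : Van j S.X₂) (h₁ : Van (j + 1) S.X₁) : Van j S.X₃ := by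
  let _ := HasDerivedCategory.standard (Sheaf (Opens.grothendieckTopology ↥(KRR.PY n Y)) AddCommGrpCat.{u})
  let _ := HasDerivedCategory.standard (Sheaf (Opens.grothendieckTopology ↥Y) AddCommGrpCat.{u})
  let F := Coh.pushAb (KRR.pr n Y)
  have hS' := toAb_shortExact hS
  obtain ⟨e₁⟩ := SpecSeq.nonempty_rdSingle_iso F (Coh.toAb S.X₁) (j + 1)
  obtain ⟨e₂⟩ := SpecSeq.nonempty_rdSingle_iso F (Coh.toAb S.X₂) j
  obtain ⟨e₃⟩ := SpecSeq.nonempty_rdSingle_iso F (Coh.toAb S.X₃) j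
  obtain ⟨δ, hT⟩ := SpecSeq.exists_plus_singleTriangle hS'
  exact (((SpecSeq.rdH F).homologySequence_exact₃ _ hT (j : ℤ) ((j + 1 : ℕ) : ℤ) (by push_cast; ring)).isZero_X₂
    ((h₂.of_iso e₂).eq_of_src _ _) ((h₁.of_iso e₁).eq_of_tgt _ _)).of_iso e₃.symm

/-- Dimension shifting along an exact sequence. -/
theorem van_of_exact : ∀ (N j : ℕ) (D : ℕ → (KRR.PY n Y).Modules) (f : ∀ p, D (p + 1) ⟶ D p)
    (w : ∀ p, f (p + 1) ≫ f p = 0), (∀ p, (ShortComplex.mk (f (p + 1)) (f p) (w p)).Exact) → Epi (f 0) →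
    (∀ p, N < p → IsZero (D p)) → (∀ p, Van (j + p) (D (p + 1))) → Van j (D 0) := by
  intro N
  induction N with
  | zero =>
    intro j D f w _ h0 hz _
    haveI := h0
    exact (Coh.RpushAb (KRR.pr n Y) j).map_isZero ((toAbFunctor _).map_isZero (IsZero.of_epi (f 0) (hz 1 one_pos)))
  | succ N ih =>
    intro j D f w hex h0 hz hv
    haveI := h0
    let D' : ℕ → (KRR.PY n Y).Modules := fun p => match p with
      | 0 => kernel (f 0)
      | q + 1 => D (q + 2)
    let f' : ∀ p, D' (p + 1) ⟶ D' p := fun p => match p with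
      | 0 => kernel.lift (f 0) (f 1) (w 0)
      | q + 1 => f (q + 2)
    have w' : ∀ p, f' (p + 1) ≫ f' p = 0 := fun p => match p with
      | 0 => (cancel_mono (kernel.ι (f 0))).1 (by
          show (f 2 ≫ kernel.lift (f 0) (f 1) (w 0)) ≫ _ = _
          rw [Category.assoc, kernel.lift_ι, zero_comp]; exact w 1)
      | q + 1 => w (q + 2)
    have hex' : ∀ p, (ShortComplex.mk (f' (p + 1)) (f' p) (w' p)).Exact := fun p => match p with
      | 0 => by
          let φ : ShortComplex.mk (f' 1) (f' 0) (w' 0) ⟶ ShortComplex.mk (f 2) (f 1) (w 1) :=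
            { τ₁ := 𝟙 _, τ₂ := 𝟙 _, τ₃ := kernel.ι (f 0)
              comm₁₂ := by simp [f']
              comm₂₃ := by simp [f'] }
          haveI : Epi φ.τ₁ := inferInstanceAs (Epi (𝟙 _))
          haveI : IsIso φ.τ₂ := inferInstanceAs (IsIso (𝟙 _))
          haveI : Mono φ.τ₃ := inferInstanceAs (Mono (kernel.ι (f 0)))
          exact (ShortComplex.exact_iff_of_epi_of_isIso_of_mono φ).2 (hex 1)
      | q + 1 => hex (q + 2)
    have h0' : Epi (f' 0) := (ShortComplex.exact_iff_epi_kernel_lift _).1 (hex 0)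
    have hz' : ∀ p, N < p → IsZero (D' p) := fun p hp => match p, hp with
      | q + 1, hp => hz (q + 2) (by omega)
    have hv' : ∀ p, Van (j + 1 + p) (D' (p + 1)) := fun p => by
      rw [add_assoc, add_comm 1 p]
      exact hv (p + 1)
    have hS : (ShortComplex.mk (kernel.ι (f 0)) (f 0) (kernel.condition _)).ShortExact :=
      ShortComplex.ShortExact.mk' (ShortComplex.exact_of_f_is_kernel _ (kernelIsKernel _)) inferInstance h0
    exact van_X₃ hS j (hv 0) (ih (j + 1) D' f' w' hex' h0' hz' hv')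

theorem twF_iso {M M' : (KRR.PY n Y).Modules} (d : ℤ) (e : M ≅ M') :
    Nonempty (KRR.twF n Y d M ≅ KRR.twF n Y d M') :=
  ⟨((DCoh.tensorBi (X := KRR.PY n Y)).obj (Twist.twistOver n Y d)).mapIso e⟩

theorem isRegSheaf_of_iso {M M' : (KRR.PY n Y).Modules} (e : M ≅ M') (h : KRR.IsRegSheaf n Y M) :
    KRR.IsRegSheaf n Y M' := fun i hi => by
  obtain ⟨e'⟩ := twF_iso (-(i : ℤ)) e
  exact van_of_iso e' (h i hi)

/-- Regularity propagates upwards. -/
theorem van_twF_of_reg {F : (KRR.PY n Y).Modules} (hreg : KRR.IsRegSheaf n Y F) :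
    ∀ (t : ℕ) (i : ℕ), 1 ≤ i → Van i (KRR.twF n Y ((t : ℤ) - i) F) := by
  intro t
  induction t using Nat.strong_induction_on with
  | _ t ih =>
    intro i hi
    rcases Nat.eq_zero_or_pos t with rfl | ht
    · simpa using hreg i hi
    obtain ⟨D, f, w, hex, hepi, hX, hz⟩ := exists_koszulSeq n Y F ((t : ℤ) - i)
    obtain ⟨e₀⟩ := hX 0 (Nat.zero_le _)
    have h : Van i (D 0) := van_of_exact (n + 1) i D f w hex hepi hz fun p => by
      by_cases hp : p + 1 ≤ n + 1
      · obtain ⟨e⟩ := hX (p + 1) hp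
        refine van_of_iso e.symm (van_sigma _ ?_)
        rw [show (t : ℤ) - i - ((p + 1 : ℕ) : ℤ) = ((t - 1 : ℕ) : ℤ) - ((i + p : ℕ) : ℤ) by omega]
        exact ih (t - 1) (by omega) (i + p) (by omega)
      · exact (Coh.RpushAb (KRR.pr n Y) (i + p)).map_isZero ((toAbFunctor _).map_isZero (hz _ (by omega)))
    obtain ⟨e₁⟩ := nonempty_sigma_one (Nat.choose_zero_right (n + 1)) (KRR.twF n Y ((t : ℤ) - i - ((0 : ℕ) : ℤ)) F)
    let e : D 0 ≅ KRR.twF n Y ((t : ℤ) - i) F := e₀ ≪≫ e₁ ≪≫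
      eqToIso (congrArg (fun d => KRR.twF n Y d F) (sub_zero ((t : ℤ) - i)))
    exact van_of_iso e h

theorem isRegSheaf_twF {F : (KRR.PY n Y).Modules} (hreg : KRR.IsRegSheaf n Y F) {m : ℤ} (hm : 0 ≤ m) :
    KRR.IsRegSheaf n Y (KRR.twF n Y m F) := fun i hi => by
  obtain ⟨t, rfl⟩ := Int.eq_ofNat_of_zero_le hm
  obtain ⟨e⟩ := CM28.nonempty_twF_twF F (show -(i : ℤ) + (t : ℤ) = (t : ℤ) - i by ring)
  exact van_of_iso e.symm (van_twF_of_reg hreg t i hi)

theorem van_of_reg {F : (KRR.PY n Y).Modules} (hreg : KRR.IsRegSheaf n Y F) (i : ℕ) (hi : 1 ≤ i) : Van i F := by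
  obtain ⟨e⟩ := CM28.nonempty_twF_zero F
  have h := van_twF_of_reg hreg i i hi
  rw [sub_self] at h
  exact van_of_iso e h

end Groth.Agent.KPr28
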