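import Groth.Agent.CycLib28.RegTwist
import Groth.Agent.DCat.PullTensor
import Groth.Agent.KPr28.Koszul

/-!
# Base change of projective space
-/

set_option autoImplicit false
set_option linter.style.haveILetI false
set_option backward.isDefEq.respectTransparency false

universe u v w

open CategoryTheory CategoryTheory.Limits AlgebraicGeometry TopologicalSpace
open Groth.Agent.Coherent

noncomputable section

namespace Groth.Agent.KPr28

theorem isPullback_projSpaceMap (n : ℕ) {S T : Scheme.{u}} (φ : T ⟶ S)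
    (hsq : KRR.projSpaceMap n φ ≫ KRR.pr n S = KRR.pr n T ≫ φ) :
    IsPullback (KRR.projSpaceMap n φ) (KRR.pr n T) (KRR.pr n S) φ := by
  refine IsPullback.of_right ?_ hsq
    (IsPullback.of_hasPullback (CohB1.ProjSpace.toSpec n (ULift.{u} ℤ)) (specULiftZIsTerminal.from S))
  have h1 : KRR.projSpaceMap n φ ≫
        pullback.fst (CohB1.ProjSpace.toSpec n (ULift.{u} ℤ)) (specULiftZIsTerminal.from S) =
      pullback.fst (CohB1.ProjSpace.toSpec n (ULift.{u} ℤ)) (specULiftZIsTerminal.from T) :=
    (pullback.lift_fst _ _ _).trans (Category.comp_id _)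
  show IsPullback (KRR.projSpaceMap n φ ≫ pullback.fst (CohB1.ProjSpace.toSpec n (ULift.{u} ℤ)) (specULiftZIsTerminal.from S)) _ _ _
  rw [h1, show φ ≫ specULiftZIsTerminal.from S = specULiftZIsTerminal.from T from
    specULiftZIsTerminal.hom_ext _ _]
  exact IsPullback.of_hasPullback _ _

theorem nonempty_pullback_twF (n : ℕ) {S T : Scheme.{u}} (φ : T ⟶ S) (d : ℤ) (F : (KRR.PY n S).Modules) :
    Nonempty ((Scheme.Modules.pullback (KRR.projSpaceMap n φ)).obj (KRR.twF n S d F) ≅
      KRR.twF n T d ((Scheme.Modules.pullback (KRR.projSpaceMap n φ)).obj F)) := by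
  let p := pullback.fst (CohB1.ProjSpace.toSpec n (ULift.{u} ℤ)) (specULiftZIsTerminal.from S)
  have h1 : KRR.projSpaceMap n φ ≫ p =
      pullback.fst (CohB1.ProjSpace.toSpec n (ULift.{u} ℤ)) (specULiftZIsTerminal.from T) :=
    (pullback.lift_fst _ _ _).trans (Category.comp_id _)
  exact ⟨DCat.PullTensor.pullTensorIso (KRR.projSpaceMap n φ) (Twist.twistOver n S d) F ≪≫
    AmpleLib.tensorIso ((Scheme.Modules.pullbackComp _ p).app _ ≪≫ (Scheme.Modules.pullbackCongr h1).app _)
      (Iso.refl _)⟩

end Groth.Agent.KPr28
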