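import Groth.Agent.KPr28.Koszul
import Groth.Agent.KPr28.OpenBC
import Groth.Agent.KPr28.PullSq
import Groth.Agent.RelVALib.ChowPn
import Groth.Agent.CohExch.TwistBase
import Groth.Agent.ExtFilt28.LocFree
import Groth.Agent.ExtFilt28.Main
import Groth.Agent.Coherent.Serre.AmpleAffine
import Groth.Agent.AmpleLib.Relative
import Groth.Agent.KoszPn17.TwistGen
import Groth.Agent.Coherent.CohBC.HomSheaf
import Groth.Agent.Props12.FinLocFree
import Groth.Agent.ProjVanish14.Basic
import Groth.Agent.FlatMor12.FlatFun.GenPtsStage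
import Groth.Agent.Coherent.ProjSpaceBC

/-!
# Eventual vanishing for bundles on projective space over any quasi-compact base
-/

set_option autoImplicit false
set_option linter.style.haveILetI false
set_option backward.isDefEq.respectTransparency.types false

universe u

open CategoryTheory CategoryTheory.Limits AlgebraicGeometry TopologicalSpace Opposite
open Groth.Agent.Coherent

noncomputable section

namespace Groth.Agent.KPr28.Gen

variable {n : ℕ} {Y : Scheme.{u}}

theorem isFinLocFree_twistOver (d : ℤ) : FlatMod.IsFinLocFree (Twist.twistOver n Y d) :=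
  Coherent.isFinLocFree_of_invertible (CM28.isInvertible_twistOver n Y d)

theorem isFinLocFree_twF {F : (KRR.PY n Y).Modules} (hF : FlatMod.IsFinLocFree F) (d : ℤ) :
    FlatMod.IsFinLocFree (KRR.twF n Y d F) :=
  ExtFilt28.isFinLocFree_tensor (isFinLocFree_twistOver d) hF

theorem isQCoh_twF {F : (KRR.PY n Y).Modules} [Coh.IsQCoh F] (d : ℤ) : Coh.IsQCoh (KRR.twF n Y d F) :=
  haveI : Coh.IsQCoh (Twist.twistOver n Y d) :=
    AmpleLib.isQCoh_of_isInvertible (CM28.isInvertible_twistOver n Y d)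
  Coherent.isQCoh_tensorMod _ _

theorem isAmple_twist [IsAffine Y] : CohB1.IsAmple (Twist.twistOver n Y 1) := by
  haveI := RelVALib.isProper_toBase n Y
  haveI : CompactSpace ↥(CohB1.ProjSpaceOver n Y) :=
    QuasiCompact.compactSpace_of_compactSpace (CohB1.ProjSpaceOver.toBase n Y)
  haveI : QuasiCompact (𝟙 (CohB1.ProjSpaceOver n Y) ≫ CohB1.ProjSpaceOver.toBase n Y) := by
    rw [Category.id_comp]; infer_instance
  have h := CohExch.isAmple_restrict_twist n (𝟙 (CohB1.ProjSpaceOver n Y)) (isAffineOpen_top Y)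
  have h2 : CohB1.IsAmple ((Scheme.Modules.pullback
      ((𝟙 (CohB1.ProjSpaceOver n Y) ≫ CohB1.ProjSpaceOver.toBase n Y) ⁻¹ᵁ ⊤).ι).obj
        ((Scheme.Modules.pullback (𝟙 _)).obj (Twist.twistOver n Y 1))) :=
    AmpleLib.isAmple_of_iso ((Scheme.Modules.restrictFunctorIsoPullback _).app _) h
  have h3 := AmpleLib.isAmple_pullback_of_range_subset (L := (Scheme.Modules.pullback (𝟙 _)).obj (Twist.twistOver n Y 1))
    (𝟙 (CohB1.ProjSpaceOver n Y))
    Topology.IsEmbedding.id ((𝟙 (CohB1.ProjSpaceOver n Y) ≫ CohB1.ProjSpaceOver.toBase n Y) ⁻¹ᵁ ⊤)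
    (fun _ _ => trivial) h2
  exact AmpleLib.isAmple_of_iso ((Scheme.Modules.pullbackId _).app _ ≪≫ (Scheme.Modules.pullbackId _).app _) h3

theorem nonempty_tensorPow_twist (n : ℕ) (Y : Scheme.{u}) : ∀ k : ℕ,
    Nonempty (CohB1.tensorPow (Twist.twistOver n Y 1) k ≅ Twist.twistOver n Y (k : ℤ)) := by
  intro k
  induction k with
  | zero =>
    obtain ⟨e⟩ := CM28.nonempty_twistOver_zero n Y
    exact ⟨e.symm⟩
  | succ k ih =>
    obtain ⟨e⟩ := ih
    obtain ⟨e'⟩ := CM28.nonempty_twistOver_add n Y (show (k : ℤ) + 1 = ((k + 1 : ℕ) : ℤ) by push_cast; rfl)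
    exact ⟨AmpleLib.tensorIso e (Iso.refl _) ≪≫ e'⟩

theorem van_twistOver (d : ℤ) (q : ℕ) (hq : 1 ≤ q) (hd : -(n : ℤ) ≤ d) : Van q (Twist.twistOver n Y d) := by
  haveI : Coh.IsQCoh (Coh.structureModule Y) :=
    CAlgH3.LocFreeFactor.isQCoh_of_finLocFree (Coherent.CohBC.isFinLocFree_structureModule Y)
  refine van_of_iso ?_ (ProjVanish14.isZero_rpushAb_twist (d := d) (Quot8.isPn_projSpaceOver n Y)
    (Coh.structureModule Y) inferInstance q (fun h => by omega) (fun h => by omega))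
  exact AmpleLib.tensorIso (PicLoc.pullbackStructureIso _) (Iso.refl _) ≪≫ AmpleLib.unitTensorIso _

theorem isFinLocFree_freeMod {X : Scheme.{u}} (I : Type u) [Fintype I] :
    FlatMod.IsFinLocFree (Coherent.freeMod X I) := by
  let c : I ≃ ULift.{u} (Fin (Fintype.card I)) := (Fintype.equivFin I).trans Equiv.ulift.symm
  let e : Coherent.freeMod X I ≅ Coherent.freeMod X (ULift.{u} (Fin (Fintype.card I))) :=
    { hom := freeDesc fun i => freeInj (c i)
      inv := freeDesc fun j => freeInj (c.symm j)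
      hom_inv_id := freeMod_hom_ext fun i => by
        rw [freeInj_freeDesc_assoc, freeInj_freeDesc, Equiv.symm_apply_apply, Category.comp_id]
      inv_hom_id := freeMod_hom_ext fun j => by
        rw [freeInj_freeDesc_assoc, freeInj_freeDesc, Equiv.apply_symm_apply, Category.comp_id] }
  exact DQCoh.ProperSuppFlat17.isFinLocFree_of_iso (e ≪≫ Props12.freeModIso X _).symm
    (FlatMor12.FlatFun.isFinLocFree_freeMod X _)

theorem van_twF_free (I : Type u) [Fintype I] (d : ℤ) (q : ℕ) (hq : 1 ≤ q) (hd : -(n : ℤ) ≤ d) :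
    Van q (KRR.twF n Y d (Coherent.freeMod (KRR.PY n Y) I)) := by
  haveI : IsProper (KRR.pr n Y) := RelVALib.isProper_toBase n Y
  haveI : Coh.IsQCoh (Twist.twistOver n Y d) :=
    AmpleLib.isQCoh_of_isInvertible (CM28.isInvertible_twistOver n Y d)
  haveI : Coh.IsQCoh (Coherent.freeMod (KRR.PY n Y) I) :=
    (Coherent.CohBC.isCoh_of_isFinLocFree (isFinLocFree_freeMod I)).1
  haveI : Coh.IsQCoh (CohB1.tensorMod (Coherent.freeMod (KRR.PY n Y) I) (Twist.twistOver n Y d)) :=
    Coherent.isQCoh_tensorMod _ _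
  refine van_of_iso (AmpleLib.tensorComm _ _) ((isZero_rpushAb_iff _ q).2 fun V hV => ?_)
  exact Coherent.Serre.subsingleton_H'_free_twist _ q _ ((isZero_rpushAb_iff _ q).1 (van_twistOver d q hq hd) V hV)

/-- Over an affine base, a bundle is the quotient of a twisted free module by a bundle. -/
theorem exists_epi_free [IsAffine Y] {F : (KRR.PY n Y).Modules} (hF : FlatMod.IsFinLocFree F) :
    ∃ (a : ℕ) (I : Type u) (_ : Fintype I) (S : ShortComplex (KRR.PY n Y).Modules), S.ShortExact ∧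
      FlatMod.IsFinLocFree S.X₁ ∧ S.X₂ = KRR.twF n Y (-(a : ℤ)) (Coherent.freeMod (KRR.PY n Y) I) ∧
      S.X₃ = F := by
  obtain ⟨a, ha⟩ := Coherent.Serre.exists_epi_free_twist (isAmple_twist (n := n) (Y := Y)) F
    (Coherent.CohBC.isCoh_of_isFinLocFree hF)
  obtain ⟨I, hI, π, hπ⟩ := ha a le_rfl
  obtain ⟨e⟩ := nonempty_tensorPow_twist n Y a
  obtain ⟨e'⟩ := CM28.nonempty_twF_twF F (show -(a : ℤ) + (a : ℤ) = 0 by ring)
  obtain ⟨e''⟩ := CM28.nonempty_twF_zero F
  let T := Coherent.tensE (Twist.twistOver n Y (-(a : ℤ)))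
  haveI : PreservesFiniteColimits T := Coherent.preservesFiniteColimits_tensE (isFinLocFree_twistOver _)
  let θ : T.obj (CohB1.tensorMod F (CohB1.tensorPow (Twist.twistOver n Y 1) a)) ≅ F :=
    T.mapIso (AmpleLib.tensorComm _ _ ≪≫ AmpleLib.tensorIso e (Iso.refl _)) ≪≫ e' ≪≫ e''
  haveI : Epi π := hπ
  haveI : Epi (T.map π) := T.map_epi π
  let g : T.obj (Coherent.freeMod (KRR.PY n Y) I) ⟶ F := T.map π ≫ θ.hom
  refine ⟨a, I, hI, ShortComplex.mk (kernel.ι g) g (kernel.condition _),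
    ShortComplex.ShortExact.mk' (ShortComplex.exact_of_f_is_kernel _ (kernelIsKernel _)) inferInstance
      (inferInstanceAs (Epi (T.map π ≫ θ.hom))),
    KoszPn17.isFinLocFree_kernel g (isFinLocFree_twF (isFinLocFree_freeMod I) _) hF, rfl, rfl⟩

/-- Higher direct images of high twists of bundles vanish, over an affine base. -/
theorem exists_bound_affine [IsAffine Y] (F : (KRR.PY n Y).Modules) (hF : FlatMod.IsFinLocFree F) :
    ∃ N : ℕ, ∀ m : ℤ, (N : ℤ) ≤ m → ∀ q : ℕ, 1 ≤ q → Van q (KRR.twF n Y m F) := by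
  haveI : IsProper (KRR.pr n Y) := RelVALib.isProper_toBase n Y
  obtain ⟨D, hD⟩ := Coherent.exists_bound_isZero_rpushAb (KRR.pr n Y)
  suffices H : ∀ k : ℕ, ∀ F : (KRR.PY n Y).Modules, FlatMod.IsFinLocFree F →
      ∃ N : ℕ, ∀ m : ℤ, (N : ℤ) ≤ m → ∀ q : ℕ, 1 ≤ q → D ≤ q + k → Van q (KRR.twF n Y m F) by
    obtain ⟨N, hN⟩ := H D F hF
    exact ⟨N, fun m hm q hq => hN m hm q hq (by omega)⟩
  intro k
  induction k with
  | zero =>
    intro F hF
    refine ⟨0, fun m _ q _ hq => ?_⟩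
    haveI : Coh.IsQCoh F := (Coherent.CohBC.isCoh_of_isFinLocFree hF).1
    exact hD _ (isQCoh_twF m) q (by omega)
  | succ k ih =>
    intro F hF
    obtain ⟨a, I, _, S, hS, hK, h₂, h₃⟩ := exists_epi_free hF
    obtain ⟨N, hN⟩ := ih S.X₁ hK
    refine ⟨max N a, fun m hm q hq hqk => ?_⟩
    let T := Coherent.tensE (Twist.twistOver n Y m)
    haveI : PreservesFiniteLimits T := Coherent.preservesFiniteLimits_tensE (isFinLocFree_twistOver _)
    haveI : PreservesFiniteColimits T := Coherent.preservesFiniteColimits_tensE (isFinLocFree_twistOver _)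
    haveI : T.Additive := Functor.additive_of_preserves_binary_products T
    have h := van_X₃ (hS.map_of_exact T) q ?_ (hN m (by omega) (q + 1) (by omega) (by omega))
    · exact (congrArg (fun M => Van q (T.obj M)) h₃).mp h
    · show Van q (T.obj S.X₂)
      rw [h₂]
      obtain ⟨e⟩ := CM28.nonempty_twF_twF (Coherent.freeMod (KRR.PY n Y) I)
        (show m + -(a : ℤ) = m - a by ring)
      exact van_of_iso e.symm (van_twF_free I (m - a) q hq (by omega))

theorem projSpaceMap_pr {T : Scheme.{u}} (φ : T ⟶ Y) :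
    KRR.projSpaceMap n φ ≫ KRR.pr n Y = KRR.pr n T ≫ φ :=
  pullback.lift_snd _ _ _

/-- Higher direct images of high twists of bundles vanish. -/
theorem exists_bound_van [CompactSpace Y] {F : (KRR.PY n Y).Modules} (hF : FlatMod.IsFinLocFree F) :
    ∃ N : ℕ, ∀ m : ℤ, (N : ℤ) ≤ m → ∀ p : ℕ, 1 ≤ p → Van p (KRR.twF n Y m F) := by
  haveI : IsProper (KRR.pr n Y) := RelVALib.isProper_toBase n Y
  have h : ∀ V : Y.affineOpens, ∃ N : ℕ, ∀ m : ℤ, (N : ℤ) ≤ m → ∀ p : ℕ, 1 ≤ p →
      Van p (KRR.twF n V.1.toScheme m ((Scheme.Modules.pullback (KRR.projSpaceMap n V.1.ι)).obj F)) :=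
    fun V => haveI : IsAffine V.1.toScheme := V.2
      exists_bound_affine _ (DCat.PullPerf.isFinLocFree_pullback _ hF)
  choose N hN using h
  obtain ⟨t, ht⟩ := isCompact_univ.elim_finite_subcover (fun V : Y.affineOpens => (V.1 : Set Y))
    (fun V => V.1.isOpen) (fun x _ => by
      obtain ⟨V, hV, hx, -⟩ :=
        Opens.isBasis_iff_nbhd.mp Y.isBasis_affineOpens (show x ∈ (⊤ : Y.Opens) from trivial)
      exact Set.mem_iUnion.mpr ⟨⟨V, hV⟩, hx⟩)
  refine ⟨t.sup N, fun m hm p hp => ?_⟩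
  haveI : Coh.IsQCoh F := (Coherent.CohBC.isCoh_of_isFinLocFree hF).1
  haveI := isQCoh_twF (F := F) m
  refine isZero_rpushAb_of_cover (KRR.twF n Y m F) p fun y => ?_
  obtain ⟨V, hV, hy⟩ := Set.mem_iUnion₂.mp (ht (Set.mem_univ y))
  refine ⟨_, _, KRR.projSpaceMap n V.1.ι, KRR.pr n V.1.toScheme, V.1.ι, inferInstance,
    KPr28.isPullback_projSpaceMap n _ (projSpaceMap_pr _), ⟨⟨y, hy⟩, rfl⟩, ?_⟩
  obtain ⟨e⟩ := KPr28.nonempty_pullback_twF n V.1.ι m F
  exact van_of_iso e.symm (hN V m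
    (le_trans (by exact_mod_cast Finset.le_sup (f := N) hV) hm) p hp)

end Groth.Agent.KPr28.Gen
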