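import Groth.Agent.KPr28.Reg
import Groth.Agent.KPush28.Disjoint
import Groth.Agent.Coherent.ProjFormula
import Groth.Agent.CohCmpLib.Edge

/-!
# K₀ of regular bundles on `P^n_Y`
-/

set_option autoImplicit false
set_option backward.isDefEq.respectTransparency false
set_option linter.style.haveILetI false

universe u v w

open CategoryTheory CategoryTheory.Limits AlgebraicGeometry TopologicalSpace
open Groth.Agent.Coherent

noncomputable section

namespace Groth.Agent.KPr28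

section Generic

variable {A : Type v} [Category.{w} A] [Abelian A] (P : ObjectProperty A)

theorem k0_induction {R : KZero.K0sub P → Prop} (h0 : R 0) (hcl : ∀ E, P E → R (KZero.clSub P E))
    (hneg : ∀ x, R x → R (-x)) (hadd : ∀ x y, R x → R y → R (x + y)) (x : KZero.K0sub P) : R x := by
  obtain ⟨y, rfl⟩ := QuotientAddGroup.mk_surjective x
  induction y using FreeAbelianGroup.induction_on with
  | zero => exact h0
  | of E =>
    have : KZero.clSub P E.1 = QuotientAddGroup.mk (FreeAbelianGroup.of E) := by rw [KZero.clSub, dif_pos E.2]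
    exact this ▸ hcl E.1 E.2
  | neg E h => exact hneg _ h
  | add a b ha hb => exact hadd _ _ ha hb

theorem exists_k0lift {G : Type v} [AddCommGroup G] (f : A → G)
    (hf : ∀ S : ShortComplex A, S.ShortExact → P S.X₁ → P S.X₂ → P S.X₃ → f S.X₂ = f S.X₁ + f S.X₃) :
    ∃ F : KZero.K0sub P →+ G, ∀ E, P E → F (KZero.clSub P E) = f E := by
  refine ⟨QuotientAddGroup.lift _ (FreeAbelianGroup.lift fun E => f E.1) ?_, fun E hE => ?_⟩
  · refine (AddSubgroup.closure_le _).2 ?_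
    rintro _ ⟨S, h₁, h₂, h₃, hS, rfl⟩
    simp [hf S hS h₁ h₂ h₃]
  · rw [KZero.clSub, dif_pos hE]
    exact FreeAbelianGroup.lift_apply_of _ _

variable {P}

/-- An additive function on a finite coproduct of copies. -/
theorem sigma_copies (hmid : ∀ S : ShortComplex A, S.ShortExact → P S.X₁ → P S.X₃ → P S.X₂)
    (hzero : ∀ Z : A, IsZero Z → P Z) {G : Type u} [AddCommGroup G] (Φ : A → G)
    (hΦ : ∀ S : ShortComplex A, S.ShortExact → P S.X₁ → P S.X₂ → P S.X₃ → Φ S.X₂ = Φ S.X₁ + Φ S.X₃)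
    [HasFiniteCoproducts A] (M : A) (hM : P M) :
    ∀ m : ℕ, P (∐ fun _ : Fin m => M) ∧ Φ (∐ fun _ : Fin m => M) = (m : ℤ) • Φ M := by
  intro m
  induction m with
  | zero =>
    have hz : IsZero (∐ fun _ : Fin 0 => M) := by
      rw [IsZero.iff_id_eq_zero]
      exact Sigma.hom_ext _ _ fun b => b.elim0
    refine ⟨hzero _ hz, ?_⟩
    have hS : (ShortComplex.mk (0 : (∐ fun _ : Fin 0 => M) ⟶ ∐ fun _ : Fin 0 => M)
        (0 : (∐ fun _ : Fin 0 => M) ⟶ ∐ fun _ : Fin 0 => M) comp_zero).ShortExact :=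
      ShortComplex.ShortExact.mk' (ShortComplex.exact_of_isZero_X₂ _ hz)
        ⟨fun _ _ _ => hz.eq_of_tgt _ _⟩ ⟨fun _ _ _ => hz.eq_of_src _ _⟩
    simpa using hΦ _ hS (hzero _ hz) (hzero _ hz) (hzero _ hz)
  | succ m ih =>
    let i0 : M ⟶ ∐ fun _ : Fin (m + 1) => M := Sigma.ι (fun _ : Fin (m + 1) => M) 0
    let g : (∐ fun _ : Fin (m + 1) => M) ⟶ ∐ fun _ : Fin m => M :=
      Sigma.desc (Fin.cases 0 fun b => Sigma.ι (fun _ : Fin m => M) b)
    let S := ShortComplex.mk i0 g (by simp [i0, g])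
    let sp : S.Splitting :=
      { r := Sigma.desc (Fin.cases (𝟙 M) fun _ => 0)
        s := Sigma.desc fun b => Sigma.ι (fun _ : Fin (m + 1) => M) b.succ
        f_r := by simp [S, i0]
        s_g := Sigma.hom_ext _ _ fun b => by simp [S, g]
        id := Sigma.hom_ext _ _ fun b => by
          refine Fin.cases ?_ (fun b' => ?_) b <;> simp [S, i0, g] }
    have hP : P S.X₂ := hmid S sp.shortExact hM ih.1
    refine ⟨hP, (hΦ S sp.shortExact hM hP ih.1).trans ?_⟩
    show Φ M + Φ (∐ fun _ : Fin m => M) = _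
    rw [ih.2, Nat.cast_succ, add_smul, one_smul, add_comm]

end Generic

variable {n : ℕ} {Y : Scheme.{u}}

variable (n Y) in
/-- Regular bundles. -/
abbrev regP : ObjectProperty (KRR.PY n Y).Modules := fun M => FlatMod.IsFinLocFree M ∧ KRR.IsRegSheaf n Y M

/-- A module resolved to the left by regular modules is regular. -/
theorem reg_of_resolution (N : ℕ) (D : ℕ → (KRR.PY n Y).Modules) (f : ∀ p, D (p + 1) ⟶ D p)
    (w : ∀ p, f (p + 1) ≫ f p = 0) (hex : ∀ p, (ShortComplex.mk (f (p + 1)) (f p) (w p)).Exact) (h0 : Epi (f 0))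
    (hz : ∀ p, N < p → IsZero (D p)) (hD : ∀ p, KRR.IsRegSheaf n Y (D (p + 1))) :
    KRR.IsRegSheaf n Y (D 0) := fun i hi => by
  let T := Coherent.tensE (Twist.twistOver n Y (-(i : ℤ)))
  haveI : PreservesFiniteLimits T := Coherent.preservesFiniteLimits_tensE (isFinLocFree_twistOver _)
  haveI : PreservesFiniteColimits T := Coherent.preservesFiniteColimits_tensE (isFinLocFree_twistOver _)
  haveI : T.Additive := Functor.additive_of_preserves_binary_products T
  refine van_of_exact N i (fun p => T.obj (D p)) (fun p => T.map (f p))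
    (fun p => by rw [← T.map_comp, w, T.map_zero]) (fun p => (hex p).map T) (T.map_epi (f 0))
    (fun p hp => T.map_isZero (hz p hp)) fun p => ?_
  have h := van_twF_of_reg (hD p) p (i + p) (by omega)
  rwa [show (p : ℤ) - ((i + p : ℕ) : ℤ) = -(i : ℤ) by push_cast; ring] at h

theorem regP_of_iso {M M' : (KRR.PY n Y).Modules} (e : M ≅ M') (h : regP n Y M) : regP n Y M' :=
  ⟨DQCoh.ProperSuppFlat17.isFinLocFree_of_iso e h.1, isRegSheaf_of_iso e h.2⟩

theorem isReg_of_isZero {Z : (KRR.PY n Y).Modules} (hZ : IsZero Z) : KRR.IsRegSheaf n Y Z := fun i _ =>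
  (Coh.RpushAb (KRR.pr n Y) i).map_isZero ((toAbFunctor _).map_isZero
    (((DCoh.tensorBi (X := KRR.PY n Y)).obj _).map_isZero hZ))

theorem regP_mid (S : ShortComplex (KRR.PY n Y).Modules) (hS : S.ShortExact) (h₁ : regP n Y S.X₁)
    (h₃ : regP n Y S.X₃) : regP n Y S.X₂ :=
  ⟨ExtFilt28.isFinLocFree_extension hS h₁.1 h₃.1, fun i hi => CM28.isZero_X₂ (Coh.pushAb (KRR.pr n Y))
    (CM28.twF_shortExact hS (-(i : ℤ))) i (h₁.2 i hi) (h₃.2 i hi)⟩

/-- Alternating sums along exact sequences of regular bundles. -/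
theorem sum_alt_reg {G : Type v} [AddCommGroup G] (Φ : (KRR.PY n Y).Modules → G)
    (hΦ : ∀ S : ShortComplex (KRR.PY n Y).Modules, S.ShortExact → regP n Y S.X₁ → regP n Y S.X₂ →
      regP n Y S.X₃ → Φ S.X₂ = Φ S.X₁ + Φ S.X₃) :
    ∀ (N : ℕ) (D : ℕ → (KRR.PY n Y).Modules) (f : ∀ p, D (p + 1) ⟶ D p) (w : ∀ p, f (p + 1) ≫ f p = 0),
      (∀ p, (ShortComplex.mk (f (p + 1)) (f p) (w p)).Exact) → Epi (f 0) → (∀ p, regP n Y (D p)) →
      (∀ p, N < p → IsZero (D p)) →
      ∑ p ∈ Finset.range (N + 1), ((-1 : ℤ) ^ p) • Φ (D p) = 0 := by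
  intro N
  induction N with
  | zero =>
    intro D f w _ h0 hP hz
    haveI := h0
    have hD0 : IsZero (D 0) := IsZero.of_epi (f 0) (hz 1 one_pos)
    have hS : (ShortComplex.mk (0 : D 0 ⟶ D 0) (0 : D 0 ⟶ D 0) comp_zero).ShortExact :=
      ShortComplex.ShortExact.mk' (ShortComplex.exact_of_isZero_X₂ _ hD0)
        ⟨fun _ _ _ => hD0.eq_of_tgt _ _⟩ ⟨fun _ _ _ => hD0.eq_of_src _ _⟩
    have h := hΦ _ hS (hP 0) (hP 0) (hP 0)
    rw [Finset.sum_range_one, pow_zero, one_smul]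
    simpa using h
  | succ N ih =>
    intro D f w hex h0 hP hz
    haveI := h0
    let D' : ℕ → (KRR.PY n Y).Modules := fun p => match p with
      | 0 => kernel (f 0)
      | q + 1 => D (q + 2)
    let f' : ∀ p, D' (p + 1) ⟶ D' p := fun p => match p with
      | 0 => kernel.lift (f 0) (f 1) (w 0)
      | q + 1 => f (q + 2)
    have w' : ∀ p, f' (p + 1) ≫ f' p = 0 := fun p => match p with
      | 0 => (cancel_mono (kernel.ι (f 0))).1 (by
          show (f 2 ≫ kernel.lift (f 0) (f 1) (w 0)) ≫ _ = _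
          rw [Category.assoc, kernel.lift_ι, zero_comp]; exact w 1)
      | q + 1 => w (q + 2)
    have hex' : ∀ p, (ShortComplex.mk (f' (p + 1)) (f' p) (w' p)).Exact := fun p => match p with
      | 0 => by
          let φ : ShortComplex.mk (f' 1) (f' 0) (w' 0) ⟶ ShortComplex.mk (f 2) (f 1) (w 1) :=
            { τ₁ := 𝟙 _, τ₂ := 𝟙 _, τ₃ := kernel.ι (f 0)
              comm₁₂ := by simp [f']
              comm₂₃ := by simp [f'] }
          haveI : Epi φ.τ₁ := inferInstanceAs (Epi (𝟙 _))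
          haveI : IsIso φ.τ₂ := inferInstanceAs (IsIso (𝟙 _))
          haveI : Mono φ.τ₃ := inferInstanceAs (Mono (kernel.ι (f 0)))
          exact (ShortComplex.exact_iff_of_epi_of_isIso_of_mono φ).2 (hex 1)
      | q + 1 => hex (q + 2)
    have h0' : Epi (f' 0) := (ShortComplex.exact_iff_epi_kernel_lift _).1 (hex 0)
    have hz' : ∀ p, N < p → IsZero (D' p) := fun p hp => match p, hp with
      | q + 1, hp => hz (q + 2) (by omega)
    have hP' : ∀ p, regP n Y (D' p) := fun p => match p with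
      | 0 => ⟨KoszPn17.isFinLocFree_kernel (f 0) (hP 1).1 (hP 0).1,
          reg_of_resolution N D' f' w' hex' h0' hz' fun p => (hP (p + 2)).2⟩
      | q + 1 => hP (q + 2)
    have hS : (ShortComplex.mk (kernel.ι (f 0)) (f 0) (kernel.condition _)).ShortExact :=
      ShortComplex.ShortExact.mk' (ShortComplex.exact_of_f_is_kernel _ (kernelIsKernel _)) inferInstance h0
    have h1 : Φ (D 1) = Φ (kernel (f 0)) + Φ (D 0) := hΦ _ hS (hP' 0) (hP 1) (hP 0)
    have hih := ih D' f' w' hex' h0' hP' hz'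
    rw [Finset.sum_range_succ' _ N] at hih
    rw [Finset.sum_range_succ' _ (N + 1), Finset.sum_range_succ' _ N, zero_add, pow_one, h1]
    simp only [D', pow_zero, one_smul] at hih
    simp only [pow_zero, one_smul, pow_succ, mul_neg_one, neg_neg, neg_smul,
      Finset.sum_neg_distrib, add_assoc, Nat.reduceAdd] at hih ⊢
    linear_combination (norm := module) -hih

/-- The difference equation of the Koszul complex. -/
def Rel {G : Type v} [AddCommGroup G] (n : ℕ) (f : ℤ → G) (t : ℤ) : Prop :=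
  ∑ p ∈ Finset.range (n + 2), (((-1 : ℤ) ^ p) * ((Nat.choose (n + 1) p : ℕ) : ℤ)) • f (t + (n + 1) - p) = 0

theorem rel_of_additive {G : Type v} [AddCommGroup G] {Q : ObjectProperty (KRR.PY n Y).Modules}
    (hiso : ∀ {M M' : (KRR.PY n Y).Modules}, (M ≅ M') → Q M → Q M')
    (hmid : ∀ S : ShortComplex (KRR.PY n Y).Modules, S.ShortExact → Q S.X₁ → Q S.X₃ → Q S.X₂)
    (hzero : ∀ Z : (KRR.PY n Y).Modules, IsZero Z → Q Z)
    (Φ : (KRR.PY n Y).Modules → G)
    (hΦ : ∀ S : ShortComplex (KRR.PY n Y).Modules, S.ShortExact → Q S.X₁ → Q S.X₂ → Q S.X₃ →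
      Φ S.X₂ = Φ S.X₁ + Φ S.X₃)
    (hsum : ∀ (D : ℕ → (KRR.PY n Y).Modules) (f : ∀ p, D (p + 1) ⟶ D p) (w : ∀ p, f (p + 1) ≫ f p = 0),
      (∀ p, (ShortComplex.mk (f (p + 1)) (f p) (w p)).Exact) → Epi (f 0) → (∀ p, Q (D p)) →
      (∀ p, n + 1 < p → IsZero (D p)) → ∑ p ∈ Finset.range (n + 1 + 1), ((-1 : ℤ) ^ p) • Φ (D p) = 0)
    (F : (KRR.PY n Y).Modules) (t : ℤ) (hQ : ∀ m : ℤ, t ≤ m → Q (KRR.twF n Y m F)) :
    Rel n (fun m => Φ (KRR.twF n Y m F)) t := by
  obtain ⟨D, f, w, hex, hepi, hX, hz⟩ := exists_koszulSeq n Y F (t + (n + 1))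
  have hZ : IsZero (D (n + 2)) := hz _ (by omega)
  have hc : ∀ p, p ≤ n + 1 → Q (∐ fun _ : Fin (Nat.choose (n + 1) p) => KRR.twF n Y (t + (n + 1) - p) F) ∧
      Φ (∐ fun _ : Fin (Nat.choose (n + 1) p) => KRR.twF n Y (t + (n + 1) - p) F) =
        ((Nat.choose (n + 1) p : ℕ) : ℤ) • Φ (KRR.twF n Y (t + (n + 1) - p) F) := fun p hp =>
    sigma_copies hmid hzero Φ hΦ _ (hQ _ (by omega)) _
  have hP : ∀ p, Q (D p) := fun p => by
    by_cases hp : p ≤ n + 1
    · obtain ⟨e⟩ := hX p hp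
      exact hiso e.symm (hc p hp).1
    · exact hzero _ (hz p (by omega))
  refine Eq.trans (Finset.sum_congr rfl fun p hp => ?_) (hsum D f w hex hepi hP hz)
  have hp' : p ≤ n + 1 := by have := Finset.mem_range.1 hp; omega
  obtain ⟨e⟩ := hX p hp'
  rw [mul_smul, ← (hc p hp').2]
  exact congrArg _ (KPush28.map_iso_of_additive (P := Q) Φ hΦ hZ (hzero _ hZ) (hP p) (hc p hp').1 e).symm

theorem rel_reg {G : Type v} [AddCommGroup G] (Φ : (KRR.PY n Y).Modules → G)
    (hΦ : ∀ S : ShortComplex (KRR.PY n Y).Modules, S.ShortExact → regP n Y S.X₁ → regP n Y S.X₂ →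
      regP n Y S.X₃ → Φ S.X₂ = Φ S.X₁ + Φ S.X₃)
    (F : (KRR.PY n Y).Modules) (t : ℤ) (hQ : ∀ m : ℤ, t ≤ m → regP n Y (KRR.twF n Y m F)) :
    Rel n (fun m => Φ (KRR.twF n Y m F)) t :=
  rel_of_additive (fun e h => regP_of_iso e h) regP_mid
    (fun Z hZ => ⟨finLocFree_of_isZero hZ, isReg_of_isZero hZ⟩) Φ hΦ
    (fun D f w hex he hP hz => sum_alt_reg Φ hΦ (n + 1) D f w hex he hP hz) F t hQ

theorem rel_vb {F : (KRR.PY n Y).Modules} (hF : FlatMod.IsFinLocFree F) (t : ℤ) :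
    Rel n (fun m => KRR.cl (KRR.PY n Y) (KRR.twF n Y m F)) t := by
  have hΦ : ∀ S : ShortComplex (KRR.PY n Y).Modules, S.ShortExact → FlatMod.IsFinLocFree S.X₁ →
      FlatMod.IsFinLocFree S.X₂ → FlatMod.IsFinLocFree S.X₃ →
      KRR.cl _ S.X₂ = KRR.cl _ S.X₁ + KRR.cl _ S.X₃ := fun S hS h₁ h₂ h₃ => ExtFilt28.clv_ses hS h₁ h₂ h₃
  exact rel_of_additive (Q := fun M => FlatMod.IsFinLocFree M)
    (fun e h => DQCoh.ProperSuppFlat17.isFinLocFree_of_iso e h)
    (fun S hS h₁ h₃ => ExtFilt28.isFinLocFree_extension hS h₁ h₃) (fun Z hZ => finLocFree_of_isZero hZ) _ hΦ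
    (fun D f w hex he hP hz => KPush28.sum_alt_map_eq_zero (P := fun M : (KRR.PY n Y).Modules => FlatMod.IsFinLocFree M)
      (fun g => KoszPn17.isFinLocFree_kernel g) _ hΦ (n + 1) D f w hex he hP hz) F t
    fun m _ => isFinLocFree_twF hF m

section Ext

variable {G : Type v} [AddCommGroup G]

/-- Downward extension along the difference equation. -/
def ext (n : ℕ) (N : ℤ) (a : ℤ → G) (t : ℤ) : G :=
  if N ≤ t then a t
  else ((-1 : ℤ) ^ n) • ∑ p : Fin (n + 1),
    (((-1 : ℤ) ^ (p : ℕ)) * ((Nat.choose (n + 1) (p : ℕ) : ℕ) : ℤ)) • ext n N a (t + (n + 1) - (p : ℕ))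
  termination_by (N - t).toNat
  decreasing_by have := p.2; omega

theorem rel_iff (f : ℤ → G) (t : ℤ) : Rel n f t ↔ f t = ((-1 : ℤ) ^ n) • ∑ p : Fin (n + 1),
    (((-1 : ℤ) ^ (p : ℕ)) * ((Nat.choose (n + 1) (p : ℕ) : ℕ) : ℤ)) • f (t + (n + 1) - (p : ℕ)) := by
  rw [Rel, Finset.sum_range_succ, ← Fin.sum_univ_eq_sum_range
    (fun p => (((-1 : ℤ) ^ p) * ((Nat.choose (n + 1) p : ℕ) : ℤ)) • f (t + (n + 1) - p))]
  have h1 : t + ((n : ℤ) + 1) - ((n + 1 : ℕ) : ℤ) = t := by push_cast; ring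
  rw [Nat.choose_self, Nat.cast_one, mul_one, h1, pow_succ, mul_neg_one, neg_smul, ← sub_eq_add_neg, sub_eq_zero]
  rcases neg_one_pow_eq_or ℤ n with h | h <;> rw [h]
  · simp only [one_smul]
    exact eq_comm
  · simp only [neg_smul, one_smul]
    constructor
    · intro e; rw [e, neg_neg]
    · intro e; rw [e, neg_neg]

theorem ext_of_le (N : ℤ) (a : ℤ → G) {t : ℤ} (h : N ≤ t) : ext n N a t = a t := by
  rw [ext, if_pos h]

theorem rel_ext (N : ℤ) (a : ℤ → G) (ha : ∀ t, N ≤ t → Rel n a t) (t : ℤ) : Rel n (ext n N a) t := by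
  rw [rel_iff]
  by_cases h : N ≤ t
  · rw [ext_of_le N a h, (rel_iff a t).1 (ha t h)]
    refine congrArg _ (Finset.sum_congr rfl fun p _ => ?_)
    rw [ext_of_le N a (by have := p.2; omega)]
  · conv_lhs => rw [ext, if_neg h]

theorem eq_of_rel (N : ℤ) {f g : ℤ → G} (hf : ∀ t, Rel n f t) (hg : ∀ t, Rel n g t)
    (h : ∀ t, N ≤ t → f t = g t) : ∀ t, f t = g t := by
  suffices H : ∀ (k : ℕ) (t : ℤ), N - t ≤ k → f t = g t from fun t => H (N - t).toNat t (Int.self_le_toNat _)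
  intro k
  induction k using Nat.strong_induction_on with
  | _ k ih =>
    intro t ht
    by_cases hN : N ≤ t
    · exact h t hN
    rw [(rel_iff f t).1 (hf t), (rel_iff g t).1 (hg t)]
    refine congrArg _ (Finset.sum_congr rfl fun p _ => ?_)
    rw [ih (k - 1) (by omega) (t + (n + 1) - (p : ℕ)) (by have := p.2; omega)]

end Ext

theorem twF_ses {S : ShortComplex (KRR.PY n Y).Modules} (hS : S.ShortExact) (d : ℤ) :
    ∃ T : ShortComplex (KRR.PY n Y).Modules, T.ShortExact ∧ T.X₁ = KRR.twF n Y d S.X₁ ∧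
      T.X₂ = KRR.twF n Y d S.X₂ ∧ T.X₃ = KRR.twF n Y d S.X₃ := by
  let T := Coherent.tensE (Twist.twistOver n Y d)
  haveI : PreservesFiniteLimits T := Coherent.preservesFiniteLimits_tensE (isFinLocFree_twistOver _)
  haveI : PreservesFiniteColimits T := Coherent.preservesFiniteColimits_tensE (isFinLocFree_twistOver _)
  haveI : T.Additive := Functor.additive_of_preserves_binary_products T
  exact ⟨S.map T, hS.map_of_exact T, rfl, rfl, rfl⟩

section Compact

variable [CompactSpace Y]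

/-- `K₀` of regular bundles. -/
abbrev Kreg (n : ℕ) (Y : Scheme.{u}) : Type (u + 1) := KZero.K0sub (regP n Y)

theorem clreg_ses (S : ShortComplex (KRR.PY n Y).Modules) (hS : S.ShortExact) (h₁ : regP n Y S.X₁)
    (h₂ : regP n Y S.X₂) (h₃ : regP n Y S.X₃) :
    KZero.clSub (regP n Y) S.X₂ = KZero.clSub (regP n Y) S.X₁ + KZero.clSub (regP n Y) S.X₃ :=
  Resolution28.clSub_rel hS h₁ h₂ h₃

theorem exists_regBound {F : (KRR.PY n Y).Modules} (hF : FlatMod.IsFinLocFree F) :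
    ∃ N : ℕ, ∀ m : ℤ, (N : ℤ) ≤ m → regP n Y (KRR.twF n Y m F) := by
  obtain ⟨N, hN⟩ := exists_bound_reg' hF
  exact ⟨N, fun m hm => ⟨isFinLocFree_twF hF m, hN m hm⟩⟩

open Classical in
/-- The regular sequence attached to a bundle. -/
def seqOf (F : (KRR.PY n Y).Modules) : ℤ → Kreg n Y :=
  if hF : FlatMod.IsFinLocFree F then
    ext n ((exists_regBound hF).choose : ℤ) fun m => KZero.clSub (regP n Y) (KRR.twF n Y m F)
  else 0

theorem seqOf_rel {F : (KRR.PY n Y).Modules} (hF : FlatMod.IsFinLocFree F) (t : ℤ) : Rel n (seqOf F) t := by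
  rw [seqOf, dif_pos hF]
  exact rel_ext _ _ (fun s hs => rel_reg _ clreg_ses F s fun m hm => (exists_regBound hF).choose_spec m (hs.trans hm)) t

theorem seqOf_eventually {F : (KRR.PY n Y).Modules} (hF : FlatMod.IsFinLocFree F) :
    ∃ N : ℤ, ∀ t, N ≤ t → seqOf F t = KZero.clSub (regP n Y) (KRR.twF n Y t F) :=
  ⟨(exists_regBound hF).choose, fun t ht => by rw [seqOf, dif_pos hF]; exact ext_of_le _ _ ht⟩

theorem seqOf_eq {F : (KRR.PY n Y).Modules} (hF : FlatMod.IsFinLocFree F) {g : ℤ → Kreg n Y}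
    (hg : ∀ t, Rel n g t) (N : ℤ) (hN : ∀ t, N ≤ t → g t = KZero.clSub (regP n Y) (KRR.twF n Y t F)) (t : ℤ) :
    seqOf F t = g t := by
  obtain ⟨M, hM⟩ := seqOf_eventually hF
  exact eq_of_rel (max N M) (seqOf_rel hF) hg
    (fun s hs => by rw [hM s (le_trans (le_max_right _ _) hs), hN s (le_trans (le_max_left _ _) hs)]) t

variable (n Y) in
theorem exists_psi : ∃ ψ : SGA6.Kvb (KRR.PY n Y) →+ Kreg n Y,
    ∀ F : (KRR.PY n Y).Modules, FlatMod.IsFinLocFree F → ψ (KRR.cl _ F) = seqOf F 0 := by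
  refine KvbLam28.exists_lift (X := KRR.PY n Y) (fun F => seqOf F 0) fun S hS h₁ h₂ h₃ => ?_
  obtain ⟨N₁, hN₁⟩ := seqOf_eventually h₁
  obtain ⟨N₃, hN₃⟩ := seqOf_eventually h₃
  obtain ⟨M₁, hM₁⟩ := exists_regBound h₁
  obtain ⟨M₂, hM₂⟩ := exists_regBound h₂
  obtain ⟨M₃, hM₃⟩ := exists_regBound h₃
  refine seqOf_eq h₂ (g := fun t => seqOf S.X₁ t + seqOf S.X₃ t) (fun t => ?_)
    (max (max N₁ N₃) (max (max (M₁ : ℤ) M₂) M₃)) (fun t ht => ?_) 0
  · have h1 := seqOf_rel h₁ t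
    have h3 := seqOf_rel h₃ t
    unfold Rel at h1 h3 ⊢
    simp only [smul_add, Finset.sum_add_distrib, h1, h3, add_zero]
  · simp only [max_le_iff] at ht
    obtain ⟨⟨ha, hb⟩, ⟨hc, hd⟩, he⟩ := ht
    obtain ⟨T, hT, e₁, e₂, e₃⟩ := twF_ses hS t
    simp only [hN₁ t ha, hN₃ t hb, ← e₁, ← e₂, ← e₃]
    exact (clreg_ses T hT (e₁ ▸ hM₁ t hc) (e₂ ▸ hM₂ t hd) (e₃ ▸ hM₃ t he)).symm

theorem mapSub_reg (h : ∀ M : (KRR.PY n Y).Modules, regP n Y M → KRR.vbP (KRR.PY n Y) ((𝟭 (KRR.PY n Y).Modules).obj M))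
    {M : (KRR.PY n Y).Modules} (hM : regP n Y M) :
    SGA6.mapSub (𝟭 (KRR.PY n Y).Modules) (regP n Y) (KRR.vbP (KRR.PY n Y)) h (KZero.clSub (regP n Y) M) =
      KRR.cl _ M :=
  ResLF28.mapSub_clSub _ _ _ hM

/-- The resolution theorem for regular bundles. -/
theorem bijective_mapSub
    (h : ∀ M : (KRR.PY n Y).Modules, regP n Y M → KRR.vbP (KRR.PY n Y) ((𝟭 (KRR.PY n Y).Modules).obj M)) :
    Function.Bijective (SGA6.mapSub (𝟭 (KRR.PY n Y).Modules) (regP n Y) (KRR.vbP (KRR.PY n Y)) h) := by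
  obtain ⟨ψ, hψ⟩ := exists_psi n Y
  let ι := SGA6.mapSub (𝟭 (KRR.PY n Y).Modules) (regP n Y) (KRR.vbP (KRR.PY n Y)) h
  have h1 : ∀ x, ψ (ι x) = x := fun x => by
    refine k0_induction (regP n Y) (R := fun x => ψ (ι x) = x) (by simp) ?_ ?_ ?_ x
    · intro F hF
      have hr : ∀ m : ℤ, 0 ≤ m → regP n Y (KRR.twF n Y m F) := fun m hm =>
        ⟨isFinLocFree_twF hF.1 m, isRegSheaf_twF hF.2 hm⟩
      obtain ⟨e⟩ := CM28.nonempty_twF_zero F
      show ψ (ι _) = _
      rw [show ι (KZero.clSub (regP n Y) F) = KRR.cl _ F from mapSub_reg h hF, hψ F hF.1,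
        seqOf_eq hF.1 (g := ext n 0 fun m => KZero.clSub (regP n Y) (KRR.twF n Y m F))
          (rel_ext 0 _ fun t ht => rel_reg _ clreg_ses F t fun m hm => hr m (ht.trans hm)) 0
          (fun t ht => ext_of_le _ _ ht) 0, ext_of_le _ _ le_rfl]
      have hZ := (isZero_zero (KRR.PY n Y).Modules)
      exact KPush28.map_iso_of_additive (P := regP n Y) _ clreg_ses hZ
        ⟨finLocFree_of_isZero hZ, isReg_of_isZero hZ⟩ (hr 0 le_rfl) hF e
    · intro a ha; simp only [map_neg, ha]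
    · intro a b ha hb; simp only [map_add, ha, hb]
  have h2 : ∀ x, ι (ψ x) = x := fun x => by
    refine KvbLam28.kvb_induction (P := fun x => ι (ψ x) = x) (by simp) ?_ ?_ ?_ x
    · intro F hF
      show ι (ψ (KRR.cl _ F)) = KRR.cl _ F
      rw [hψ F hF]
      obtain ⟨N, hN⟩ := seqOf_eventually hF
      obtain ⟨M, hM⟩ := exists_regBound hF
      have key := eq_of_rel (max N (M : ℤ)) (f := fun t => ι (seqOf F t))
        (g := fun t => KRR.cl _ (KRR.twF n Y t F)) (fun t => by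
          have h1 := congrArg ι (seqOf_rel hF t)
          rw [map_zero, map_sum] at h1
          simp only [map_zsmul] at h1
          exact h1) (rel_vb hF) (fun t ht => by
          show ι (seqOf F t) = _
          rw [hN t (le_trans (le_max_left _ _) ht)]
          exact mapSub_reg h (hM t (le_trans (le_max_right _ _) ht))) 0
      obtain ⟨e⟩ := CM28.nonempty_twF_zero F
      exact key.trans (ExtFilt28.clv_iso e)
    · intro a ha; simp only [map_neg, ha]
    · intro a b ha hb; simp only [map_add, ha, hb]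
  exact ⟨fun a b hab => by rw [← h1 a, ← h1 b]; exact congrArg ψ hab, fun y => ⟨ψ y, h2 y⟩⟩

theorem shortExact_push_reg {S : ShortComplex (KRR.PY n Y).Modules} (hS : S.ShortExact)
    (h₁ : KRR.IsRegSheaf n Y S.X₁) : (S.map (Scheme.Modules.pushforward (KRR.pr n Y))).ShortExact := by
  haveI : HasInjectiveResolutions (KRR.PY n Y).Modules := Coherent.hasInjectiveResolutions_modules _
  exact CohCmpLib.shortExact_push_of_isZero (KRR.pr n Y) hS
    (BlowUpCoh.isZero_rpush_of_rpushAb _ (van_of_reg h₁ 1 le_rfl))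

/-- The pushforward of `K` of bundles on `P^n_Y`. -/
theorem exists_pushPr : ∃ q : SGA6.Kvb (KRR.PY n Y) →+ SGA6.Kvb Y, ∀ F : (KRR.PY n Y).Modules,
    regP n Y F → q (KRR.cl _ F) = KRR.cl Y ((Scheme.Modules.pushforward (KRR.pr n Y)).obj F) := by
  obtain ⟨P, hP⟩ := exists_k0lift (regP n Y)
    (fun F => KRR.cl Y ((Scheme.Modules.pushforward (KRR.pr n Y)).obj F)) fun S hS h₁ h₂ h₃ =>
      ExtFilt28.clv_ses (shortExact_push_reg hS h₁.2) (isFinLocFree_push_reg h₁.1 h₁.2)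
        (isFinLocFree_push_reg h₂.1 h₂.2) (isFinLocFree_push_reg h₃.1 h₃.2)
  have h : ∀ M : (KRR.PY n Y).Modules, regP n Y M → KRR.vbP (KRR.PY n Y) ((𝟭 (KRR.PY n Y).Modules).obj M) :=
    fun M hM => hM.1
  let e := AddEquiv.ofBijective _ (bijective_mapSub h)
  refine ⟨P.comp e.symm.toAddMonoidHom, fun F hF => ?_⟩
  show P (e.symm _) = _
  rw [← hP F hF]
  exact congrArg P (e.symm_apply_eq.2 (mapSub_reg h hF).symm)

/-- Two maps on `K` of bundles agreeing on regular bundles are equal. -/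
theorem hom_ext_reg {G : Type v} [AddCommGroup G] {a b : SGA6.Kvb (KRR.PY n Y) →+ G}
    (hab : ∀ F : (KRR.PY n Y).Modules, regP n Y F → a (KRR.cl _ F) = b (KRR.cl _ F)) : a = b := by
  have h : ∀ M : (KRR.PY n Y).Modules, regP n Y M → KRR.vbP (KRR.PY n Y) ((𝟭 (KRR.PY n Y).Modules).obj M) :=
    fun M hM => hM.1
  refine AddMonoidHom.ext fun x => ?_
  obtain ⟨y, rfl⟩ := (bijective_mapSub h).2 x
  refine k0_induction (regP n Y) (R := fun y => a (SGA6.mapSub _ (regP n Y) _ h y) = b (SGA6.mapSub _ (regP n Y) _ h y))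
    (by simp) ?_ ?_ ?_ y
  · intro F hF; rw [mapSub_reg h hF]; exact hab F hF
  · intro c hc; simp only [map_neg, hc]
  · intro c d hc hd; simp only [map_add, hc, hd]

/-- Existence and uniqueness of `p_K`. -/
theorem existsUnique_isPushPr {KP : Type v} {KY : Type w} [CommRing KP] [CommRing KY]
    (φP : SGA6.Kvb (KRR.PY n Y) →+ KP) (hP : Function.Bijective φP) (φY : SGA6.Kvb Y →+ KY) :
    ∃! g : KP →+ KY, KRR.IsPushPr n Y φP φY g := by
  obtain ⟨q, hq⟩ := exists_pushPr (n := n) (Y := Y)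
  let e := AddEquiv.ofBijective φP hP
  refine ⟨φY.comp (q.comp e.symm.toAddMonoidHom), fun F hF hr => ?_, fun g hg => ?_⟩
  · show φY (q (e.symm (φP (KRR.cl _ F)))) = _
    rw [show e.symm (φP (KRR.cl _ F)) = KRR.cl _ F from e.symm_apply_apply _, hq F ⟨hF, hr⟩]
  · have h := hom_ext_reg (a := g.comp φP) (b := φY.comp q) fun F hF =>
      (hg F hF.1 hF.2).trans (congrArg φY (hq F hF)).symm
    refine AddMonoidHom.ext fun y => ?_
    obtain ⟨x, rfl⟩ := hP.2 y
    exact (DFunLike.congr_fun h x).trans (congrArg (fun z => φY (q z)) (e.symm_apply_apply x).symm)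

end Compact

/-- `F ⊗ p^*E` stays regular. -/
theorem regP_tensor_pull {F : (KRR.PY n Y).Modules} (hF : regP n Y F) {E : Y.Modules}
    (hE : FlatMod.IsFinLocFree E) :
    regP n Y (CohB1.tensorMod F ((Scheme.Modules.pullback (KRR.pr n Y)).obj E)) := by
  refine ⟨ExtFilt28.isFinLocFree_tensor hF.1 (DCat.PullPerf.isFinLocFree_pullback _ hE), fun i hi => ?_⟩
  haveI : HasInjectiveResolutions (KRR.PY n Y).Modules := Coherent.hasInjectiveResolutions_modules _
  obtain ⟨e⟩ := Coherent.nonempty_projection_formula (f := KRR.pr n Y) hE (KRR.twF n Y (-(i : ℤ)) F) i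
  have hz : IsZero ((Coh.Rpush (KRR.pr n Y) i).obj
      (CohB1.tensorMod ((Scheme.Modules.pullback (KRR.pr n Y)).obj E) (KRR.twF n Y (-(i : ℤ)) F))) :=
    IsZero.of_iso (((DCoh.tensorBi (X := Y)).obj E).map_isZero (BlowUpCoh.isZero_rpush_of_rpushAb _ (hF.2 i hi))) e.symm
  refine van_of_iso (AmpleLib.tensorComm _ _ ≪≫ DCat.TensorAssoc.assocIso _ _ _) ?_
  exact ((toAbFunctor Y).map_isZero hz).of_iso (Coherent.toAbRpushIso (KRR.pr n Y) _ i).symm

theorem nonempty_push_tensor_pull (F : (KRR.PY n Y).Modules) {E : Y.Modules} (hE : FlatMod.IsFinLocFree E) :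
    Nonempty ((Scheme.Modules.pushforward (KRR.pr n Y)).obj
      (CohB1.tensorMod F ((Scheme.Modules.pullback (KRR.pr n Y)).obj E)) ≅
        CohB1.tensorMod ((Scheme.Modules.pushforward (KRR.pr n Y)).obj F) E) :=
  ⟨(Scheme.Modules.pushforward (KRR.pr n Y)).mapIso (AmpleLib.tensorComm _ _) ≪≫
    ((Coherent.projIso (f := KRR.pr n Y) hE).app F).symm ≪≫ AmpleLib.tensorComm _ _⟩

end Groth.Agent.KPr28
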