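import Groth.Agent.KPr28.Koszul
import Groth.Agent.KPr28.Gen0
import Groth.Agent.Coherent.RelExact14.ProjPush
import Groth.Agent.CohExch.TwistBase
import Groth.Agent.RelVALib.ChowPn
import Groth.Agent.DQCoh.ProperSuppFlat17
import Groth.Agent.Coherent.RpushVanish
import Groth.Agent.ExtFilt28.LocFree
import Groth.Agent.Et18.ShriekProper
import Groth.Agent.SerreDual.ExtShBasic
import Groth.Agent.Coherent.CohBC.HomSheaf

/-!
# Regular bundles on `P^n_Y`
-/

set_option autoImplicit false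
set_option backward.isDefEq.respectTransparency false
set_option linter.style.haveILetI false

universe u

open CategoryTheory CategoryTheory.Limits AlgebraicGeometry TopologicalSpace
open Groth.Agent.Coherent Groth.Agent.AmpleLib

noncomputable section

namespace Groth.Agent.KPr28

variable {n : ℕ} {Y : Scheme.{u}}

theorem isLocallyNoetherian_PY [IsLocallyNoetherian Y] : IsLocallyNoetherian (KRR.PY n Y) := by
  haveI := RelVALib.isProper_toBase n Y
  exact LocallyOfFiniteType.isLocallyNoetherian (CohB1.ProjSpaceOver.toBase n Y)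

theorem isFinLocFree_twistOver (d : ℤ) : FlatMod.IsFinLocFree (Twist.twistOver n Y d) :=
  Coherent.isFinLocFree_of_invertible (CM28.isInvertible_twistOver n Y d)

theorem isFinLocFree_twF {F : (KRR.PY n Y).Modules} (hF : FlatMod.IsFinLocFree F) (d : ℤ) :
    FlatMod.IsFinLocFree (KRR.twF n Y d F) :=
  ExtFilt28.isFinLocFree_tensor (isFinLocFree_twistOver d) hF

theorem nonempty_tensorPow_twist (n : ℕ) (Y : Scheme.{u}) : ∀ k : ℕ,
    Nonempty (CohB1.tensorPow (Twist.twistOver n Y 1) k ≅ Twist.twistOver n Y (k : ℤ)) := by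
  intro k
  induction k with
  | zero =>
    obtain ⟨e⟩ := CM28.nonempty_twistOver_zero n Y
    exact ⟨e.symm⟩
  | succ k ih =>
    obtain ⟨e⟩ := ih
    obtain ⟨e'⟩ := CM28.nonempty_twistOver_add n Y (show (k : ℤ) + 1 = ((k + 1 : ℕ) : ℤ) by push_cast; rfl)
    exact ⟨AmpleLib.tensorIso e (Iso.refl _) ≪≫ e'⟩

theorem isRelAmple_twist : RelAmple.IsRelAmple (KRR.pr n Y) (Twist.twistOver n Y 1) := by
  haveI := RelVALib.isProper_toBase n Y
  refine ⟨inferInstanceAs (QuasiCompact (CohB1.ProjSpaceOver.toBase n Y)), fun V => ?_⟩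
  haveI : QuasiCompact (𝟙 (CohB1.ProjSpaceOver n Y) ≫ CohB1.ProjSpaceOver.toBase n Y) := by
    rw [Category.id_comp]; infer_instance
  have h := CohExch.isAmple_restrict_twist n (𝟙 (CohB1.ProjSpaceOver n Y)) V.2
  rw [Category.id_comp] at h
  exact isAmple_of_iso ((Scheme.Modules.restrictFunctor _).mapIso ((Scheme.Modules.pullbackId _).app _)) h

theorem locallyOfFinitePresentation_pr (n : ℕ) (S : Scheme.{u}) :
    LocallyOfFinitePresentation (KRR.pr n S) := by
  haveI := Coherent.isProper_projSpace_toSpec n (ULift.{u} ℤ)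
  haveI : IsNoetherianRing (ULift.{u} ℤ) := isNoetherianRing_of_ringEquiv ℤ ULift.ringEquiv.symm
  haveI : LocallyOfFinitePresentation (CohB1.ProjSpace.toSpec n (ULift.{u} ℤ)) :=
    Coherent.CohBC.locallyOfFinitePresentation_of_isLocallyNoetherian _
  exact MorphismProperty.pullback_snd _ _ inferInstance

theorem finLocFree_of_isZero {Z : (KRR.PY n Y).Modules} (hZ : IsZero Z) : FlatMod.IsFinLocFree Z :=
  ExtFilt28.isFinLocFree_isZero hZ

/-- High twists of a bundle are regular, over a quasi-compact base. -/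
theorem exists_bound_reg' [CompactSpace Y] {F : (KRR.PY n Y).Modules} (hF : FlatMod.IsFinLocFree F) :
    ∃ N : ℕ, ∀ m : ℤ, (N : ℤ) ≤ m → KRR.IsRegSheaf n Y (KRR.twF n Y m F) := by
  haveI : IsProper (KRR.pr n Y) := RelVALib.isProper_toBase n Y
  obtain ⟨q, hq⟩ := Coherent.exists_bound_isZero_rpushAb (KRR.pr n Y)
  obtain ⟨N, hN⟩ := Gen.exists_bound_van hF
  refine ⟨N + q, fun m hm i hi => ?_⟩
  rcases le_or_gt q i with hqi | hqi
  · haveI : Coh.IsQCoh F := (Coherent.CohBC.isCoh_of_isFinLocFree hF).1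
    haveI := Gen.isQCoh_twF (F := F) m
    exact hq (KRR.twF n Y (-(i : ℤ)) (KRR.twF n Y m F)) (Gen.isQCoh_twF _) i hqi
  · obtain ⟨e⟩ := CM28.nonempty_twF_twF F (show -(i : ℤ) + m = m - i by ring)
    exact van_of_iso e.symm (hN (m - i) (by omega) i hi)

theorem isFinLocFree_push_reg {F : (KRR.PY n Y).Modules} (hF : FlatMod.IsFinLocFree F)
    (hreg : KRR.IsRegSheaf n Y F) :
    FlatMod.IsFinLocFree ((Scheme.Modules.pushforward (KRR.pr n Y)).obj F) := by
  haveI : IsProper (KRR.pr n Y) := RelVALib.isProper_toBase n Y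
  haveI : LocallyOfFinitePresentation (KRR.pr n Y) := locallyOfFinitePresentation_pr n Y
  haveI : HasInjectiveResolutions (KRR.PY n Y).Modules := Groth.Agent.Coherent.hasInjectiveResolutions_modules _
  haveI : Flat (KRR.pr n Y) := Coherent.flat_toBase n Y
  have hc := Coherent.CohBC.isCoh_of_isFinLocFree hF
  haveI := hc.1
  exact DQCoh.ProperSuppFlat17.isFinLocFree_push (KRR.pr n Y) F (Props12.isFP_of_isFinLocFree F hF)
    (Coherent.CohBC.isFlatOver_of_isFinLocFree (KRR.pr n Y) hF)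
    (Et18.isProperOver_of_isProper _
      (Coherent.isClosed_support F (Coherent.locallyFinGen_of_isFT F hc.2)))
    fun i hi => BlowUpCoh.isZero_rpush_of_rpushAb _ (van_of_reg hreg i hi)

variable [IsNoetherian Y]

/-- Serre vanishing relative to `Y`. -/
theorem exists_bound_van {F : (KRR.PY n Y).Modules} (hF : Coh.IsCoh F) :
    ∃ N : ℕ, ∀ m : ℤ, (N : ℤ) ≤ m → ∀ p : ℕ, 1 ≤ p → Van p (KRR.twF n Y m F) := by
  haveI : IsProper (KRR.pr n Y) := RelVALib.isProper_toBase n Y
  obtain ⟨N, hN⟩ := RelExact14.eventually (f := KRR.pr n Y) (g := 𝟙 Y) (g' := 𝟙 (KRR.PY n Y))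
    (f' := KRR.pr n Y) (IsPullback.of_horiz_isIso ⟨by simp⟩)
    (CM28.isInvertible_twistOver n Y 1) isRelAmple_twist hF
  refine ⟨N, fun m hm p hp => ?_⟩
  obtain ⟨k, rfl⟩ := Int.eq_ofNat_of_zero_le ((Int.natCast_nonneg N).trans hm)
  obtain ⟨e⟩ := nonempty_tensorPow_twist n Y k
  exact van_of_iso (AmpleLib.tensorIso ((Scheme.Modules.pushforwardId _).app F) e ≪≫ AmpleLib.tensorComm _ _)
    ((hN k (by exact_mod_cast hm)).1 p hp)

/-- High twists of a coherent module are regular. -/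
theorem exists_bound_reg {F : (KRR.PY n Y).Modules} (hF : Coh.IsCoh F) :
    ∃ N : ℕ, ∀ m : ℤ, (N : ℤ) ≤ m → KRR.IsRegSheaf n Y (KRR.twF n Y m F) := by
  haveI : IsProper (KRR.pr n Y) := RelVALib.isProper_toBase n Y
  haveI := isLocallyNoetherian_PY (n := n) (Y := Y)
  obtain ⟨q, hq⟩ := Coherent.exists_bound_isZero_rpushAb (KRR.pr n Y)
  obtain ⟨N, hN⟩ := exists_bound_van hF
  refine ⟨N + q, fun m hm i hi => ?_⟩
  have := hF.1
  haveI : ∀ d, Coh.IsQCoh (Twist.twistOver n Y d) := fun d =>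
    isQCoh_of_isInvertible (CM28.isInvertible_twistOver n Y d)
  rcases le_or_gt q i with hqi | hqi
  · haveI : Coh.IsQCoh (KRR.twF n Y m F) := Coherent.isQCoh_tensorMod _ _
    exact hq (KRR.twF n Y (-(i : ℤ)) (KRR.twF n Y m F)) (Coherent.isQCoh_tensorMod _ _) i hqi
  · obtain ⟨e⟩ := CM28.nonempty_twF_twF F (show -(i : ℤ) + m = m - i by ring)
    exact van_of_iso e.symm (hN (m - i) (by omega) i hi)


end Groth.Agent.KPr28
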