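import Groth.Agent.KPr28.Push
import Groth.Agent.Quot8.Sections
import Groth.Agent.InjMod14.Kosz.AffineHom
import Groth.Agent.Props12.FinLocFree
import Groth.Agent.ProjVanish14.Basic
import Groth.Agent.Coherent.CohBC.Global

/-!
# The direct image of `O(m)` on `P^n_T`
-/

set_option autoImplicit false
set_option linter.style.haveILetI false
set_option backward.isDefEq.respectTransparency.types false
set_option maxHeartbeats 800000

universe u

open CategoryTheory CategoryTheory.Limits AlgebraicGeometry TopologicalSpace Opposite TensorProduct Function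
open Groth.Agent.Coherent Groth.Agent.PicLib Groth.Agent.AmpleLib Groth.Agent.Coherent.CohBC

noncomputable section

namespace Groth.Agent.KPr28

/-- The monomials of degree `m` in `n + 1` variables. -/
abbrev Mon (n m : ℕ) : Finset (Fin (n + 1) →₀ ℕ) := (Finset.univ : Finset (Fin (n + 1))).finsuppAntidiag m

theorem card_mon (n m : ℕ) : (Mon n m).card = Nat.choose (n + m) m := by
  rw [Finset.card_finsuppAntidiag_nat_eq_choose, Finset.card_univ, Fintype.card_fin,
    show n + 1 + m - 1 = n + m by omega]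

theorem exists_basis_sections (n m : ℕ) :
    letI := modA (ULift.{u} ℤ) (Twist.twistProjSpace n (ULift.{u} ℤ) (m : ℤ)) (⊤ : (CohB1.ProjSpace n (ULift.{u} ℤ)).Opens)
    Nonempty (Module.Basis (Fin (Nat.choose (n + m) m)) (ULift.{u} ℤ)
      Γ(Twist.twistProjSpace n (ULift.{u} ℤ) (m : ℤ), (⊤ : (CohB1.ProjSpace n (ULift.{u} ℤ)).Opens))) := by
  classical
  letI := modA (ULift.{u} ℤ) (Twist.twistProjSpace n (ULift.{u} ℤ) (m : ℤ)) (⊤ : (CohB1.ProjSpace n (ULift.{u} ℤ)).Opens)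
  let Z : Type u := ULift.{u} ℤ
  let L := Twist.twistProjSpace n Z (m : ℤ)
  letI := Coh.moduleOver Z (CohB1.ProjSpace n Z) L 0
  let e0 := Classical.choice (nonempty_HH_zero_twist (n := n) Z m)
  let e : Coh.HH (CohB1.ProjSpace n Z) L 0 ≃+ MvPolynomial.homogeneousSubmodule (Fin (n + 1)) Z m :=
    { toFun := fun x => e0 x, invFun := fun x => e0.symm x, left_inv := fun x => e0.symm_apply_apply x,
      right_inv := fun x => e0.apply_symm_apply x, map_add' := fun x y => e0.map_add x y }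
  have hS : {s : Fin (n + 1) →₀ ℕ | s.degree = m} = ↑(Mon n m) := by
    ext s; simp [Finsupp.degree_eq_sum]
  let b₀ : Module.Basis (Mon n m) Z (MvPolynomial.homogeneousSubmodule (Fin (n + 1)) Z m) :=
    (MvPolynomial.basisRestrictSupport Z (Mon n m : Set (Fin (n + 1) →₀ ℕ))).map
      (LinearEquiv.ofEq _ _ ((MvPolynomial.homogeneousSubmodule_eq_finsupp_supported _ _ m).trans
        (congrArg (MvPolynomial.restrictSupport Z) hS)).symm)
  let b : Module.Basis (Fin (Nat.choose (n + m) m)) Z _ :=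
    b₀.reindex (Fintype.equivFinOfCardEq (by rw [Fintype.card_coe]; exact card_mon n m))
  let g : Γ(L, (⊤ : (CohB1.ProjSpace n Z).Opens)) ≃+ (Fin (Nat.choose (n + m) m) → Z) :=
    ((CohBC.globalEquiv Z L).symm.trans e).trans b.equivFun.toAddEquiv
  refine ⟨Module.Basis.ofEquivFun ({ g with
    map_smul' := fun a s => ?_ } : Γ(L, (⊤ : (CohB1.ProjSpace n Z).Opens)) ≃ₗ[Z] (Fin (Nat.choose (n + m) m) → Z))⟩
  obtain ⟨k⟩ := a
  have hk : (⟨k⟩ : Z) = (k : Z) := ULift.ext _ _ (Int.cast_id).symm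
  rw [RingHom.id_apply, hk, Int.cast_smul_eq_zsmul, Int.cast_smul_eq_zsmul]
  exact map_zsmul g k s

theorem subsingleton_HH_twist_pos (n m : ℕ) (p : ℕ) (hp : 0 < p) :
    Subsingleton (Coh.HH (CohB1.ProjSpace n (ULift.{u} ℤ)) (Twist.twistProjSpace n (ULift.{u} ℤ) (m : ℤ)) p) :=
  subsingleton_HH_twist (R := ULift.{u} ℤ) (d := (m : ℤ)) p (fun h => by omega) (fun h => by omega)

/-- The direct image of `O(m)` is free. -/
theorem nonempty_push_OT {n : ℕ} {P T : Scheme.{u}} {π : P ⟶ T} {h : P ⟶ CohB1.ProjSpace n (ULift.{u} ℤ)}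
    (H : Quot8.IsPn n π h) (m : ℕ) :
    Nonempty (Coherent.freeMod T (ULift.{u} (Fin (Nat.choose (n + m) m))) ≅
      (Coh.push π).obj ((Scheme.Modules.pullback h).obj (Twist.twistProjSpace n (ULift.{u} ℤ) (m : ℤ)))) := by
  classical
  let N := Nat.choose (n + m) m
  let L := Twist.twistProjSpace n (ULift.{u} ℤ) (m : ℤ)
  letI := modA (ULift.{u} ℤ) L (⊤ : (CohB1.ProjSpace n (ULift.{u} ℤ)).Opens)
  obtain ⟨bas⟩ := exists_basis_sections.{u} n m
  haveI := H.isProper
  let E' := (Scheme.Modules.pullback h).obj L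
  haveI : Coh.IsQCoh L := AmpleLib.isQCoh_of_isInvertible (isInvertible_twistProjSpaceZ n (m : ℤ) (ULift.{u} ℤ))
  haveI : Coh.IsQCoh E' := EGA43.InjFibre.isQCoh_pullback h _
  let sec : Fin N → Γ((Coh.push π).obj E', (⊤ : T.Opens)) := fun j =>
    (pullSec h (bas j) : Γ(E', (⊤ : P.Opens)))
  let φ : Coherent.freeMod T (ULift.{u} (Fin N)) ⟶ (Coh.push π).obj E' :=
    freeDesc fun j => unitDesc _ (sec j.down)
  suffices hW : ∀ (W : T.Opens), IsAffineOpen W → Function.Bijective (φ.app W) by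
    haveI : IsIso φ := InjMod14.Kosz.isIso_of_affine_nbhds φ fun W x hx => by
      obtain ⟨V, hV, hxV, hle⟩ := Opens.isBasis_iff_nbhd.1 T.isBasis_affineOpens hx
      exact ⟨⟨V, hV⟩, hxV, hle, hW V hV⟩
    exact ⟨asIso φ⟩
  intro W hW
  let ι := (π ⁻¹ᵁ W).ι
  obtain ⟨ψ, hψ⟩ := Spec.map_surjective
    (hW.fromSpec ≫ specULiftZIsTerminal.from T : Spec Γ(T, W) ⟶ Spec (CommRingCat.of (ULift.{u} ℤ)))
  have hsq : IsPullback (ι ≫ h) (toSpecSections π hW) (CohB1.ProjSpace.toSpec n (ULift.{u} ℤ))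
      (Spec.map (CommRingCat.ofHom ψ.hom)) := by
    rw [CommRingCat.ofHom_hom, hψ]
    exact (isPullback_toSpecSections π hW).paste_horiz H
  let _ : (π ⁻¹ᵁ W).toScheme.Over (Spec (CommRingCat.of Γ(T, W))) := ⟨toSpecSections π hW⟩
  haveI : IsProper (CohB1.ProjSpace n (ULift.{u} ℤ) ↘ Spec (CommRingCat.of (ULift.{u} ℤ))) :=
    isProper_projSpace_toSpec n (ULift.{u} ℤ)
  have hb := bijective_secBC_top L (isFlatOver_twistProjSpaceZ n (m : ℤ) (ULift.{u} ℤ)) (subsingleton_HH_twist_pos.{u} n m)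
    ψ.hom (ι ≫ h) hsq
  letI := ψ.hom.toAlgebra
  let Pj : Fin N → Γ((Scheme.Modules.pullback (ι ≫ h)).obj L, (⊤ : (π ⁻¹ᵁ W).toScheme.Opens)) := fun j =>
    pullSec (ι ≫ h) (bas j)
  let c : (Scheme.Modules.pullback ι).obj E' ≅ (Scheme.Modules.pullback (ι ≫ h)).obj L :=
    (Scheme.Modules.pullbackComp ι h).app _
  let fse := freeSectionsEquiv (X := T) (I := ULift.{u} (Fin N)) W
  let bs := Algebra.TensorProduct.basis Γ(T, W) bas
  have hsum : ∀ v : Fin N → Γ(T, W),
      secBC ψ.hom (ι ≫ h) hsq L ⊤ (bs.equivFun.symm v) = ∑ j, v j • Pj j := fun v => by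
    rw [Module.Basis.equivFun_symm_apply, map_sum]
    refine Finset.sum_congr rfl fun j _ => ?_
    rw [map_smul, Algebra.TensorProduct.basis_apply]
    exact congrArg (v j • ·) ((secBC_tmul ψ.hom (ι ≫ h) hsq L ⊤ 1 (bas j)).trans (one_smul Γ(T, W) _))
  have hφ : ∀ v : Fin N → Γ(T, W),
      c.hom.app ⊤ (H8Coh.pushSec π hW E' (φ.app W (fse.symm fun j => v j.down))) = ∑ j, v j • Pj j := fun v => by
    rw [freeMod_app, map_sum]
    show (Coherent.CohBC.topEquiv (A := Γ(T, W)) c) _ = _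
    rw [map_sum]
    refine Fintype.sum_equiv Equiv.ulift _ _ fun j => ?_
    rw [map_smul, map_smul, show freeCoord W j (fse.symm fun j => v j.down) = v j.down from
      congrFun (fse.apply_symm_apply _) j]
    refine congrArg (fun y : Γ((Scheme.Modules.pullback (ι ≫ h)).obj L, (⊤ : (π ⁻¹ᵁ W).toScheme.Opens)) =>
      v j.down • y) ?_
    rw [show unitVal (freeInj j ≫ φ) W = resM _ (le_top : W ≤ ⊤) (sec j.down) from by
      rw [freeInj_freeDesc, ← resM_unitVal _ (le_top : W ≤ ⊤), unitVal_unitDesc]; all_goals (try rw [resM_resM])]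
    show c.hom.app ⊤ (H8Coh.pushSec π hW E' (resM E' (le_top : π ⁻¹ᵁ W ≤ ⊤) (pullSec h (bas j.down)))) = _
    rw [H8Coh.pushSec_apply, ← resM_pullSec, resM_resM]
    refine Eq.trans (congrArg (c.hom.app ⊤) ((resM_self _ _ _).trans
      (pullbackComp_inv_app_pullSec ι h L ⊤ (bas j.down)).symm)) ?_
    exact congrArg (fun φ : (Scheme.Modules.pullback (ι ≫ h)).obj L ⟶ _ => φ.app ⊤ _) c.inv_hom_id
  have hv : Function.Bijective (fun v : Fin N → Γ(T, W) =>
      c.hom.app ⊤ (H8Coh.pushSec π hW E' (φ.app W (fse.symm fun j => v j.down)))) := by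
    rw [funext hφ, ← funext hsum]
    exact hb.comp bs.equivFun.symm.bijective
  have hre : Function.Bijective (fun v : Fin N → Γ(T, W) => fse.symm fun j => v j.down) :=
    fse.symm.bijective.comp ⟨fun a b e => funext fun i => congrFun e ⟨i⟩, fun a => ⟨fun i => a ⟨i⟩, rfl⟩⟩
  have hout : Function.Bijective (fun y => c.hom.app ⊤ (H8Coh.pushSec π hW E' y)) :=
    (ConcreteCategory.bijective_of_isIso (C := AddCommGrpCat) (c.hom.app ⊤)).comp (H8Coh.bijective_pushSec π hW E')
  exact (Function.Bijective.of_comp_iff (φ.app W) hre).1 ((Function.Bijective.of_comp_iff' hout _).1 hv)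

variable {n : ℕ} {Y : Scheme.{u}}

theorem nonempty_twF_structure (d : ℤ) :
    Nonempty (KRR.twF n Y d (Coh.structureModule (KRR.PY n Y)) ≅ Twist.twistOver n Y d) :=
  ⟨AmpleLib.tensorComm _ _ ≪≫ AmpleLib.unitTensorIso _⟩

theorem isRegSheaf_structure : KRR.IsRegSheaf n Y (Coh.structureModule (KRR.PY n Y)) := fun i hi => by
  obtain ⟨e⟩ := nonempty_twF_structure (n := n) (Y := Y) (-(i : ℤ))
  haveI : Coh.IsQCoh (Coh.structureModule Y) :=
    (CAlgH3.LocFreeFactor.isQCoh_of_finLocFree (Coherent.CohBC.isFinLocFree_structureModule Y))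
  refine van_of_iso ?_ (ProjVanish14.isZero_rpushAb_twist (d := -(i : ℤ)) (Quot8.isPn_projSpaceOver n Y)
    (Coh.structureModule Y) inferInstance i (fun h => by omega) (fun h => by omega))
  exact AmpleLib.tensorIso (PicLoc.pullbackStructureIso _) (Iso.refl _) ≪≫ AmpleLib.unitTensorIso _ ≪≫ e.symm

variable (n Y) in
theorem nonempty_push_twist (m : ℕ) :
    Nonempty ((Scheme.Modules.pushforward (KRR.pr n Y)).obj
        (KRR.twF n Y (m : ℤ) (Coh.structureModule (KRR.PY n Y))) ≅ FlatMod.freeMod Y (Nat.choose (n + m) m)) := by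
  obtain ⟨e⟩ := nonempty_push_OT (Quot8.isPn_projSpaceOver n Y) m
  obtain ⟨e'⟩ := nonempty_twF_structure (n := n) (Y := Y) (m : ℤ)
  exact ⟨(Scheme.Modules.pushforward (KRR.pr n Y)).mapIso e' ≪≫ e.symm ≪≫ Props12.freeModIso Y _⟩

end Groth.Agent.KPr28
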