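import Groth.Agent.KPr28.Free
import Mathlib.Algebra.Group.ForwardDiff
import Mathlib.RingTheory.Binomial

/-!
# `p_K` of the twists
-/

set_option autoImplicit false
set_option backward.isDefEq.respectTransparency false
set_option linter.style.haveILetI false

universe u v w

open CategoryTheory CategoryTheory.Limits AlgebraicGeometry

noncomputable section

namespace Groth.Agent.KPr28

theorem iter_choose (a : ℤ) (j : ℕ) : ∀ k : ℕ, k ≤ j →
    (fwdDiff 1)^[k] (fun t : ℤ => Ring.choose (t + a) j) = fun t : ℤ => Ring.choose (t + a) (j - k) := by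
  intro k
  induction k with
  | zero => intro _; simp
  | succ k ih =>
    intro hk
    rw [Function.iterate_succ_apply', ih (by omega)]
    obtain ⟨r, hr⟩ : ∃ r, j - k = r + 1 := ⟨j - k - 1, by omega⟩
    rw [hr, show j - (k + 1) = r by omega]
    funext t
    simp only [fwdDiff, show t + 1 + a = t + a + 1 by ring, Ring.choose_succ_succ, add_sub_cancel_right]

/-- The Hilbert polynomial satisfies the difference equation. -/
theorem rel_choose (n : ℕ) (t : ℤ) : Rel n (fun s : ℤ => Ring.choose (s + n) n) t := by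
  have h : (fwdDiff 1)^[n + 1] (fun s : ℤ => Ring.choose (s + n) n) t = 0 := by
    rw [Function.iterate_succ_apply', iter_choose (n : ℤ) n n le_rfl]
    simp [fwdDiff]
  rw [fwdDiff_iter_eq_sum_shift, ← Finset.sum_range_reflect] at h
  refine Eq.trans (Finset.sum_congr rfl fun p hp => ?_) h
  have hp' : p ≤ n + 1 := by have := Finset.mem_range.1 hp; omega
  rw [show n + 1 + 1 - 1 - p = n + 1 - p by omega, show n + 1 - (n + 1 - p) = p by omega,
    Nat.choose_symm hp', show t + (n + 1 - p) • (1 : ℤ) = t + ((n : ℤ) + 1) - p by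
      rw [nsmul_one, Nat.cast_sub hp']; push_cast; ring]

variable {n : ℕ} {Y : Scheme.{u}}

theorem cl_freeMod (N : ℕ) : KRR.cl Y (FlatMod.freeMod Y N) = (N : ℤ) • KRR.cl Y (Coh.structureModule Y) :=
  (sigma_copies (P := fun M : Y.Modules => FlatMod.IsFinLocFree M)
    (fun S hS h₁ h₃ => ExtFilt28.isFinLocFree_extension hS h₁ h₃)
    (fun Z hZ => fun x => ⟨⊤, 0, trivial, ⟨((Scheme.Modules.restrictFunctor _).map_isZero hZ).iso
      DCat.ProjPerf.isZero_freeMod_zero⟩⟩)
    (KRR.cl Y) (fun S hS h₁ h₂ h₃ => ExtFilt28.clv_ses hS h₁ h₂ h₃)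
    (Coh.structureModule Y) (Coherent.CohBC.isFinLocFree_structureModule Y) N).2

variable {KP : Type v} {KY : Type w} [CommRing KP] [CommRing KY]

/-- `p_K [O(t)] = C(t+n, n)` for all `t ≥ -n`. -/
theorem pushPr_twist {φP : SGA6.Kvb (KRR.PY n Y) →+ KP} {φY : SGA6.Kvb Y →+ KY}
    (h1 : φY (KRR.cl Y (Coh.structureModule Y)) = 1) {g : KP →+ KY} (hg : KRR.IsPushPr n Y φP φY g) (t : ℤ) :
    g (φP (KRR.cl (KRR.PY n Y) (KRR.twF n Y t (Coh.structureModule (KRR.PY n Y))))) =
      ((Ring.choose (t + n) n : ℤ) : KY) := by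
  have hO := Coherent.CohBC.isFinLocFree_structureModule (KRR.PY n Y)
  refine eq_of_rel (n := n) 0 (f := fun t => g (φP (KRR.cl (KRR.PY n Y) (KRR.twF n Y t (Coh.structureModule (KRR.PY n Y))))))
    (g := fun t => ((Ring.choose (t + n) n : ℤ) : KY)) (fun s => ?_) (fun s => ?_) (fun s hs => ?_) t
  · have h := congrArg (g.comp φP) (rel_vb hO s)
    rw [map_zero, map_sum] at h
    simp only [map_zsmul, AddMonoidHom.comp_apply] at h
    exact h
  · have h := congrArg (fun z : ℤ => (z : KY)) (rel_choose n s)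
    simp only [Int.cast_sum, Int.cast_zero, zsmul_eq_mul, Int.cast_mul, Int.cast_id] at h ⊢
    unfold Rel
    simpa only [zsmul_eq_mul, Int.cast_mul] using h
  · obtain ⟨m, rfl⟩ := Int.eq_ofNat_of_zero_le hs
    obtain ⟨e⟩ := nonempty_push_twist n Y m
    have hreg : KRR.IsRegSheaf n Y (KRR.twF n Y (m : ℤ) (Coh.structureModule (KRR.PY n Y))) :=
      isRegSheaf_twF isRegSheaf_structure (Int.natCast_nonneg m)
    show g _ = _
    rw [hg _ (isFinLocFree_twF hO _) hreg, show KRR.cl Y _ = KRR.cl Y _ from ExtFilt28.clv_iso e, cl_freeMod,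
      map_zsmul, h1, zsmul_one, ← Nat.cast_add, Ring.choose_natCast, add_comm m n, Nat.choose_symm_add]

end Groth.Agent.KPr28
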