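import Groth.Agent.KPr28.Counit
import Groth.Agent.KPr28.Free
import Groth.Agent.Coherent.QcohOps
import Groth.Agent.KPr28.Twists

/-!
# Resolution of regular bundles by twisted pullbacks
-/

set_option autoImplicit false
set_option linter.style.haveILetI false
set_option backward.isDefEq.respectTransparency false

universe u v w

open CategoryTheory CategoryTheory.Limits AlgebraicGeometry TopologicalSpace
open Groth.Agent.Coherent

noncomputable section

namespace Groth.Agent.KPr28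

variable {n : ℕ} {Y : Scheme.{u}}

/-- The kernel of the counit, twisted once. -/
abbrev stepMod (F : (KRR.PY n Y).Modules) : (KRR.PY n Y).Modules :=
  KRR.twF n Y 1 (kernel ((Scheme.Modules.pullbackPushforwardAdjunction (KRR.pr n Y)).counit.app F))

theorem van_twF_pull {G : Y.Modules} [Coh.IsQCoh G] (d : ℤ) (q : ℕ) (h₀ : ¬ (q = 0 ∧ 0 ≤ d))
    (hn : ¬ (q = n ∧ d ≤ -((n : ℤ) + 1))) :
    Van q (KRR.twF n Y d ((Scheme.Modules.pullback (KRR.pr n Y)).obj G)) :=
  van_of_iso (AmpleLib.tensorComm _ _)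
    (ProjVanish14.isZero_rpushAb_twist (d := d) (Quot8.isPn_projSpaceOver n Y) G inferInstance q h₀ hn)

/-- Vanishing in degree zero passes to subobjects. -/
theorem van_X₁_zero {S : ShortComplex (KRR.PY n Y).Modules} (hS : S.ShortExact) (h : Van 0 S.X₂) :
    Van 0 S.X₁ := by
  let F := Coh.pushAb (KRR.pr n Y)
  have hS' := toAb_shortExact hS
  haveI : Mono (F.map ((toAbFunctor _).map S.f)) := by
    haveI : Mono ((toAbFunctor (KRR.PY n Y)).map S.f) := hS'.mono_f
    exact F.map_mono ((toAbFunctor _).map S.f)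
  refine IsZero.of_iso ?_ ((F.rightDerivedZeroIsoSelf).app _)
  exact IsZero.of_mono (F.map ((toAbFunctor _).map S.f))
    (h.of_iso ((F.rightDerivedZeroIsoSelf).app _).symm)

theorem isZero_push_of_van {F : (KRR.PY n Y).Modules} (h : Van 0 F) :
    IsZero ((Scheme.Modules.pushforward (KRR.pr n Y)).obj F) := by
  have h1 : IsZero ((toAbFunctor Y).obj ((Scheme.Modules.pushforward (KRR.pr n Y)).obj F)) :=
    IsZero.of_iso h (((Coh.pushAb (KRR.pr n Y)).rightDerivedZeroIsoSelf).app (Coh.toAb F)).symm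
  rw [IsZero.iff_id_eq_zero]
  exact (toAbFunctor Y).map_injective (h1.eq_of_src _ _)

/-- The kernel of the counit of a regular bundle, twisted once, is a regular bundle. -/
theorem regP_stepMod {F : (KRR.PY n Y).Modules} (hF : regP n Y F) : regP n Y (stepMod F) := by
  let adj := Scheme.Modules.pullbackPushforwardAdjunction (KRR.pr n Y)
  have hG := isFinLocFree_push_reg hF.1 hF.2
  haveI hepi : Epi (adj.counit.app F) := epi_counit' hF.1 hF.2
  refine ⟨isFinLocFree_twF (KoszPn17.isFinLocFree_kernel _ (DCat.PullPerf.isFinLocFree_pullback _ hG) hF.1) 1, ?_⟩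
  haveI : Coh.IsQCoh ((Scheme.Modules.pushforward (KRR.pr n Y)).obj F) :=
    (Coherent.CohBC.isCoh_of_isFinLocFree hG).1
  let P := (Scheme.Modules.pullback (KRR.pr n Y)).obj ((Scheme.Modules.pushforward (KRR.pr n Y)).obj F)
  let S : ShortComplex (KRR.PY n Y).Modules :=
    ShortComplex.mk (kernel.ι (adj.counit.app F)) (adj.counit.app F) (kernel.condition _)
  have hS : S.ShortExact :=
    ShortComplex.ShortExact.mk' (ShortComplex.exact_of_f_is_kernel _ (kernelIsKernel _)) inferInstance hepi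
  intro i hi
  obtain ⟨e⟩ := CM28.nonempty_twF_twF (kernel (adj.counit.app F)) (show -(i : ℤ) + 1 = 1 - (i : ℤ) by ring)
  refine van_of_iso e.symm ?_
  obtain ⟨k, rfl⟩ : ∃ k, i = k + 1 := ⟨i - 1, by omega⟩
  rcases Nat.eq_zero_or_pos k with rfl | hk
  · obtain ⟨e0⟩ := CM28.nonempty_twF_zero (kernel (adj.counit.app F))
    obtain ⟨eP⟩ := CM28.nonempty_twF_zero P
    refine van_of_iso (e0.symm ≪≫ eqToIso (congrArg (fun d : ℤ => KRR.twF n Y d _)
      (show (0 : ℤ) = 1 - ((0 + 1 : ℕ) : ℤ) by norm_num))) ?_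
    have hsplit : Epi ((Coh.pushAb (KRR.pr n Y)).map
        ((toAbFunctor (KRR.PY n Y)).map (adj.counit.app F))) :=
      haveI : IsSplitEpi ((Scheme.Modules.pushforward (KRR.pr n Y)).map (adj.counit.app F)) :=
        IsSplitEpi.mk' ⟨adj.unit.app _, adj.right_triangle_components F⟩
      inferInstanceAs (Epi ((toAbFunctor Y).map
        ((Scheme.Modules.pushforward (KRR.pr n Y)).map (adj.counit.app F))))
    exact CM28.isZero_X₁_one (Coh.pushAb (KRR.pr n Y)) (toAb_shortExact hS)
      (van_of_iso eP (van_twF_pull 0 1 (fun h => by omega) (fun h => by omega))) (hepi := hsplit)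
  · obtain ⟨T, hT, e₁, e₂, e₃⟩ := twF_ses hS (1 - ((k + 1 : ℕ) : ℤ))
    have h₂ : Van (k + 1) T.X₂ := by
      rw [e₂]; exact van_twF_pull _ (k + 1) (fun h => by omega) (fun h => by omega)
    have h₃ : Van k T.X₃ := by
      rw [e₃, show (1 : ℤ) - ((k + 1 : ℕ) : ℤ) = -(k : ℤ) by push_cast; ring]; exact hF.2 k hk
    show Van (k + 1) (KRR.twF n Y (1 - ((k + 1 : ℕ) : ℤ)) S.X₁)
    rw [← e₁]
    exact CM28.isZero_X₁ (Coh.pushAb (KRR.pr n Y)) (toAb_shortExact hT) k h₂ h₃

set_option maxHeartbeats 1000000 in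
/-- `π_* π^* H ≅ H` for bundles. -/
theorem nonempty_push_pull {H : Y.Modules} (hH : FlatMod.IsFinLocFree H) :
    Nonempty ((Scheme.Modules.pushforward (KRR.pr n Y)).obj ((Scheme.Modules.pullback (KRR.pr n Y)).obj H) ≅ H) := by
  obtain ⟨e⟩ := nonempty_push_twist n Y 0
  obtain ⟨z⟩ := CM28.nonempty_twF_zero (Coh.structureModule (KRR.PY n Y))
  have h1 : Nat.choose (n + 0) 0 = 1 := Nat.choose_zero_right _
  let e0 : FlatMod.freeMod Y (Nat.choose (n + 0) 0) ≅ Coh.structureModule Y :=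
    eqToIso (congrArg (FlatMod.freeMod Y) h1) ≪≫ (coproductUniqueIso fun _ : Fin 1 => Coh.structureModule Y)
  let p := Scheme.Modules.pushforward (KRR.pr n Y)
  let O := Coh.structureModule (KRR.PY n Y)
  let q := (Scheme.Modules.pullback (KRR.pr n Y)).obj H
  let a₁ : q ≅ CohB1.tensorMod q O := (AmpleLib.tensorComm q O ≪≫ AmpleLib.unitTensorIso q).symm
  let a₂ : p.obj (CohB1.tensorMod q O) ≅ CohB1.tensorMod H (p.obj O) :=
    ((Coherent.projIso (f := KRR.pr n Y) hH).app O).symm
  let a₃ : p.obj O ≅ Coh.structureModule Y := p.mapIso z.symm ≪≫ e ≪≫ e0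
  let a₄ : CohB1.tensorMod H (p.obj O) ≅ CohB1.tensorMod H (Coh.structureModule Y) :=
    AmpleLib.tensorIso (Iso.refl H) a₃
  exact ⟨p.mapIso a₁ ≪≫ a₂ ≪≫ a₄ ≪≫ AmpleLib.tensorComm _ _ ≪≫ AmpleLib.unitTensorIso _⟩

/-- An epimorphism onto an isomorphic bundle is an isomorphism. -/
theorem isIso_of_epi_iso {X : Scheme.{u}} {A B : X.Modules} (hB : FlatMod.IsFinLocFree B) (e : A ≅ B)
    (g : A ⟶ B) [Epi g] : IsIso g := by
  haveI := CAlgH3.LocFreeFactor.isQCoh_of_finLocFree hB
  let h : B ⟶ B := e.inv ≫ g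
  haveI : Mono h := OmegaLib.mono_of_stalks_injective _ fun x => by
    haveI : Module.Finite (X.presheaf.stalk x) ((DerSch.stalkFunctor X x).obj B) :=
      Props12.finite_stalk_of_isFT B (Coherent.CohBC.isCoh_of_isFinLocFree hB).2 x
    haveI : Epi ((DerSch.stalkFunctor X x).map h) := (DerSch.stalkFunctor X x).map_epi h
    exact OrzechProperty.injective_of_surjective_endomorphism ((DerSch.stalkFunctor X x).map h).hom
      ((ModuleCat.epi_iff_surjective _).1 inferInstance)
  haveI : IsIso h := isIso_of_mono_of_epi h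
  exact IsIso.of_isIso_comp_left e.inv g

/-- Iterated kernels. -/
def iterStep (F : (KRR.PY n Y).Modules) : ℕ → (KRR.PY n Y).Modules
  | 0 => F
  | j + 1 => stepMod (iterStep F j)

theorem regP_iterStep {F : (KRR.PY n Y).Modules} (hF : regP n Y F) : ∀ j, regP n Y (iterStep F j)
  | 0 => hF
  | j + 1 => regP_stepMod (regP_iterStep hF j)

/-- The first `j` negative twists of the `j`-th kernel are acyclic in all degrees. -/
theorem van_iterStep {F : (KRR.PY n Y).Modules} (hF : regP n Y F) :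
    ∀ j : ℕ, j ≤ n + 1 → ∀ s : ℕ, 1 ≤ s → s ≤ j → ∀ q : ℕ,
      Van q (KRR.twF n Y (-(s : ℤ)) (iterStep F j)) := by
  intro j
  induction j with
  | zero => intro _ s h1 h2; omega
  | succ j ih =>
    intro hj s hs hsj q
    let G := iterStep F j
    have hG : regP n Y G := regP_iterStep hF j
    let adj := Scheme.Modules.pullbackPushforwardAdjunction (KRR.pr n Y)
    have hpG := isFinLocFree_push_reg hG.1 hG.2
    haveI : Coh.IsQCoh ((Scheme.Modules.pushforward (KRR.pr n Y)).obj G) :=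
      (Coherent.CohBC.isCoh_of_isFinLocFree hpG).1
    haveI hepi : Epi (adj.counit.app G) := epi_counit' hG.1 hG.2
    have hS : (ShortComplex.mk (kernel.ι (adj.counit.app G)) (adj.counit.app G) (kernel.condition _)).ShortExact :=
      ShortComplex.ShortExact.mk' (ShortComplex.exact_of_f_is_kernel _ (kernelIsKernel _)) inferInstance hepi
    obtain ⟨e⟩ := CM28.nonempty_twF_twF (kernel (adj.counit.app G))
      (show -(s : ℤ) + 1 = -((s - 1 : ℕ) : ℤ) by omega)
    refine van_of_iso e.symm ?_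
    rcases Nat.eq_zero_or_pos q with rfl | hq
    · by_cases hs1 : s = 1
      · subst hs1
        obtain ⟨e0⟩ := CM28.nonempty_twF_zero (kernel (adj.counit.app G))
        refine van_of_iso (e0.symm ≪≫ eqToIso (congrArg (fun d : ℤ => KRR.twF n Y d _)
          (show (0 : ℤ) = -((1 - 1 : ℕ) : ℤ) by norm_num))) ?_
        -- the unit is split mono, hence `π_*` of the kernel vanishes
        haveI : PreservesLimitsOfSize.{0, 0} (Scheme.Modules.pushforward (KRR.pr n Y)) :=
          adj.rightAdjoint_preservesLimits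
        haveI : IsSplitEpi ((Scheme.Modules.pushforward (KRR.pr n Y)).map (adj.counit.app G)) :=
          IsSplitEpi.mk' ⟨adj.unit.app _, adj.right_triangle_components G⟩
        obtain ⟨eH⟩ := nonempty_push_pull (n := n) hpG
        haveI : IsIso ((Scheme.Modules.pushforward (KRR.pr n Y)).map (adj.counit.app G)) :=
          isIso_of_epi_iso hpG eH _
        have h1 : (Scheme.Modules.pushforward (KRR.pr n Y)).map (kernel.ι (adj.counit.app G)) = 0 := by
          rw [← cancel_mono ((Scheme.Modules.pushforward (KRR.pr n Y)).map (adj.counit.app G)), zero_comp,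
            ← Functor.map_comp, kernel.condition, Functor.map_zero]
        have hz : IsZero ((Scheme.Modules.pushforward (KRR.pr n Y)).obj (kernel (adj.counit.app G))) :=
          IsZero.of_mono_eq_zero _ h1
        exact IsZero.of_iso ((toAbFunctor Y).map_isZero hz) (((Coh.pushAb (KRR.pr n Y)).rightDerivedZeroIsoSelf).app _)
      · obtain ⟨T, hT, e₁, e₂, -⟩ := twF_ses hS (-((s - 1 : ℕ) : ℤ))
        refine (congrArg (Van 0) e₁).mp (van_X₁_zero hT ((congrArg (Van 0) e₂).mpr ?_))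
        exact van_twF_pull _ 0 (fun h => by omega) (fun h => by omega)
    · by_cases hs1 : s = 1
      · -- the positive degrees are regularity
        have h := van_twF_of_reg (regP_stepMod hG).2 (q - 1) q hq
        rw [show ((q - 1 : ℕ) : ℤ) - q = -(1 : ℕ) by omega] at h
        subst hs1
        exact van_of_iso e h
      · obtain ⟨q, rfl⟩ : ∃ p, q = p + 1 := ⟨q - 1, by omega⟩
        obtain ⟨T, hT, e₁, e₂, e₃⟩ := twF_ses hS (-((s - 1 : ℕ) : ℤ))
        refine (congrArg (Van (q + 1)) e₁).mp (CM28.isZero_X₁ (Coh.pushAb (KRR.pr n Y)) (toAb_shortExact hT) q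
          ((congrArg (Van (q + 1)) e₂).mpr ?_) ((congrArg (Van q) e₃).mpr ?_))
        · exact van_twF_pull _ (q + 1) (fun h => by omega) (fun h => by omega)
        · exact ih (by omega) (s - 1) (by omega) (by omega) q

/-- The resolution stops after `n + 1` steps. -/
theorem isZero_iterStep {F : (KRR.PY n Y).Modules} (hF : regP n Y F) : IsZero (iterStep F (n + 1)) := by
  let G := iterStep F (n + 1)
  have hG : regP n Y G := regP_iterStep hF (n + 1)
  obtain ⟨D, f, w, hex, hepi, hX, hz⟩ := exists_koszulSeq n Y G 0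
  obtain ⟨e0⟩ := hX 0 (Nat.zero_le _)
  obtain ⟨u0⟩ := nonempty_sigma_one (Nat.choose_zero_right (n + 1)) (KRR.twF n Y ((0 : ℤ) - ((0 : ℕ) : ℤ)) G)
  obtain ⟨z0⟩ := CM28.nonempty_twF_zero G
  have h0 : Van 0 (D 0) := van_of_exact (n + 1) 0 D f w hex hepi hz fun p => by
    by_cases hp : p + 1 ≤ n + 1
    · obtain ⟨e⟩ := hX (p + 1) hp
      refine van_of_iso e.symm (van_sigma _ ?_)
      rw [show (0 : ℤ) - ((p + 1 : ℕ) : ℤ) = -((p + 1 : ℕ) : ℤ) by ring]
      exact van_iterStep hF (n + 1) le_rfl (p + 1) (by omega) hp _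
    · exact (Coh.RpushAb (KRR.pr n Y) (0 + p)).map_isZero ((toAbFunctor _).map_isZero (hz _ (by omega)))
  have hp := isZero_push_of_van (van_of_iso (e0 ≪≫ u0 ≪≫
    eqToIso (congrArg (fun d => KRR.twF n Y d G) (sub_zero (0 : ℤ))) ≪≫ z0) h0)
  haveI : Epi ((Scheme.Modules.pullbackPushforwardAdjunction (KRR.pr n Y)).counit.app G) := epi_counit' hG.1 hG.2
  exact IsZero.of_epi ((Scheme.Modules.pullbackPushforwardAdjunction (KRR.pr n Y)).counit.app G)
    ((Scheme.Modules.pullback (KRR.pr n Y)).map_isZero hp)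

/-- Regular bundles lie in the span of the twisted pullbacks. -/
theorem cl_mem_of_regP {F : (KRR.PY n Y).Modules} (hF : regP n Y F) (A : AddSubgroup (SGA6.Kvb (KRR.PY n Y)))
    (hA : ∀ i : ℕ, i ≤ n → ∀ T : Y.Modules, FlatMod.IsFinLocFree T →
      KRR.cl _ (KRR.twF n Y (-(i : ℤ)) ((Scheme.Modules.pullback (KRR.pr n Y)).obj T)) ∈ A) :
    KRR.cl _ F ∈ A := by
  suffices H : ∀ k : ℕ, ∀ j, j + k = n + 1 → KRR.cl _ (KRR.twF n Y (-(j : ℤ)) (iterStep F j)) ∈ A by
    obtain ⟨e⟩ := CM28.nonempty_twF_zero F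
    have h := H (n + 1) 0 (by omega)
    have e' : KRR.twF n Y (-((0 : ℕ) : ℤ)) F ≅ F :=
      eqToIso (congrArg (fun d : ℤ => KRR.twF n Y d F) (show -((0 : ℕ) : ℤ) = 0 by norm_num)) ≪≫ e
    rw [show KRR.cl _ F = KRR.cl _ (KRR.twF n Y (-((0 : ℕ) : ℤ)) F) from ExtFilt28.clv_iso e'.symm]
    exact h
  intro k
  induction k with
  | zero =>
    intro j hj
    have hj : j = n + 1 := by omega
    subst hj
    have hz : IsZero (KRR.twF n Y (-((n + 1 : ℕ) : ℤ)) (iterStep F (n + 1))) :=
      ((DCoh.tensorBi (X := KRR.PY n Y)).obj _).map_isZero (isZero_iterStep hF)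
    show KRR.cl _ _ ∈ A
    rw [show KRR.cl (KRR.PY n Y) (KRR.twF n Y (-((n + 1 : ℕ) : ℤ)) (iterStep F (n + 1))) = 0 from
      KPush28.clSub_of_isZero' hz]
    exact A.zero_mem
  | succ k ih =>
    intro j hj
    let G := iterStep F j
    have hG : regP n Y G := regP_iterStep hF j
    let c := (Scheme.Modules.pullbackPushforwardAdjunction (KRR.pr n Y)).counit.app G
    haveI hepi : Epi c := epi_counit' hG.1 hG.2
    have hpG := isFinLocFree_push_reg hG.1 hG.2
    have hpl := DCat.PullPerf.isFinLocFree_pullback (KRR.pr n Y) hpG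
    have hK : FlatMod.IsFinLocFree (kernel c) := KoszPn17.isFinLocFree_kernel c hpl hG.1
    have hS : (ShortComplex.mk (kernel.ι c) c (kernel.condition _)).ShortExact :=
      ShortComplex.ShortExact.mk' (ShortComplex.exact_of_f_is_kernel _ (kernelIsKernel _)) inferInstance hepi
    obtain ⟨T, hT, e₁, e₂, e₃⟩ := twF_ses hS (-(j : ℤ))
    have h := ExtFilt28.clv_ses hT (e₁ ▸ isFinLocFree_twF hK _) (e₂ ▸ isFinLocFree_twF hpl _)
      (e₃ ▸ isFinLocFree_twF hG.1 _)
    rw [e₁, e₂, e₃] at h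
    obtain ⟨e⟩ := CM28.nonempty_twF_twF (kernel c) (show -((j + 1 : ℕ) : ℤ) + 1 = -(j : ℤ) by push_cast; ring)
    have hk1 : KRR.cl _ (KRR.twF n Y (-(j : ℤ)) (kernel c)) ∈ A :=
      (show KRR.cl _ _ = KRR.cl _ _ from ExtFilt28.clv_iso e) ▸ ih (j + 1) (by omega)
    have hk2 := A.sub_mem (hA j (by omega) _ hpG) hk1
    rwa [show KRR.cl _ (KRR.twF n Y (-(j : ℤ)) G) = KRR.cl _ (KRR.twF n Y (-(j : ℤ)) ((Scheme.Modules.pullback (KRR.pr n Y)).obj
      ((Scheme.Modules.pushforward (KRR.pr n Y)).obj G))) - KRR.cl _ (KRR.twF n Y (-(j : ℤ)) (kernel c)) from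
        eq_sub_of_add_eq' h.symm]

end Groth.Agent.KPr28
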