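import Groth.Agent.KPr28.Push
import Groth.Agent.KPr28.PullSq
import Groth.Agent.CohExch.Chart0
import Groth.Agent.H8Coh.BCMapSections
import Groth.Agent.DCat.PullTensor

/-!
# Regular bundles and base change
-/

set_option autoImplicit false
set_option backward.isDefEq.respectTransparency false
set_option linter.style.haveILetI false

universe u

open CategoryTheory CategoryTheory.Limits AlgebraicGeometry TopologicalSpace
open Groth.Agent.Coherent

noncomputable section

namespace Groth.Agent.KPr28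

theorem isFinLocFree_of_isZero_any {X : Scheme.{u}} {Z : X.Modules} (hZ : IsZero Z) :
    FlatMod.IsFinLocFree Z := fun x =>
  ⟨⊤, 0, trivial, ⟨((Scheme.Modules.restrictFunctor (⊤ : X.Opens).ι).map_isZero hZ).iso
    ((IsZero.iff_id_eq_zero _).2 (Sigma.hom_ext _ _ fun i => i.elim0))⟩⟩

/-- Vanishing of all higher direct images above `i` makes the cokernels flat. -/
theorem exists_flat_chart {X S : Scheme.{u}} {f : X ⟶ S} {G : X.Modules} [IsProper f]
    [LocallyOfFinitePresentation f] [Coh.IsQCoh G] [HasInjectiveResolutions X.Modules]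
    (hfp : CohB1.IsFP G) (hfl : FlatMod.IsFlatOver f G) (i : ℕ)
    (h : ∀ j, i ≤ j → IsZero ((Coh.Rpush f j).obj G)) (s : S) :
    ∃ C : CohExch.Chart f G, s ∈ C.U ∧ ∀ j : ℕ, i ≤ j + 1 → C.Flat (j : ℤ) := by
  obtain ⟨C₀, h₀, -⟩ := CohExch.exists_chart hfp hfl (V := ⊤) (s := s) trivial
  obtain ⟨N, hN⟩ := C₀.exists_flat_large
  suffices H : ∀ k : ℕ, ∃ C : CohExch.Chart f G, s ∈ C.U ∧
      ∀ j : ℕ, N ≤ j + k → i ≤ j + 1 → C.Flat (j : ℤ) by
    obtain ⟨C, hs, hC⟩ := H N
    exact ⟨C, hs, fun j hj => hC j (Nat.le_add_left _ _) hj⟩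
  intro k
  induction k with
  | zero => exact ⟨C₀, h₀, fun j hj _ => hN j hj⟩
  | succ k ih =>
    obtain ⟨C, hs, hC⟩ := ih
    by_cases hk : k + 1 ≤ N ∧ i ≤ N - (k + 1) + 1
    · obtain ⟨C', hs', -, hflat, hkeep⟩ := C.exists_flat_pred hfl (V := ⊤) (N - (k + 1) + 1)
        (isFinLocFree_of_isZero_any ((Scheme.Modules.restrictFunctor (⊤ : S.Opens).ι).map_isZero (h _ hk.2)))
        trivial hs (hC _ (by omega) (by omega))
      refine ⟨C', hs', fun j hj hji => ?_⟩
      by_cases hj' : j = N - (k + 1)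
      · subst hj'
        rwa [show (((N - (k + 1) + 1 : ℕ) : ℤ) - 1) = ((N - (k + 1) : ℕ) : ℤ) by push_cast; ring] at hflat
      · exact hkeep _ (hC j (by omega) hji)
    · exact ⟨C, hs, fun j hj hji => hC j (by omega) hji⟩

variable {n : ℕ} {Y Y₁ : Scheme.{u}} [IsNoetherian Y] [IsNoetherian Y₁]

/-- Regularity of bundles is stable under base change, and direct images commute with it. -/
theorem isRegSheaf_baseChange (φ : Y₁ ⟶ Y)
    (hsq : KRR.projSpaceMap n φ ≫ KRR.pr n Y = KRR.pr n Y₁ ≫ φ)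
    {F : (KRR.PY n Y).Modules} (hF : FlatMod.IsFinLocFree F) (hreg : KRR.IsRegSheaf n Y F) :
    KRR.IsRegSheaf n Y₁ ((Scheme.Modules.pullback (KRR.projSpaceMap n φ)).obj F) ∧
      IsIso (KRR.bcMap n φ hsq F) := by
  have hP := isPullback_projSpaceMap n φ hsq
  haveI := isLocallyNoetherian_PY (n := n) (Y := Y)
  haveI := isLocallyNoetherian_PY (n := n) (Y := Y₁)
  haveI : IsProper (KRR.pr n Y) := RelVALib.isProper_toBase n Y
  haveI : IsProper (KRR.pr n Y₁) := RelVALib.isProper_toBase n Y₁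
  haveI : Flat (KRR.pr n Y) := Coherent.flat_toBase n Y
  haveI : Flat (KRR.pr n Y₁) := Coherent.flat_toBase n Y₁
  haveI : HasInjectiveResolutions (KRR.PY n Y).Modules := Coherent.hasInjectiveResolutions_modules _
  haveI : HasInjectiveResolutions (KRR.PY n Y₁).Modules := Coherent.hasInjectiveResolutions_modules _
  refine ⟨fun i hi => ?_, ?_⟩
  · let G := KRR.twF n Y (-(i : ℤ)) F
    have hG : FlatMod.IsFinLocFree G := isFinLocFree_twF hF _
    have hc := Coherent.CohBC.isCoh_of_isFinLocFree hG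
    haveI : Coh.IsQCoh G := hc.1
    have hfl := Coherent.CohBC.isFlatOver_of_isFinLocFree (KRR.pr n Y) hG
    have hfp := Coherent.isFP_of_isCoh hc
    have hv : ∀ j, i ≤ j → IsZero ((Coh.Rpush (KRR.pr n Y) j).obj G) := fun j hj => by
      refine BlowUpCoh.isZero_rpush_of_rpushAb _ ?_
      have h := van_twF_of_reg hreg (j - i) j (by omega)
      rwa [show ((j - i : ℕ) : ℤ) - j = -(i : ℤ) by omega] at h
    obtain ⟨e⟩ := nonempty_pullback_twF n φ (-(i : ℤ)) F
    have hG' : FlatMod.IsFinLocFree ((Scheme.Modules.pullback (KRR.projSpaceMap n φ)).obj G) :=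
      DCat.PullPerf.isFinLocFree_pullback _ hG
    have hc' := Coherent.CohBC.isCoh_of_isFinLocFree hG'
    haveI : Coh.IsQCoh ((Scheme.Modules.pullback (KRR.projSpaceMap n φ)).obj G) := hc'.1
    refine van_of_iso e ?_
    have hz := CohExch.isZero_rpush_of_fibres (Coherent.isFP_of_isCoh hc')
      (Coherent.CohBC.isFlatOver_of_isFinLocFree (KRR.pr n Y₁) hG') i fun s => by
        rw [CohExch.subsingleton_fiberH_iff_rank (Coherent.isFP_of_isCoh hc') s i,
          CohBC.fiberRank_pullback hP G i s, ← CohExch.subsingleton_fiberH_iff_rank hfp (φ s) i]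
        obtain ⟨C, hs, hC⟩ := exists_flat_chart hfp hfl i hv (φ s)
        refine C.subsingleton_fiberH hfp hfl i (hC i (by omega)) ?_ hs
        obtain ⟨eq⟩ := C.nonempty_sectionsEquiv i
        have : Subsingleton Γ((Coh.Rpush (KRR.pr n Y) i).obj G, C.U) :=
          subsingleton_of_forall_eq 0 fun t => congr(($((IsZero.iff_id_eq_zero _).1 (hv i le_rfl))).app C.U t)
        exact eq.symm.toEquiv.subsingleton
    exact ((toAbFunctor _).map_isZero hz).of_iso (Coherent.toAbRpushIso (KRR.pr n Y₁) _ i).symm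
  · have hc := Coherent.CohBC.isCoh_of_isFinLocFree hF
    haveI : Coh.IsQCoh F := hc.1
    have hfl := Coherent.CohBC.isFlatOver_of_isFinLocFree (KRR.pr n Y) hF
    haveI := CohExch.isIso_bc0_of_flat (F := F) hP fun z => by
      obtain ⟨C, hs, hC⟩ := exists_flat_chart (Coherent.isFP_of_isCoh hc) hfl 1
        (fun j hj => BlowUpCoh.isZero_rpush_of_rpushAb _ (van_of_reg hreg j hj)) (φ z)
      exact ⟨C, hs, hC 0 le_rfl⟩
    have h : KRR.bcMap n φ hsq F = CohBC.bc0 (KRR.pr n Y) φ (KRR.pr n Y₁) (KRR.projSpaceMap n φ) hP.w F :=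
      RelVALib.hom_ext_pullSec φ _ _ fun V _ m =>
        (H8Coh.adjointBC_app_pullSec (KRR.pr n Y) hsq F m).trans (CohExch.bc0_pullSec hsq F V m).symm
    rw [h]
    infer_instance

end Groth.Agent.KPr28
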