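import Groth.Agent.KPr28.TensorSplit
import Groth.Agent.Coherent.RelExact14.ProjPush
import Groth.Agent.CurveRR24.DegOne
import Groth.Agent.AmpleLib.CounitEpi
import Groth.Agent.Desc19b.GGFpqc

/-!
# Regular sheaves are generated by their direct image
-/

set_option autoImplicit false
set_option backward.isDefEq.respectTransparency false
set_option linter.style.haveILetI false

universe u v w

open CategoryTheory CategoryTheory.Limits AlgebraicGeometry TopologicalSpace
open Groth.Agent.Coherent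

noncomputable section

namespace Groth.Agent.KPr28

theorem unitTensorIso_natural {X : Scheme.{u}} {M N : X.Modules} (φ : M ⟶ N) :
    ((DCoh.tensorBi (X := X)).obj (Coh.structureModule X)).map φ ≫ (AmpleLib.unitTensorIso N).hom =
      (AmpleLib.unitTensorIso M).hom ≫ φ :=
  AmpleLib.hom_ext fun U a b => by
    have e1 : (((DCoh.tensorBi (X := X)).obj (Coh.structureModule X)).map φ).app U (AmpleLib.tmul a b) =
        AmpleLib.tmul a (φ.app U b) := DCat.PullTensor.tensorBi_obj_map_tmul φ U a b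
    show (AmpleLib.unitTensorIso N).hom.app U ((((DCoh.tensorBi (X := X)).obj (Coh.structureModule X)).map φ).app U (AmpleLib.tmul a b)) =
      φ.app U ((AmpleLib.unitTensorIso M).hom.app U (AmpleLib.tmul a b))
    rw [e1, CurveRR24.unitTensorIso_tmul', CurveRR24.unitTensorIso_tmul']
    exact (φ.app_smul (show Γ(X, U) from a) b).symm

/-- Cutting off the first map of an exact complex. -/
theorem exists_trunc {X : Scheme.{u}} (E : ℕ → X.Modules) (g : ∀ p, E (p + 1) ⟶ E p)
    (w : ∀ p, g (p + 1) ≫ g p = 0) (hex : ∀ p, (ShortComplex.mk (g (p + 1)) (g p) (w p)).Exact) :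
    ∃ (D : ℕ → X.Modules) (f : ∀ p, D (p + 1) ⟶ D p) (w' : ∀ p, f (p + 1) ≫ f p = 0),
      (∀ p, (ShortComplex.mk (f (p + 1)) (f p) (w' p)).Exact) ∧ Epi (f 0) ∧
      D 0 = kernel (g 0) ∧ ∀ q, D (q + 1) = E (q + 2) := by
  let D' : ℕ → X.Modules := fun p => match p with
    | 0 => kernel (g 0)
    | q + 1 => E (q + 2)
  let f' : ∀ p, D' (p + 1) ⟶ D' p := fun p => match p with
    | 0 => kernel.lift (g 0) (g 1) (w 0)
    | q + 1 => g (q + 2)
  have w' : ∀ p, f' (p + 1) ≫ f' p = 0 := fun p => match p with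
    | 0 => (cancel_mono (kernel.ι (g 0))).1 (by
        show (g 2 ≫ kernel.lift (g 0) (g 1) (w 0)) ≫ _ = _
        rw [Category.assoc, kernel.lift_ι, zero_comp]; exact w 1)
    | q + 1 => w (q + 2)
  refine ⟨D', f', w', fun p => match p with
    | 0 => ?_
    | q + 1 => hex (q + 2), (ShortComplex.exact_iff_epi_kernel_lift _).1 (hex 0), rfl, fun q => rfl⟩
  let φ : ShortComplex.mk (f' 1) (f' 0) (w' 0) ⟶ ShortComplex.mk (g 2) (g 1) (w 1) :=
    { τ₁ := 𝟙 _, τ₂ := 𝟙 _, τ₃ := kernel.ι (g 0)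
      comm₁₂ := by simp [f']
      comm₂₃ := by simp [f'] }
  haveI : Epi φ.τ₁ := inferInstanceAs (Epi (𝟙 _))
  haveI : IsIso φ.τ₂ := inferInstanceAs (IsIso (𝟙 _))
  haveI : Mono φ.τ₃ := inferInstanceAs (Mono (kernel.ι (g 0)))
  exact (ShortComplex.exact_iff_of_epi_of_isIso_of_mono φ).2 (hex 1)

variable {n : ℕ} {Y : Scheme.{u}}

/-- The last step of the Koszul complex: `O^(n+1) ⟶ O(1)`. -/
theorem exists_lastStep : ∃ (A B : (KRR.PY n Y).Modules) (φ : A ⟶ B) (_ : Nonempty (B ≅ Twist.twistOver n Y 1))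
    (ι : Fin (n + 1) → (Coh.structureModule (KRR.PY n Y) ⟶ A)) (π : Fin (n + 1) → (A ⟶ Coh.structureModule (KRR.PY n Y))),
    (∑ b, π b ≫ ι b = 𝟙 A) ∧ ∀ F : (KRR.PY n Y).Modules, KRR.IsRegSheaf n Y F →
      Epi ((tensR F).map φ) ∧ Van 1 (kernel ((tensR F).map φ)) ∧
      KRR.IsRegSheaf n Y (KRR.twF n Y 1 (kernel ((tensR F).map φ))) := by
  classical
  let O := Coh.structureModule (KRR.PY n Y)
  obtain ⟨D, f, w, hex, hepi, hX, hz⟩ := exists_koszulSeq n Y O 1
  let h : ∀ d : ℤ, KRR.twF n Y d O ≅ Twist.twistOver n Y d := fun d =>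
    AmpleLib.tensorComm _ _ ≪≫ AmpleLib.unitTensorIso _
  obtain ⟨e0⟩ := hX 0 (Nat.zero_le _)
  obtain ⟨e1⟩ := hX 1 (by omega)
  obtain ⟨u0⟩ := nonempty_sigma_one (Nat.choose_zero_right (n + 1)) (KRR.twF n Y ((1 : ℤ) - ((0 : ℕ) : ℤ)) O)
  obtain ⟨z⟩ := CM28.nonempty_twistOver_zero n Y
  let o : O ≅ KRR.twF n Y ((1 : ℤ) - ((1 : ℕ) : ℤ)) O :=
    z.symm ≪≫ (h 0).symm ≪≫ eqToIso (congrArg (fun d => KRR.twF n Y d O) (show (0 : ℤ) = 1 - ((1 : ℕ) : ℤ) by norm_num))
  let σ : Fin (Nat.choose (n + 1) 1) ≃ Fin (n + 1) := finCongr (Nat.choose_one_right (n + 1))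
  refine ⟨D 1, D 0, f 0,
    ⟨e0 ≪≫ u0 ≪≫ eqToIso (congrArg (fun d => KRR.twF n Y d O) (show (1 : ℤ) - ((0 : ℕ) : ℤ) = 1 by norm_num)) ≪≫ h 1⟩,
    fun b => o.hom ≫ Sigma.ι (fun _ : Fin (Nat.choose (n + 1) 1) => KRR.twF n Y ((1 : ℤ) - ((1 : ℕ) : ℤ)) O) (σ.symm b) ≫ e1.inv,
    fun b => e1.hom ≫ (Sigma.desc fun c => if c = σ.symm b then 𝟙 _ else 0) ≫ o.inv, ?_, fun F hF => ?_⟩
  · rw [← cancel_epi e1.inv, Category.comp_id, Preadditive.comp_sum]
    refine Sigma.hom_ext _ _ fun c => ?_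
    rw [Preadditive.comp_sum, Finset.sum_eq_single (σ c)]
    · simp
    · intro b _ hb
      have hne : c ≠ σ.symm b := fun e => hb (by rw [e, Equiv.apply_symm_apply])
      simp [hne]
    · exact fun hb => absurd (Finset.mem_univ _) hb
  · have hP : ∀ p, FlatMod.IsFinLocFree (D p) := fun p => by
      by_cases hp : p ≤ n + 1
      · obtain ⟨e⟩ := hX p hp
        exact DQCoh.ProperSuppFlat17.isFinLocFree_of_iso e.symm
          (sigma_copies (P := fun M : (KRR.PY n Y).Modules => FlatMod.IsFinLocFree M)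
            (fun S hS h₁ h₃ => ExtFilt28.isFinLocFree_extension hS h₁ h₃) (fun Z hZ => finLocFree_of_isZero hZ)
            (G := PUnit.{1}) (fun _ => 0) (fun _ _ _ _ _ => rfl) _
            (isFinLocFree_twF (Coherent.CohBC.isFinLocFree_structureModule _) _) _).1
      · exact finLocFree_of_isZero (hz p (by omega))
    obtain ⟨hexF, hepiF⟩ := exact_tensR F (n + 1) D f w hex hepi hP hz
    refine ⟨hepiF, ?_⟩
    let G := tensR F
    obtain ⟨D', f', w', hex', h0', hD0, hDq⟩ := exists_trunc (fun p => G.obj (D p)) (fun p => G.map (f p))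
      (fun p => by rw [← G.map_comp, w, G.map_zero]) hexF
    have hz' : ∀ p, n < p → IsZero (D' p) := fun p hp => by
      obtain ⟨q, rfl⟩ : ∃ q, p = q + 1 := ⟨p - 1, by omega⟩
      rw [hDq]
      exact G.map_isZero (hz (q + 2) (by omega))
    have hvD : ∀ (p : ℕ) (j : ℕ) (d : ℤ), 1 ≤ j → 0 ≤ (j : ℤ) + d - 1 - p →
        Van j (KRR.twF n Y d (D' (p + 1))) := fun p j d hj hd => by
      let T := (DCoh.tensorBi (X := KRR.PY n Y)).obj (Twist.twistOver n Y d)
      rw [hDq]
      show Van j (T.obj (G.obj (D (p + 2))))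
      by_cases hp : p + 2 ≤ n + 1
      · obtain ⟨e⟩ := hX (p + 2) hp
        let c : (KRR.PY n Y).Modules := T.obj (G.obj (KRR.twF n Y ((1 : ℤ) - ((p + 2 : ℕ) : ℤ)) O))
        obtain ⟨ec⟩ := CM28.nonempty_twF_twF F (show d + (1 - ((p + 2 : ℕ) : ℤ)) = ((d + (j : ℤ) - 1 - p).toNat : ℤ) - j by
          rw [Int.toNat_of_nonneg (by omega)]; push_cast; ring)
        let ei : c ≅ KRR.twF n Y ((((d + (j : ℤ) - 1 - p).toNat : ℕ) : ℤ) - j) F :=
          T.mapIso (G.mapIso (h _)) ≪≫ ec
        have hc : Van j c := van_of_iso ei.symm (van_twF_of_reg hF _ j hj)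
        haveI : HasFiniteBiproducts (KRR.PY n Y).Modules := Abelian.hasFiniteBiproducts
        let K : Fin (Nat.choose (n + 1) (p + 2)) → (KRR.PY n Y).Modules := fun _ => KRR.twF n Y ((1 : ℤ) - ((p + 2 : ℕ) : ℤ)) O
        refine van_of_iso ?_ (van_sigma (m := Nat.choose (n + 1) (p + 2)) c hc)
        exact (biproduct.isoCoproduct fun _ : Fin (Nat.choose (n + 1) (p + 2)) => c).symm ≪≫
          ((G ⋙ T).mapBiproduct K).symm ≪≫ (G ⋙ T).mapIso (biproduct.isoCoproduct K) ≪≫ (G ⋙ T).mapIso e.symm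
      · exact (Coh.RpushAb (KRR.pr n Y) j).map_isZero ((toAbFunctor _).map_isZero
          (T.map_isZero (G.map_isZero (hz _ (by omega)))))
    show Van 1 (kernel (G.map (f 0))) ∧ KRR.IsRegSheaf n Y (KRR.twF n Y 1 (kernel (G.map (f 0))))
    rw [← hD0]
    refine ⟨van_of_exact n 1 D' f' w' hex' h0' hz' fun p => ?_, fun i hi => ?_⟩
    · obtain ⟨ez⟩ := CM28.nonempty_twF_zero (D' (p + 1))
      exact van_of_iso ez (hvD p (1 + p) 0 (by omega) (by omega))
    · let T := Coherent.tensE (Twist.twistOver n Y (-(i : ℤ) + 1))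
      haveI : PreservesFiniteLimits T := Coherent.preservesFiniteLimits_tensE (isFinLocFree_twistOver _)
      haveI : PreservesFiniteColimits T := Coherent.preservesFiniteColimits_tensE (isFinLocFree_twistOver _)
      haveI : T.Additive := Functor.additive_of_preserves_binary_products T
      obtain ⟨et⟩ := CM28.nonempty_twF_twF (D' 0) (show -(i : ℤ) + 1 = -(i : ℤ) + 1 from rfl)
      refine van_of_iso et.symm (van_of_exact n i (fun p => T.obj (D' p)) (fun p => T.map (f' p))
        (fun p => by rw [← T.map_comp, w', T.map_zero]) (fun p => (hex' p).map T) (T.map_epi (f' 0))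
        (fun p hp => T.map_isZero (hz' p hp)) fun p => hvD p (i + p) _ (by omega) (by omega))

theorem epi_push_of_van {M N : (KRR.PY n Y).Modules} (g : M ⟶ N) [Epi g] (h : Van 1 (kernel g)) :
    Epi ((Scheme.Modules.pushforward (KRR.pr n Y)).map g) := by
  haveI : HasInjectiveResolutions (KRR.PY n Y).Modules := Coherent.hasInjectiveResolutions_modules _
  have hS : (ShortComplex.mk (kernel.ι g) g (kernel.condition g)).ShortExact :=
    ShortComplex.ShortExact.mk' (ShortComplex.exact_of_f_is_kernel _ (kernelIsKernel g)) inferInstance inferInstance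
  exact (CohCmpLib.shortExact_push_of_isZero (KRR.pr n Y) hS
    (BlowUpCoh.isZero_rpush_of_rpushAb _ h)).epi_g

theorem epi_counit_of_iso {M N : (KRR.PY n Y).Modules} (e : M ≅ N)
    [Epi ((Scheme.Modules.pullbackPushforwardAdjunction (KRR.pr n Y)).counit.app M)] :
    Epi ((Scheme.Modules.pullbackPushforwardAdjunction (KRR.pr n Y)).counit.app N) := by
  have h := (Scheme.Modules.pullbackPushforwardAdjunction (KRR.pr n Y)).counit.naturality e.hom
  haveI : Epi ((Scheme.Modules.pushforward (KRR.pr n Y) ⋙ Scheme.Modules.pullback (KRR.pr n Y)).map e.hom ≫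
      (Scheme.Modules.pullbackPushforwardAdjunction (KRR.pr n Y)).counit.app N) := by
    rw [h]; exact epi_comp _ _
  exact epi_of_epi ((Scheme.Modules.pushforward (KRR.pr n Y) ⋙ Scheme.Modules.pullback (KRR.pr n Y)).map e.hom) _

/-- Going down one twist. -/
theorem epi_counit_step {F : (KRR.PY n Y).Modules} (hreg : KRR.IsRegSheaf n Y F)
    (hup : Epi ((Scheme.Modules.pullbackPushforwardAdjunction (KRR.pr n Y)).counit.app (KRR.twF n Y 1 F))) :
    Epi ((Scheme.Modules.pullbackPushforwardAdjunction (KRR.pr n Y)).counit.app F) := by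
  obtain ⟨A, B, φ, ⟨eB⟩, ι, π, hid, hk⟩ := exists_lastStep (n := n) (Y := Y)
  obtain ⟨hφ, hvan, -⟩ := hk F hreg
  let p := Scheme.Modules.pushforward (KRR.pr n Y)
  let q := Scheme.Modules.pullback (KRR.pr n Y)
  let P := p ⋙ q
  let ε := (Scheme.Modules.pullbackPushforwardAdjunction (KRR.pr n Y)).counit
  haveI : Epi (p.map ((tensR F).map φ)) := @epi_push_of_van n Y _ _ _ hφ hvan
  haveI : Epi (P.map ((tensR F).map φ)) := q.map_epi _
  let TB := (DCoh.tensorBi (X := KRR.PY n Y)).obj B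
  let TA := (DCoh.tensorBi (X := KRR.PY n Y)).obj A
  let c := cokernel.π (ε.app F)
  haveI : Epi (ε.app (TB.obj F)) := @epi_counit_of_iso n Y _ _ (((DCoh.tensorBi (X := KRR.PY n Y)).mapIso eB).app F).symm hup
  haveI : PreservesLimitsOfSize.{0, 0} p :=
    (Scheme.Modules.pullbackPushforwardAdjunction (KRR.pr n Y)).rightAdjoint_preservesLimits
  haveI : p.Additive := Functor.additive_of_preserves_binary_products p
  haveI : q.Additive := (Scheme.Modules.pullbackPushforwardAdjunction (KRR.pr n Y)).left_adjoint_additive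
  haveI : P.Additive := inferInstanceAs (p ⋙ q).Additive
  let O := Coh.structureModule (KRR.PY n Y)
  let TO := (DCoh.tensorBi (X := KRR.PY n Y)).obj O
  have h0 : ε.app (TO.obj F) ≫ TO.map c = 0 := by
    rw [← cancel_mono (AmpleLib.unitTensorIso (cokernel (ε.app F))).hom, zero_comp, Category.assoc,
      show TO.map c ≫ _ = _ from unitTensorIso_natural c, ← Category.assoc]
    have h := ε.naturality (AmpleLib.unitTensorIso F).hom
    exact (congrArg (· ≫ c) h.symm).trans ((Category.assoc _ _ _).trans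
      ((congrArg (P.map (AmpleLib.unitTensorIso F).hom ≫ ·) (cokernel.condition _)).trans comp_zero))
  have hA : ε.app (TA.obj F) ≫ TA.map c = 0 := by
    have hdec : 𝟙 (TA.obj F) = ∑ b, (tensR F).map (π b) ≫ (tensR F).map (ι b) := by
      rw [show (∑ b, (tensR F).map (π b) ≫ (tensR F).map (ι b)) = (tensR F).map (∑ b, π b ≫ ι b) by
        rw [Functor.map_sum]; exact Finset.sum_congr rfl fun b _ => ((tensR F).map_comp _ _).symm]
      rw [hid, CategoryTheory.Functor.map_id]
      rfl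
    calc ε.app (TA.obj F) ≫ TA.map c
        = P.map (∑ b, (tensR F).map (π b) ≫ (tensR F).map (ι b)) ≫ ε.app (TA.obj F) ≫ TA.map c := by
          rw [← hdec]; exact ((congrArg (· ≫ _) (P.map_id _)).trans (Category.id_comp _)).symm
      _ = 0 := by
          rw [Functor.map_sum, Preadditive.sum_comp]
          refine Finset.sum_eq_zero fun b _ => ?_
          have h := ε.naturality ((tensR F).map (ι b))
          have h' : (tensR F).map (ι b) ≫ TA.map c = TO.map c ≫ (tensR (cokernel (ε.app F))).map (ι b) :=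
            (((DCoh.tensorBi (X := KRR.PY n Y)).map (ι b)).naturality c).symm
          rw [P.map_comp, Category.assoc, ← Category.assoc (P.map ((tensR F).map (ι b))),
            show P.map ((tensR F).map (ι b)) ≫ ε.app (TA.obj F) = ε.app (TO.obj F) ≫ (tensR F).map (ι b) from h,
            Category.assoc, h', ← Category.assoc (ε.app (TO.obj F)), h0, zero_comp, comp_zero]
  have hB : TB.map c = 0 := by
    rw [← cancel_epi (ε.app (TB.obj F)), comp_zero, ← cancel_epi (P.map ((tensR F).map φ)), comp_zero,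
      ← Category.assoc, show P.map ((tensR F).map φ) ≫ ε.app (TB.obj F) = ε.app (TA.obj F) ≫ (tensR F).map φ from
        ε.naturality ((tensR F).map φ), Category.assoc,
      show (tensR F).map φ ≫ TB.map c = TA.map c ≫ (tensR (cokernel (ε.app F))).map φ from
        (((DCoh.tensorBi (X := KRR.PY n Y)).map φ).naturality c).symm, ← Category.assoc, hA, zero_comp]
  refine Preadditive.epi_of_isZero_cokernel _ ?_
  let T1 := Coherent.tensE (Twist.twistOver n Y 1)
  haveI : PreservesFiniteColimits T1 := Coherent.preservesFiniteColimits_tensE (isFinLocFree_twistOver _)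
  haveI : Epi (T1.map c) := T1.map_epi c
  have h1 : T1.map c = 0 := by
    have h := ((DCoh.tensorBi (X := KRR.PY n Y)).map eB.hom).naturality c
    haveI : IsIso (((DCoh.tensorBi (X := KRR.PY n Y)).map eB.hom).app F) := inferInstance
    rw [← cancel_epi (((DCoh.tensorBi (X := KRR.PY n Y)).map eB.hom).app F), comp_zero]
    exact h.symm.trans (by rw [show TB.map c = 0 from hB, zero_comp])
  have hz1 : IsZero (KRR.twF n Y 1 (cokernel (ε.app F))) := by
    refine IsZero.of_epi_eq_zero (T1.map c) h1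
  obtain ⟨e2⟩ := CM28.nonempty_twF_twF (cokernel (ε.app F)) (show (-1 : ℤ) + 1 = 0 by norm_num)
  obtain ⟨e3⟩ := CM28.nonempty_twF_zero (cokernel (ε.app F))
  exact (((DCoh.tensorBi (X := KRR.PY n Y)).obj _).map_isZero hz1).of_iso (e2 ≪≫ e3).symm

/-- A regular bundle over an affine base is generated by its direct image. -/
theorem epi_counit_affine [IsAffine Y] {F : (KRR.PY n Y).Modules} (hF : FlatMod.IsFinLocFree F)
    (hreg : KRR.IsRegSheaf n Y F) :
    Epi ((Scheme.Modules.pullbackPushforwardAdjunction (KRR.pr n Y)).counit.app F) := by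
  obtain ⟨N, hN⟩ := AmpleLib.eventually_globallyGenerated (Gen.isAmple_twist (n := n) (Y := Y)) F
    (Coherent.CohBC.isCoh_of_isFinLocFree hF)
  suffices H : ∀ j : ℕ, ∀ t : ℕ, N ≤ t + j →
      Epi ((Scheme.Modules.pullbackPushforwardAdjunction (KRR.pr n Y)).counit.app (KRR.twF n Y (t : ℤ) F)) by
    obtain ⟨e⟩ := CM28.nonempty_twF_zero F
    exact @epi_counit_of_iso n Y _ _ e (H N 0 (by omega))
  intro j
  induction j with
  | zero =>
    intro t ht
    obtain ⟨e⟩ := nonempty_tensorPow_twist n Y t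
    refine AmpleLib.epi_counit_of_globallyGenerated _ _ fun x => ⟨⊤, trivial, ?_⟩
    have hgg : Curv2.IsGloballyGenerated (KRR.twF n Y (t : ℤ) F) :=
      AmpleLib.globallyGenerated_of_iso (AmpleLib.tensorComm _ _ ≪≫ AmpleLib.tensorIso e (Iso.refl _))
        (hN t (by omega))
    exact AmpleLib.globallyGenerated_of_iso ((Scheme.Modules.restrictFunctorIsoPullback _).app _).symm
      (Desc19b.isGloballyGenerated_pullback (π := (KRR.pr n Y ⁻¹ᵁ ⊤).ι) hgg)
  | succ j ih =>
    intro t ht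
    obtain ⟨e⟩ := CM28.nonempty_twF_twF F (show (1 : ℤ) + t = ((t + 1 : ℕ) : ℤ) by push_cast; ring)
    exact epi_counit_step (isRegSheaf_twF hreg (Int.natCast_nonneg t))
      (@epi_counit_of_iso n Y _ _ e.symm (ih (t + 1) (by omega)))

/-- A regular bundle is generated by its direct image. -/
theorem epi_counit' {F : (KRR.PY n Y).Modules} (hF : FlatMod.IsFinLocFree F)
    (hreg : KRR.IsRegSheaf n Y F) :
    Epi ((Scheme.Modules.pullbackPushforwardAdjunction (KRR.pr n Y)).counit.app F) := by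
  haveI : IsProper (KRR.pr n Y) := RelVALib.isProper_toBase n Y
  haveI : Coh.IsQCoh F := (Coherent.CohBC.isCoh_of_isFinLocFree hF).1
  refine epi_counit_of_cover F fun y => ?_
  obtain ⟨V, hV, hy, -⟩ :=
    Opens.isBasis_iff_nbhd.mp Y.isBasis_affineOpens (show y ∈ (⊤ : Y.Opens) from trivial)
  let j : Scheme.Opens.toScheme V ⟶ Y := Scheme.Opens.ι V
  have hsq := isPullback_projSpaceMap n j (Gen.projSpaceMap_pr _)
  refine ⟨_, _, KRR.projSpaceMap n j, KRR.pr n (Scheme.Opens.toScheme V), j, inferInstance, hsq, ⟨⟨y, hy⟩, rfl⟩, ?_⟩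
  haveI : IsAffine (Scheme.Opens.toScheme V) := hV
  refine epi_counit_affine (DCat.PullPerf.isFinLocFree_pullback _ hF) fun i hi => ?_
  haveI := Gen.isQCoh_twF (F := F) (-(i : ℤ))
  obtain ⟨e⟩ := nonempty_pullback_twF n j (-(i : ℤ)) F
  exact van_of_iso e (isZero_rpushAb_of_sq hsq _ i (hreg i hi))

/-- A regular coherent module is generated by its direct image. -/
theorem epi_counit [IsNoetherian Y] {F : (KRR.PY n Y).Modules} (hF : Coh.IsCoh F) (hreg : KRR.IsRegSheaf n Y F) :
    Epi ((Scheme.Modules.pullbackPushforwardAdjunction (KRR.pr n Y)).counit.app F) := by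
  haveI : IsProper (KRR.pr n Y) := RelVALib.isProper_toBase n Y
  obtain ⟨N, hN⟩ := RelExact14.eventually (f := KRR.pr n Y) (g := 𝟙 Y) (g' := 𝟙 (KRR.PY n Y))
    (f' := KRR.pr n Y) (IsPullback.of_horiz_isIso ⟨by simp⟩)
    (CM28.isInvertible_twistOver n Y 1) isRelAmple_twist hF
  suffices H : ∀ j : ℕ, ∀ t : ℕ, N ≤ t + j →
      Epi ((Scheme.Modules.pullbackPushforwardAdjunction (KRR.pr n Y)).counit.app (KRR.twF n Y (t : ℤ) F)) by
    obtain ⟨e⟩ := CM28.nonempty_twF_zero F
    exact @epi_counit_of_iso n Y _ _ e (H N 0 (by omega))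
  intro j
  induction j with
  | zero =>
    intro t ht
    obtain ⟨e⟩ := nonempty_tensorPow_twist n Y t
    exact @epi_counit_of_iso n Y _ _
      (AmpleLib.tensorIso ((Scheme.Modules.pushforwardId _).app F) e ≪≫ AmpleLib.tensorComm _ _) (hN t (by omega)).2
  | succ j ih =>
    intro t ht
    obtain ⟨e⟩ := CM28.nonempty_twF_twF F (show (1 : ℤ) + t = ((t + 1 : ℕ) : ℤ) by push_cast; ring)
    exact epi_counit_step (isRegSheaf_twF hreg (Int.natCast_nonneg t))
      (@epi_counit_of_iso n Y _ _ e.symm (ih (t + 1) (by omega)))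

end Groth.Agent.KPr28
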