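import Groth.Agent.KPr28.Counit
import Groth.Agent.EulerLib.Degree
import Groth.Agent.AmpleLib.Twist2
import Groth.Agent.Coherent.Serre.RightMul
import Groth.Agent.Coherent.Serre.NearSupport

/-!
# Regular quasi-coherent sheaves are generated by their direct image
-/

set_option autoImplicit false
set_option backward.isDefEq.respectTransparency false
set_option linter.style.haveILetI false
set_option maxHeartbeats 1000000

universe u v w

open CategoryTheory CategoryTheory.Limits AlgebraicGeometry TopologicalSpace Opposite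
open Groth.Agent.Coherent Groth.Agent.PicLib Groth.Agent.AmpleLib

noncomputable section

namespace Groth.Agent.KPr28

variable {X : Scheme.{u}}

/-- Reassociation with two invertible factors, with its formula on elementary tensors. -/
theorem exists_assocIso_tmul (F : X.Modules) {L M : X.Modules} (hL : PicF.IsInvertible L)
    (hM : PicF.IsInvertible M) :
    ∃ e : CohB1.tensorMod (CohB1.tensorMod F L) M ≅ CohB1.tensorMod F (CohB1.tensorMod L M),
      ∀ (U : X.Opens) (a : Γ(F, U)) (b : Γ(L, U)) (w : Γ(M, U)),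
        e.hom.app U (tmul (tmul a b) w) = tmul a (tmul b w) := by
  obtain ⟨α, hα⟩ := exists_assocHom F M hL
  have key : ∀ (y : X), ∃ (W : X.Opens) (g : Γ(L, W)) (h : Γ(M, W)), y ∈ W ∧ IsGen L W g ∧ IsGen M W h := by
    intro y
    obtain ⟨U, hyU, g, hg⟩ := exists_isGen hL y
    obtain ⟨V, hyV, h, hh⟩ := exists_isGen hM y
    exact ⟨U ⊓ V, _, _, ⟨hyU, hyV⟩, hg.restrict inf_le_left, hh.restrict inf_le_right⟩
  have hrep : ∀ (W : X.Opens) (g : Γ(L, W)) (h : Γ(M, W)), IsGen L W g → IsGen M W h →
      ∀ (V : X.Opens) (hV : V ≤ W), Function.Bijective (fun a : Γ(F, V) =>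
        (tmul (tmul a (resM L hV g)) (resM M hV h) :
          Γ(CohB1.tensorMod (CohB1.tensorMod F L) M, V))) ∧
      Function.Bijective (fun a : Γ(F, V) => (tmul a (tmul (resM L hV g) (resM M hV h)) :
          Γ(CohB1.tensorMod F (CohB1.tensorMod L M), V))) := by
    intro W g h hg hh V hV
    refine ⟨(bijective_tmul_gen (M := CohB1.tensorMod F L) hh V hV).comp (bijective_tmul_gen (M := F) hg V hV), ?_⟩
    have hb := bijective_tmul_gen (M := F) (isGen_tmul hg hh) V hV
    simp only [resM_tmul] at hb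
    exact hb
  have hmono : Mono α := by
    have hinj : ∀ (U : X.Opens) (a : Γ(CohB1.tensorMod (CohB1.tensorMod F L) M, U)), α.app U a = 0 → a = 0 := by
      intro U a ha
      refine sec_ext _ _ _ fun y hy => ?_
      obtain ⟨W, g, h, hyW, hg, hh⟩ := key y
      refine ⟨U ⊓ W, inf_le_left, ⟨hy, hyW⟩, ?_⟩
      obtain ⟨hb₁, hb₂⟩ := hrep W g h hg hh (U ⊓ W) inf_le_right
      obtain ⟨x, hx⟩ := hb₁.2 (resM _ inf_le_left a)
      have h0 := congrArg (resM _ (inf_le_left : U ⊓ W ≤ U)) ha
      rw [← app_resM, ← hx, map_zero] at h0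
      erw [hα] at h0
      rw [map_zero, ← hx]
      show tmul (tmul x _) _ = 0
      rw [hb₂.1 (h0.trans (tmul_zero_left _).symm), tmul_zero_left, tmul_zero_left]
    refine ⟨fun a b hab => Scheme.Modules.hom_ext _ _ fun U => ?_⟩
    ext t
    rw [← sub_eq_zero]
    refine hinj U _ ?_
    rw [map_sub, sub_eq_zero]
    exact ConcreteCategory.congr_hom (congrArg (fun φ => Scheme.Modules.Hom.app φ U) hab) t
  have hepi : Epi α := by
    refine epi_of_locally_surjective _ fun U a y hy => ?_
    obtain ⟨W, g, h, hyW, hg, hh⟩ := key y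
    obtain ⟨x, hx⟩ := (hrep W g h hg hh (U ⊓ W) inf_le_right).2.2 (resM _ inf_le_left a)
    exact ⟨U ⊓ W, inf_le_left, ⟨hy, hyW⟩, _, (hα _ x _ _).trans hx⟩
  have := isIso_of_mono_of_epi α
  exact ⟨asIso α, hα⟩

/-- A map out of a quasi-coherent module which kills the global sections of all twists by the powers of an
ample module is zero. -/
theorem eq_zero_of_kills_twists {L : X.Modules} (hL : CohB1.IsAmple L) {F C : X.Modules} [Coh.IsQCoh F] (c : F ⟶ C)
    (h : ∀ (n : ℕ) (u : Γ(CohB1.tensorMod F (CohB1.tensorPow L n), ⊤)),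
      (tensorMap c (𝟙 (CohB1.tensorPow L n))).app ⊤ u = 0) : c = 0 := by
  obtain ⟨hLi, -, -⟩ := isAmple_iff_affGlocus.1 hL
  refine Scheme.Modules.hom_ext _ _ fun U => ConcreteCategory.hom_ext _ _ fun a => ?_
  show c.app U a = 0
  refine sec_ext _ _ _ fun x hx => ?_
  obtain ⟨V, hxV, g, hg⟩ := exists_isGen hLi x
  obtain ⟨m, hm, b, hxb, hbV, -⟩ := affGlocus_of_mem (x := x) (U := U ⊓ V) hL ⟨hx, hxV⟩
  refine ⟨glocus _ b, hbV.trans inf_le_left, hxb, ?_⟩
  obtain ⟨N, hN⟩ := exists_twist_section hL F hm b (hg.restrict (hbV.trans inf_le_right))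
    (resM F (hbV.trans inf_le_left) a)
  obtain ⟨u, s, hs, hu⟩ := hN N le_rfl
  have h1 : tmul (c.app _ (resM F (hbV.trans inf_le_left) a)) s = (0 : Γ(CohB1.tensorMod C (CohB1.tensorPow L N), glocus _ b)) := by
    have h2 := congrArg (resM _ (le_top : glocus _ b ≤ ⊤)) (h N u)
    rw [map_zero, ← app_resM, hu, tensorMap_tmul] at h2
    exact h2
  rw [← app_resM, map_zero]
  refine (bijective_tmul_gen (M := C) hs _ le_rfl).1 ?_
  simp only [resM_self]
  rw [h1, tmul_zero_left]

variable {n : ℕ} {Y : Scheme.{u}}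

/-- Going up one twist: if the counit of a regular module is killed by `c`, so is that of the twist. -/
theorem counit_comp_step {F C : (KRR.PY n Y).Modules} (hreg : KRR.IsRegSheaf n Y F) (c : F ⟶ C)
    (h : (Scheme.Modules.pullbackPushforwardAdjunction (KRR.pr n Y)).counit.app F ≫ c = 0) :
    (Scheme.Modules.pullbackPushforwardAdjunction (KRR.pr n Y)).counit.app
        (((DCoh.tensorBi (X := KRR.PY n Y)).obj (Twist.twistOver n Y 1)).obj F) ≫
      ((DCoh.tensorBi (X := KRR.PY n Y)).obj (Twist.twistOver n Y 1)).map c = 0 := by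
  obtain ⟨A, B, φ, ⟨eB⟩, ι, π, hid, hk⟩ := exists_lastStep (n := n) (Y := Y)
  obtain ⟨hφ, hvan, -⟩ := hk F hreg
  let p := Scheme.Modules.pushforward (KRR.pr n Y)
  let q := Scheme.Modules.pullback (KRR.pr n Y)
  let P := p ⋙ q
  let ε := (Scheme.Modules.pullbackPushforwardAdjunction (KRR.pr n Y)).counit
  haveI : Epi (p.map ((tensR F).map φ)) := @epi_push_of_van n Y _ _ _ hφ hvan
  haveI : Epi (P.map ((tensR F).map φ)) := q.map_epi _
  let TB := (DCoh.tensorBi (X := KRR.PY n Y)).obj B
  let TA := (DCoh.tensorBi (X := KRR.PY n Y)).obj A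
  let T1 := (DCoh.tensorBi (X := KRR.PY n Y)).obj (Twist.twistOver n Y 1)
  haveI : PreservesLimitsOfSize.{0, 0} p :=
    (Scheme.Modules.pullbackPushforwardAdjunction (KRR.pr n Y)).rightAdjoint_preservesLimits
  haveI : p.Additive := Functor.additive_of_preserves_binary_products p
  haveI : q.Additive := (Scheme.Modules.pullbackPushforwardAdjunction (KRR.pr n Y)).left_adjoint_additive
  haveI : P.Additive := inferInstanceAs (p ⋙ q).Additive
  let O := Coh.structureModule (KRR.PY n Y)
  let TO := (DCoh.tensorBi (X := KRR.PY n Y)).obj O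
  have h0 : ε.app (TO.obj F) ≫ TO.map c = 0 := by
    rw [← cancel_mono (AmpleLib.unitTensorIso C).hom, zero_comp, Category.assoc,
      show TO.map c ≫ _ = _ from unitTensorIso_natural c, ← Category.assoc]
    have h' := ε.naturality (AmpleLib.unitTensorIso F).hom
    exact (congrArg (· ≫ c) h'.symm).trans ((Category.assoc _ _ _).trans
      ((congrArg (P.map (AmpleLib.unitTensorIso F).hom ≫ ·) h).trans comp_zero))
  have hA : ε.app (TA.obj F) ≫ TA.map c = 0 := by
    have hdec : 𝟙 (TA.obj F) = ∑ b, (tensR F).map (π b) ≫ (tensR F).map (ι b) := by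
      rw [show (∑ b, (tensR F).map (π b) ≫ (tensR F).map (ι b)) = (tensR F).map (∑ b, π b ≫ ι b) by
        rw [Functor.map_sum]; exact Finset.sum_congr rfl fun b _ => ((tensR F).map_comp _ _).symm]
      rw [hid, CategoryTheory.Functor.map_id]
      rfl
    calc ε.app (TA.obj F) ≫ TA.map c
        = P.map (∑ b, (tensR F).map (π b) ≫ (tensR F).map (ι b)) ≫ ε.app (TA.obj F) ≫ TA.map c := by
          rw [← hdec]; exact ((congrArg (· ≫ _) (P.map_id _)).trans (Category.id_comp _)).symm
      _ = 0 := by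
          rw [Functor.map_sum, Preadditive.sum_comp]
          refine Finset.sum_eq_zero fun b _ => ?_
          have h := ε.naturality ((tensR F).map (ι b))
          have h' : (tensR F).map (ι b) ≫ TA.map c = TO.map c ≫ (tensR C).map (ι b) :=
            (((DCoh.tensorBi (X := KRR.PY n Y)).map (ι b)).naturality c).symm
          rw [P.map_comp, Category.assoc, ← Category.assoc (P.map ((tensR F).map (ι b))),
            show P.map ((tensR F).map (ι b)) ≫ ε.app (TA.obj F) = ε.app (TO.obj F) ≫ (tensR F).map (ι b) from h,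
            Category.assoc, h', ← Category.assoc (ε.app (TO.obj F)), h0, zero_comp, comp_zero]
  have hB : ε.app (TB.obj F) ≫ TB.map c = 0 := by
    rw [← cancel_epi (P.map ((tensR F).map φ)), comp_zero,
      ← Category.assoc, show P.map ((tensR F).map φ) ≫ ε.app (TB.obj F) = ε.app (TA.obj F) ≫ (tensR F).map φ from
        ε.naturality ((tensR F).map φ), Category.assoc,
      show (tensR F).map φ ≫ TB.map c = TA.map c ≫ (tensR C).map φ from
        (((DCoh.tensorBi (X := KRR.PY n Y)).map φ).naturality c).symm, ← Category.assoc, hA, zero_comp]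
  let η := (DCoh.tensorBi (X := KRR.PY n Y)).map eB.hom
  haveI : IsIso (η.app F) := inferInstance
  show ε.app (T1.obj F) ≫ T1.map c = 0
  rw [← cancel_epi (P.map (η.app F)), comp_zero, ← Category.assoc,
    show P.map (η.app F) ≫ ε.app (T1.obj F) = ε.app (TB.obj F) ≫ η.app F from ε.naturality (η.app F),
    Category.assoc, show η.app F ≫ T1.map c = TB.map c ≫ η.app C from (η.naturality c).symm,
    ← Category.assoc, hB, zero_comp]

theorem app_top_eq_zero {Z : Scheme.{u}} (f : Z ⟶ Y) {F C : Z.Modules} (c : F ⟶ C)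
    (h : (Scheme.Modules.pullbackPushforwardAdjunction f).counit.app F ≫ c = 0) (u : Γ(F, ⊤)) : c.app ⊤ u = 0 := by
  have h1 := counit_app_pullSec f F ⊤ u
  have h2 := ConcreteCategory.congr_hom (congrArg (fun φ => Scheme.Modules.Hom.app φ (f ⁻¹ᵁ ⊤)) h)
    (pullSec f (show Γ((Scheme.Modules.pushforward f).obj F, ⊤) from u))
  exact (congrArg (fun v => c.app (f ⁻¹ᵁ ⊤) v) h1).symm.trans h2

/-- Over an affine base a regular quasi-coherent module is generated by its direct image. -/
theorem epi_counit_affine_qcoh [IsAffine Y] {F : (KRR.PY n Y).Modules} [Coh.IsQCoh F]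
    (hreg : KRR.IsRegSheaf n Y F) :
    Epi ((Scheme.Modules.pullbackPushforwardAdjunction (KRR.pr n Y)).counit.app F) := by
  let L := Twist.twistOver n Y 1
  let ε := (Scheme.Modules.pullbackPushforwardAdjunction (KRR.pr n Y)).counit
  have hLi : PicF.IsInvertible L := CM28.isInvertible_twistOver n Y 1
  let c := cokernel.π (ε.app F)
  have key : ∀ t : ℕ, ε.app (CohB1.tensorMod F (CohB1.tensorPow L t)) ≫
      tensorMap c (𝟙 (CohB1.tensorPow L t)) = 0 := by
    intro t
    induction t with
    | zero =>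
      let r : ∀ G : (KRR.PY n Y).Modules, CohB1.tensorMod G (Coh.structureModule _) ≅ G := fun G =>
        tensorComm _ _ ≪≫ unitTensorIso G
      have hnat : tensorMap c (𝟙 (Coh.structureModule _)) ≫ (r _).hom = (r F).hom ≫ c :=
        AmpleLib.hom_ext fun U a b => by
          have e : ∀ (G : (KRR.PY n Y).Modules) (x : Γ(G, U)),
              (r G).hom.app U (tmul x b) = (show Γ(KRR.PY n Y, U) from b) • x := fun G x => by
            show (unitTensorIso G).hom.app U ((tensorComm G (Coh.structureModule _)).hom.app U (tmul x b)) = _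
            rw [Coherent.Serre.tensorComm_tmul', CurveRR24.unitTensorIso_tmul']
          show (r _).hom.app U ((tensorMap c (𝟙 _)).app U (tmul a b)) = c.app U ((r F).hom.app U (tmul a b))
          rw [tensorMap_tmul, e F a]
          exact (e _ (c.app U a)).trans (Scheme.Modules.Hom.app_smul c (show Γ(KRR.PY n Y, U) from b) a).symm
      show ε.app (CohB1.tensorMod F (Coh.structureModule _)) ≫ tensorMap c (𝟙 (Coh.structureModule _)) = 0
      rw [← cancel_mono (r _).hom, zero_comp, Category.assoc, hnat, ← Category.assoc]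
      exact (congrArg (· ≫ c) (ε.naturality (r F).hom).symm).trans ((Category.assoc _ _ _).trans
        ((congrArg ((Scheme.Modules.pushforward (KRR.pr n Y) ⋙ Scheme.Modules.pullback (KRR.pr n Y)).map (r F).hom ≫ ·)
          (cokernel.condition (ε.app F))).trans comp_zero))
    | succ t ih =>
      obtain ⟨e⟩ := nonempty_tensorPow_twist n Y t
      have hregT : KRR.IsRegSheaf n Y (CohB1.tensorMod F (CohB1.tensorPow L t)) :=
        isRegSheaf_of_iso (AmpleLib.tensorComm _ _ ≪≫ AmpleLib.tensorIso (Iso.refl F) e.symm)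
          (isRegSheaf_twF hreg (Int.natCast_nonneg t))
      have h := counit_comp_step hregT (tensorMap c (𝟙 (CohB1.tensorPow L t))) ih
      have hPi := isInvertible_tensorPow hLi t
      obtain ⟨a, ha⟩ := exists_assocIso_tmul F hPi hLi
      obtain ⟨a', ha'⟩ := exists_assocIso_tmul (cokernel (ε.app F)) hPi hLi
      let ψ := tensorComm L (CohB1.tensorMod F (CohB1.tensorPow L t)) ≪≫ a
      let ψ' := tensorComm L (CohB1.tensorMod (cokernel (ε.app F)) (CohB1.tensorPow L t)) ≪≫ a'
      have ha1 : tensorMap (tensorMap c (𝟙 (CohB1.tensorPow L t))) (𝟙 L) ≫ a'.hom =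
          a.hom ≫ tensorMap c (𝟙 (CohB1.tensorPow L (t + 1))) :=
        Coherent.Serre.hom_ext₂ hPi fun U x y z => by
          show a'.hom.app U ((tensorMap (tensorMap c (𝟙 _)) (𝟙 L)).app U (tmul (tmul x y) z)) =
            (tensorMap c (𝟙 _)).app U (a.hom.app U (tmul (tmul x y) z))
          rw [tensorMap_tmul, tensorMap_tmul, ha, tensorMap_tmul]
          exact ha' U (c.app U x) y z
      have hc1 : ((DCoh.tensorBi (X := KRR.PY n Y)).obj L).map (tensorMap c (𝟙 (CohB1.tensorPow L t))) ≫
            (tensorComm L (CohB1.tensorMod (cokernel (ε.app F)) (CohB1.tensorPow L t))).hom =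
          (tensorComm L (CohB1.tensorMod F (CohB1.tensorPow L t))).hom ≫
            tensorMap (tensorMap c (𝟙 (CohB1.tensorPow L t))) (𝟙 L) :=
        AmpleLib.hom_ext fun U x y => by
          show (tensorComm L _).hom.app U ((((DCoh.tensorBi (X := KRR.PY n Y)).obj L).map _).app U (tmul x y)) =
            (tensorMap _ _).app U ((tensorComm L _).hom.app U (tmul x y))
          rw [DCat.PullTensor.tensorBi_obj_map_tmul, Coherent.Serre.tensorComm_tmul', Coherent.Serre.tensorComm_tmul', tensorMap_tmul]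
          rfl
      have hnat : ((DCoh.tensorBi (X := KRR.PY n Y)).obj L).map (tensorMap c (𝟙 (CohB1.tensorPow L t))) ≫ ψ'.hom =
          ψ.hom ≫ tensorMap c (𝟙 (CohB1.tensorPow L (t + 1))) := by
        simp only [ψ, ψ', Iso.trans_hom]
        rw [← Category.assoc, hc1, Category.assoc, ha1, Category.assoc]
      let P := Scheme.Modules.pushforward (KRR.pr n Y) ⋙ Scheme.Modules.pullback (KRR.pr n Y)
      show ε.app (CohB1.tensorMod F (CohB1.tensorMod (CohB1.tensorPow L t) L)) ≫
        tensorMap c (𝟙 (CohB1.tensorPow L (t + 1))) = 0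
      refine (cancel_epi (P.map ψ.hom)).1 ?_
      rw [comp_zero]
      refine (Category.assoc _ _ _).symm.trans ((congrArg (· ≫ _) (ε.naturality ψ.hom)).trans
        ((Category.assoc _ _ _).trans ?_))
      refine (congrArg (ε.app _ ≫ ·) hnat.symm).trans ?_
      exact (Category.assoc _ _ _).symm.trans ((congrArg (· ≫ ψ'.hom) h).trans zero_comp)
  have hc : c = 0 := @eq_zero_of_kills_twists _ L Gen.isAmple_twist F _ ‹Coh.IsQCoh F› c fun t u => app_top_eq_zero _ _ (key t) u
  exact Preadditive.epi_of_cancel_zero _ fun g hg => by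
    rw [← cokernel.π_desc (ε.app F) g hg, show cokernel.π (ε.app F) = 0 from hc, zero_comp]

/-- A regular quasi-coherent module is generated by its direct image. -/
theorem epi_counit_qcoh {F : (KRR.PY n Y).Modules} (hF : Coh.IsQCoh F)
    (hreg : KRR.IsRegSheaf n Y F) :
    Epi ((Scheme.Modules.pullbackPushforwardAdjunction (KRR.pr n Y)).counit.app F) := by
  haveI : IsProper (KRR.pr n Y) := RelVALib.isProper_toBase n Y
  haveI := hF
  refine epi_counit_of_cover F fun y => ?_
  obtain ⟨V, hV, hy, -⟩ :=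
    Opens.isBasis_iff_nbhd.mp Y.isBasis_affineOpens (show y ∈ (⊤ : Y.Opens) from trivial)
  let j : Scheme.Opens.toScheme V ⟶ Y := Scheme.Opens.ι V
  have hsq := isPullback_projSpaceMap n j (Gen.projSpaceMap_pr _)
  refine ⟨_, _, KRR.projSpaceMap n j, KRR.pr n (Scheme.Opens.toScheme V), j, inferInstance, hsq, ⟨⟨y, hy⟩, rfl⟩, ?_⟩
  haveI : IsAffine (Scheme.Opens.toScheme V) := hV
  haveI : Coh.IsQCoh ((Scheme.Modules.pullback (KRR.projSpaceMap n j)).obj F) := EGA43.InjFibre.isQCoh_pullback _ F
  refine epi_counit_affine_qcoh fun i hi => ?_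
  haveI := Gen.isQCoh_twF (F := F) (-(i : ℤ))
  obtain ⟨e⟩ := nonempty_pullback_twF n j (-(i : ℤ)) F
  exact van_of_iso e (isZero_rpushAb_of_sq hsq _ i (hreg i hi))

end Groth.Agent.KPr28
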