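import Groth.Agent.KPr28.FreeBasis
import Groth.Agent.CohExch.ChartMain
import Groth.Agent.CohExch.Chart
import Groth.Agent.KPr28.BaseChange
import Groth.Agent.VarietyLib.HilbFamily
import Groth.Agent.Desc19b.ModStFibGrpd
import Groth.Agent.CAlgSmall.FPExtend
import Groth.Agent.FlatMorAssOpen.GenericFP

/-!
# Uniform regularity of flat families on projective space over a quasi-compact base
-/

set_option autoImplicit false
set_option linter.style.haveILetI false
set_option backward.isDefEq.respectTransparency false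

universe u

open CategoryTheory CategoryTheory.Limits AlgebraicGeometry TopologicalSpace Opposite
open Groth.Agent.Coherent

noncomputable section

namespace Groth.Agent.KPr28

variable {n : ℕ} {Y : Scheme.{u}}

/-- Cohomology of a fibre of `P^n_Y`. -/
theorem subsingleton_fiberH_iff_van (G : (KRR.PY n Y).Modules) [Coh.IsQCoh G] (s : Y) (p : ℕ) :
    Subsingleton (CohIII.fiberH (KRR.pr n Y) G s p) ↔
      Van p ((Scheme.Modules.pullback (KRR.projSpaceMap n (Y.fromSpecResidueField s))).obj G) := by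
  let φ := Y.fromSpecResidueField s
  have hP := isPullback_projSpaceMap n φ (Gen.projSpaceMap_pr φ)
  haveI : IsProper (KRR.pr n (Spec (Y.residueField s))) := RelVALib.isProper_toBase n _
  let e : KRR.PY n (Spec (Y.residueField s)) ≅ (KRR.pr n Y).fiber s := hP.isoPullback
  have he : e.hom ≫ (KRR.pr n Y).fiberι s = KRR.projSpaceMap n φ := hP.isoPullback_hom_fst
  let M := (Scheme.Modules.pullback (KRR.projSpaceMap n φ)).obj G
  haveI : Coh.IsQCoh M := EGA43.InjFibre.isQCoh_pullback _ _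
  haveI : Coh.IsQCoh (CohIII.fiberMod (KRR.pr n Y) G s) := EGA43.InjFibre.isQCoh_pullback _ _
  let em : (CohIII.fiberMod (KRR.pr n Y) G s).restrict e.hom ≅ M :=
    (Scheme.Modules.restrictFunctorIsoPullback e.hom).app _ ≪≫
      (Scheme.Modules.pullbackComp e.hom ((KRR.pr n Y).fiberι s)).app G ≪≫
      (Scheme.Modules.pullbackCongr he).app G
  have htop : e.hom ''ᵁ ⊤ = ⊤ := Opens.ext (by simpa using e.hom.homeomorph.surjective.range_eq)
  haveI : Subsingleton ↥(Spec (Y.residueField s)) :=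
    inferInstanceAs (Subsingleton (PrimeSpectrum (Y.residueField s)))
  let c : Coh.HH ((KRR.pr n Y).fiber s) (CohIII.fiberMod (KRR.pr n Y) G s) p ≃+
      Sheaf.H' (Coh.toAb ((CohIII.fiberMod (KRR.pr n Y) G s).restrict e.hom)) p ⊤ :=
    (HHTopEquiv (CohIII.fiberMod (KRR.pr n Y) G s) p).trans
      ((H'ModRestrictEquiv e.hom _ ⊤ p).trans (H'Congr _ p htop)).symm
  have hpre : KRR.pr n (Spec (Y.residueField s)) ⁻¹ᵁ ⊤ = ⊤ := rfl
  constructor
  · intro h
    refine (isZero_rpushAb_iff M p).2 fun V hV => ?_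
    rcases Set.eq_empty_or_nonempty (V : Set ↥(Spec (Y.residueField s))) with hV0 | ⟨x, hx⟩
    · rw [show V = ⊥ from Opens.ext hV0,
        show KRR.pr n (Spec (Y.residueField s)) ⁻¹ᵁ (⊥ : (Spec (Y.residueField s)).Opens) = ⊥ from rfl]
      exact Coherent.subsingleton_H'_bot _ _
    · rw [show V = ⊤ from top_le_iff.1 fun y _ => Subsingleton.elim x y ▸ hx, hpre]
      refine Coherent.subsingleton_H'_of_iso em p _ ?_
      exact c.symm.toEquiv.subsingleton_congr.2 h
  · intro h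
    have h1 := (isZero_rpushAb_iff M p).1 h ⊤ (isAffineOpen_top _)
    rw [hpre] at h1
    exact c.toEquiv.subsingleton_congr.2 (Coherent.subsingleton_H'_of_iso em.symm p _ h1)

theorem isQCoh_of_isFP {X : Scheme.{u}} {F : X.Modules} (hF : CohB1.IsFP F) : Coh.IsQCoh F :=
  haveI : SheafOfModules.IsFinitePresentation.{u} (R := X.ringCatSheaf) F := hF
  inferInstanceAs (SheafOfModules.IsQuasicoherent.{u} (R := X.ringCatSheaf) F)

theorem isFP_twF {F : (KRR.PY n Y).Modules} (hF : CohB1.IsFP F) (d : ℤ) : CohB1.IsFP (KRR.twF n Y d F) := by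
  have h := VarietyLib.isFP_twist (CM28.isInvertible_twistOver n Y d) hF
  haveI : SheafOfModules.IsFinitePresentation.{u} (R := (KRR.PY n Y).ringCatSheaf)
      (CohB1.tensorMod F (Twist.twistOver n Y d)) := h
  exact FlatMorAssOpen.isFP_of_iso (AmpleLib.tensorComm _ _) h

theorem isFlatOver_twF {F : (KRR.PY n Y).Modules} [Coh.IsQCoh F] (hF : FlatMod.IsFlatOver (KRR.pr n Y) F)
    (d : ℤ) : FlatMod.IsFlatOver (KRR.pr n Y) (KRR.twF n Y d F) :=
  haveI : Coh.IsQCoh (Twist.twistOver n Y d) :=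
    AmpleLib.isQCoh_of_isInvertible (CM28.isInvertible_twistOver n Y d)
  Coherent.CohBC.isFlatOver_tensor (KRR.pr n Y) (isFinLocFree_twistOver d) hF

/-- Flat families have uniformly regular twists on all fibres. -/
theorem exists_bound_fibres [CompactSpace Y] {F : (KRR.PY n Y).Modules} (hF : CohB1.IsFP F)
    (hfl : FlatMod.IsFlatOver (KRR.pr n Y) F) :
    ∃ N : ℕ, ∀ m : ℤ, (N : ℤ) ≤ m → ∀ q : ℕ, 1 ≤ q → ∀ s : Y,
      Subsingleton (CohIII.fiberH (KRR.pr n Y) (KRR.twF n Y m F) s q) := by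
  haveI : IsProper (KRR.pr n Y) := RelVALib.isProper_toBase n Y
  haveI : LocallyOfFinitePresentation (KRR.pr n Y) := locallyOfFinitePresentation_pr n Y
  haveI : HasInjectiveResolutions (KRR.PY n Y).Modules := Coherent.hasInjectiveResolutions_modules _
  haveI := isQCoh_of_isFP hF
  obtain ⟨D, hD⟩ := Coherent.exists_bound_isZero_rpushAb (KRR.pr n Y)
  let ψ := fun s : Y => KRR.projSpaceMap n (Y.fromSpecResidueField s)
  let M := fun s : Y => (Scheme.Modules.pullback (ψ s)).obj F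
  have hM : ∀ (s : Y) (d : ℤ) (q : ℕ), Subsingleton (CohIII.fiberH (KRR.pr n Y) (KRR.twF n Y d F) s q) ↔
      Van q (KRR.twF n _ d (M s)) := fun s d q => by
    haveI := Gen.isQCoh_twF (F := F) d
    obtain ⟨e⟩ := nonempty_pullback_twF n (Y.fromSpecResidueField s) d F
    exact (subsingleton_fiberH_iff_van _ s q).trans ⟨van_of_iso e, van_of_iso e.symm⟩
  have hbig : ∀ (d : ℤ) (q : ℕ) (s : Y), D ≤ q →
      Subsingleton (CohIII.fiberH (KRR.pr n Y) (KRR.twF n Y d F) s q) := fun d q s hq => by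
    haveI := Gen.isQCoh_twF (F := F) d
    have hv : ∀ j, q ≤ j → IsZero ((Coh.Rpush (KRR.pr n Y) j).obj (KRR.twF n Y d F)) := fun j hj =>
      BlowUpCoh.isZero_rpush_of_rpushAb _ (hD _ inferInstance j (hq.trans hj))
    have hfp := isFP_twF hF d
    have hfl' := isFlatOver_twF hfl d
    obtain ⟨C, hs, hC⟩ := exists_flat_chart hfp hfl' q hv s
    refine C.subsingleton_fiberH hfp hfl' q (hC q (by omega)) ?_ hs
    obtain ⟨eq⟩ := C.nonempty_sectionsEquiv q
    have : Subsingleton Γ((Coh.Rpush (KRR.pr n Y) q).obj (KRR.twF n Y d F), C.U) :=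
      subsingleton_of_forall_eq 0 fun t => congr(($((IsZero.iff_id_eq_zero _).1 (hv q le_rfl))).app C.U t)
    exact eq.symm.toEquiv.subsingleton
  let U : ℕ → Set Y := fun m => ⋂ i : Fin D,
    {s | Subsingleton (CohIII.fiberH (KRR.pr n Y) (KRR.twF n Y ((m : ℤ) - ((i : ℕ) + 1 : ℕ)) F) s ((i : ℕ) + 1))}
  have hUo : ∀ m, IsOpen (U m) := fun m => isOpen_iInter_of_finite fun i => by
    haveI := Gen.isQCoh_twF (F := F) ((m : ℤ) - ((i : ℕ) + 1 : ℕ))
    exact CohExch.isOpen_fibre_vanishing (isFP_twF hF _) (isFlatOver_twF hfl _) _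
  have hUreg : ∀ m s, s ∈ U m → KRR.IsRegSheaf n _ (KRR.twF n _ (m : ℤ) (M s)) := fun m s hs i hi => by
    obtain ⟨e⟩ := CM28.nonempty_twF_twF (M s) (show -(i : ℤ) + m = (m : ℤ) - i by ring)
    refine van_of_iso e.symm ((hM s _ i).1 ?_)
    by_cases hD' : D ≤ i
    · exact hbig _ i s hD'
    · have := Set.mem_iInter.1 hs ⟨i - 1, by omega⟩
      simp only [Set.mem_setOf_eq] at this
      rwa [show i - 1 + 1 = i by omega] at this
  have hvan : ∀ m s, s ∈ U m → ∀ d : ℤ, (m : ℤ) ≤ d → ∀ q, 1 ≤ q → Van q (KRR.twF n _ d (M s)) := by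
    intro m s hs d hd q hq
    obtain ⟨k, hk⟩ := Int.eq_ofNat_of_zero_le (sub_nonneg.2 hd)
    obtain ⟨e⟩ := CM28.nonempty_twF_twF (M s) (show (k : ℤ) + m = d by omega)
    exact van_of_iso e (van_of_reg (isRegSheaf_twF (hUreg m s hs) (Int.natCast_nonneg k)) q hq)
  have hmono : ∀ {m m' : ℕ}, m ≤ m' → U m ⊆ U m' := fun {m m'} h s hs => Set.mem_iInter.2 fun i => by
    refine (hM s _ _).2 ?_
    obtain ⟨e⟩ := CM28.nonempty_twF_twF (M s) (show (((m' : ℤ) - m).toNat : ℤ) + m = m' by omega)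
    obtain ⟨e'⟩ := CM28.nonempty_twF_twF (KRR.twF n _ (m : ℤ) (M s))
      (show -(((i : ℕ) + 1 : ℕ) : ℤ) + (((m' : ℤ) - m).toNat : ℤ) = ((m' : ℤ) - m).toNat - ((i : ℕ) + 1 : ℕ) by ring)
    obtain ⟨e''⟩ := CM28.nonempty_twF_twF (M s)
      (show (((m' : ℤ) - m).toNat : ℤ) - ((i : ℕ) + 1 : ℕ) + m = (m' : ℤ) - ((i : ℕ) + 1 : ℕ) by omega)
    exact van_of_iso e'' (van_twF_of_reg (hUreg m s hs) _ _ (by omega))
  obtain ⟨t, ht⟩ := isCompact_univ.elim_finite_subcover U hUo fun s _ => by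
    haveI : IsNoetherianRing (Y.residueField s) := inferInstance
    haveI : IsNoetherian (Spec (Y.residueField s)) := inferInstance
    have hc : Coh.IsCoh (M s) := ⟨isQCoh_of_isFP (Desc19b.ModStFib.isFP_pullback _ F hF),
      CAlgSmall.FPExtend.isFT_of_isFP _ (Desc19b.ModStFib.isFP_pullback _ F hF)⟩
    obtain ⟨N, hN⟩ := exists_bound_reg hc
    refine Set.mem_iUnion.2 ⟨N, Set.mem_iInter.2 fun i => (hM s _ _).2 ?_⟩
    obtain ⟨e⟩ := CM28.nonempty_twF_twF (M s)
      (show -(((i : ℕ) + 1 : ℕ) : ℤ) + (N : ℤ) = (N : ℤ) - ((i : ℕ) + 1 : ℕ) by ring)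
    exact van_of_iso e (hN N le_rfl _ (by omega))
  refine ⟨t.sup id, fun m hm q hq s => ?_⟩
  obtain ⟨k, hk, hs⟩ := Set.mem_iUnion₂.1 (ht (Set.mem_univ s))
  have hk' : k ≤ t.sup id := Finset.le_sup (f := id) hk
  exact (hM s m q).2 (hvan k s hs m (by omega) q hq)

end Groth.Agent.KPr28
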