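import Groth.Agent.KPr28.Resolve
import Groth.Agent.KPr28.Twists

/-!
# `K` of bundles on projective space over a quasi-compact base
-/

set_option autoImplicit false
set_option linter.style.haveILetI false
set_option backward.isDefEq.respectTransparency false

universe u v w

open CategoryTheory CategoryTheory.Limits AlgebraicGeometry TopologicalSpace
open Groth.Agent.Coherent

noncomputable section

namespace Groth.Agent.KPr28

variable {n : ℕ} {Y : Scheme.{u}}

/-- The twisted pullback of a bundle. -/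
abbrev twPull (n : ℕ) {Y : Scheme.{u}} (t : ℤ) (V : Y.Modules) : (KRR.PY n Y).Modules :=
  KRR.twF n Y t ((Scheme.Modules.pullback (KRR.pr n Y)).obj V)

theorem isFinLocFree_twPull {V : Y.Modules} (hV : FlatMod.IsFinLocFree V) (t : ℤ) :
    FlatMod.IsFinLocFree (twPull n t V) :=
  isFinLocFree_twF (DCat.PullPerf.isFinLocFree_pullback _ hV) t

theorem regP_twPull {V : Y.Modules} (hV : FlatMod.IsFinLocFree V) {t : ℤ} (ht : 0 ≤ t) :
    regP n Y (twPull n t V) := by
  have h := regP_tensor_pull (n := n) (Y := Y) (F := KRR.twF n Y t (Coh.structureModule (KRR.PY n Y)))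
    ⟨isFinLocFree_twF (Coherent.CohBC.isFinLocFree_structureModule _) t, isRegSheaf_twF isRegSheaf_structure ht⟩ hV
  obtain ⟨e⟩ := nonempty_twF_structure (n := n) (Y := Y) t
  exact regP_of_iso (AmpleLib.tensorIso e (Iso.refl _)) h

theorem push_twPull {V : Y.Modules} (hV : FlatMod.IsFinLocFree V) (m : ℕ) :
    KRR.cl Y ((Scheme.Modules.pushforward (KRR.pr n Y)).obj (twPull n (m : ℤ) V)) =
      ((Nat.choose (n + m) m : ℕ) : ℤ) • KRR.cl Y V := by
  obtain ⟨e⟩ := nonempty_twF_structure (n := n) (Y := Y) (m : ℤ)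
  obtain ⟨e'⟩ := nonempty_push_tensor_pull (n := n) (Y := Y)
    (KRR.twF n Y (m : ℤ) (Coh.structureModule (KRR.PY n Y))) hV
  obtain ⟨e''⟩ := nonempty_push_twist n Y m
  let a : (Scheme.Modules.pushforward (KRR.pr n Y)).obj (twPull n (m : ℤ) V) ≅
      CohB1.tensorMod (FlatMod.freeMod Y (Nat.choose (n + m) m)) V :=
    (Scheme.Modules.pushforward (KRR.pr n Y)).mapIso (AmpleLib.tensorIso e.symm (Iso.refl _)) ≪≫ e' ≪≫
      AmpleLib.tensorIso e'' (Iso.refl _)
  refine (show KRR.cl Y _ = KRR.cl Y _ from ExtFilt28.clv_iso a).trans ?_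
  obtain ⟨mul, hmul⟩ := KvbLam28.exists_mul (X := Y)
  have hC := Coherent.CohBC.isFinLocFree_structureModule Y
  refine ((hmul _ V (FlatMor12.FlatFun.isFinLocFree_freeMod Y _) hV).symm).trans ?_
  show mul (KRR.cl Y _) (KRR.cl Y V) = _
  rw [cl_freeMod, map_zsmul, AddMonoidHom.zsmul_apply]
  congr 1
  exact (hmul _ V hC hV).trans (ExtFilt28.clv_iso (AmpleLib.unitTensorIso V))

variable [CompactSpace Y]

/-- `K` of bundles on `P^n_Y` is free on the twists `0, …, n`. -/
theorem bijective_basis (A : Fin (n + 1) → (SGA6.Kvb Y →+ SGA6.Kvb (KRR.PY n Y)))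
    (hA : ∀ (i : Fin (n + 1)) (V : Y.Modules), FlatMod.IsFinLocFree V →
      A i (KRR.cl Y V) = KRR.cl _ (twPull n ((i : ℕ) : ℤ) V)) :
    Function.Bijective (fun x : Fin (n + 1) → SGA6.Kvb Y => ∑ i, A i (x i)) := by
  classical
  let Φ : (Fin (n + 1) → SGA6.Kvb Y) →+ SGA6.Kvb (KRR.PY n Y) :=
    ∑ i, (A i).comp (Pi.evalAddMonoidHom _ i)
  have hΦ : ∀ x, Φ x = ∑ i, A i (x i) := fun x => by simp [Φ]
  suffices h : Function.Bijective Φ by simpa only [hΦ] using (show Function.Bijective fun x => Φ x from h)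
  obtain ⟨q, hq⟩ := exists_pushPr (n := n) (Y := Y)
  -- the pushforward of twisted pullbacks
  have hval : ∀ (V : Y.Modules), FlatMod.IsFinLocFree V → ∀ t : ℤ,
      q (KRR.cl _ (twPull n t V)) = (Ring.choose (t + n) n : ℤ) • KRR.cl Y V := by
    intro V hV t
    refine eq_of_rel (n := n) 0 (f := fun t => q (KRR.cl _ (twPull n t V)))
      (g := fun t => (Ring.choose (t + n) n : ℤ) • KRR.cl Y V) (fun s => ?_) (fun s => ?_) (fun s hs => ?_) t
    · have h := congrArg q (rel_vb (DCat.PullPerf.isFinLocFree_pullback (KRR.pr n Y) hV) s)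
      rw [map_zero, map_sum] at h
      simp only [map_zsmul] at h
      exact h
    · have h := congrArg (fun z : ℤ => z • KRR.cl Y V) (rel_choose n s)
      simp only [zero_smul, Finset.sum_smul, smul_smul, zsmul_eq_mul, Int.cast_id] at h
      unfold Rel
      simpa only [smul_smul] using h
    · obtain ⟨m, rfl⟩ := Int.eq_ofNat_of_zero_le hs
      show q _ = _
      rw [hq _ (regP_twPull hV (Int.natCast_nonneg m)), push_twPull hV m, ← Nat.cast_add, Ring.choose_natCast,
        add_comm m n, Nat.choose_symm_add]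
  constructor
  · rw [injective_iff_map_eq_zero]
    intro x hx
    rw [hΦ] at hx
    -- `q` after twisting by `-j`
    have hQ : ∀ d : ℤ, ∃ Q : SGA6.Kvb (KRR.PY n Y) →+ SGA6.Kvb Y, ∀ F, FlatMod.IsFinLocFree F →
        Q (KRR.cl _ F) = q (KRR.cl _ (KRR.twF n Y d F)) := fun d => by
      refine KvbLam28.exists_lift (X := KRR.PY n Y) (fun F => q (KRR.cl _ (KRR.twF n Y d F))) fun S hS h₁ h₂ h₃ => ?_
      obtain ⟨T, hT, e₁, e₂, e₃⟩ := twF_ses hS d
      rw [← e₁, ← e₂, ← e₃, ← map_add]
      exact congrArg q (ExtFilt28.clv_ses hT (e₁ ▸ isFinLocFree_twF h₁ d) (e₂ ▸ isFinLocFree_twF h₂ d)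
        (e₃ ▸ isFinLocFree_twF h₃ d))
    suffices H : ∀ k : ℕ, ∀ j : Fin (n + 1), n < (j : ℕ) + k → x j = 0 from
      funext fun j => H (n + 1) j (by omega)
    intro k
    induction k with
    | zero => intro j hj; have := j.2; omega
    | succ k ih =>
      intro j hj
      obtain ⟨Q, hQ⟩ := hQ (-((j : ℕ) : ℤ))
      have hQA : ∀ (i : Fin (n + 1)) (y : SGA6.Kvb Y),
          Q (A i y) = (Ring.choose ((((i : ℕ) : ℤ) - (j : ℕ)) + n) n : ℤ) • y := by
        intro i y
        refine KvbLam28.kvb_induction (P := fun y => Q (A i y) =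
          (Ring.choose ((((i : ℕ) : ℤ) - (j : ℕ)) + n) n : ℤ) • y) (by simp) ?_ ?_ ?_ y
        · intro V hV
          show Q (A i (KRR.cl Y V)) = _
          rw [hA i V hV, hQ _ (isFinLocFree_twPull hV _)]
          obtain ⟨e⟩ := CM28.nonempty_twF_twF ((Scheme.Modules.pullback (KRR.pr n Y)).obj V)
            (show -((j : ℕ) : ℤ) + ((i : ℕ) : ℤ) = ((i : ℕ) : ℤ) - (j : ℕ) by ring)
          rw [show KRR.cl _ (KRR.twF n Y (-((j : ℕ) : ℤ)) (twPull n ((i : ℕ) : ℤ) V)) =
            KRR.cl _ (twPull n (((i : ℕ) : ℤ) - (j : ℕ)) V) from ExtFilt28.clv_iso e]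
          exact hval V hV _
        · intro a ha; simp only [map_neg, ha, smul_neg]
        · intro a b ha hb; simp only [map_add, ha, hb, smul_add]
      have h := congrArg Q hx
      rw [map_sum, map_zero, Finset.sum_eq_single j ?_ (fun h => absurd (Finset.mem_univ _) h)] at h
      · rw [hQA, sub_self, zero_add, Ring.choose_natCast, Nat.choose_self, Nat.cast_one, one_smul] at h
        exact h
      · intro i _ hij
        rw [hQA]
        rcases lt_or_gt_of_ne (fun h => hij (Fin.ext h)) with hlt | hgt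
        · rw [show ((i : ℕ) : ℤ) - (j : ℕ) + n = ((n - (j - i) : ℕ) : ℤ) by omega, Ring.choose_natCast,
            Nat.choose_eq_zero_of_lt (by omega), Nat.cast_zero, zero_smul]
        · rw [ih i (by omega), smul_zero]
  · let R := Φ.range
    have hzero : ∀ {f : ℤ → SGA6.Kvb (KRR.PY n Y) ⧸ R}, (∀ t, Rel n f t) →
        (∀ t : ℤ, 0 ≤ t → t ≤ n → f t = 0) → ∀ t : ℤ, t ≤ n → f t = 0 := by
      intro f hf h0 t ht
      suffices H : ∀ k : ℕ, ∀ t : ℤ, -(k : ℤ) ≤ t → t ≤ n → f t = 0 from H (-t).toNat t (by omega) ht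
      intro k
      induction k with
      | zero => intro t h1 h2; exact h0 t (by omega) h2
      | succ k ih =>
        intro t h1 h2
        by_cases h : -(k : ℤ) ≤ t
        · exact ih t h h2
        · rw [(rel_iff f t).1 (hf t), Finset.sum_eq_zero fun p _ => ?_, smul_zero]
          rw [ih (t + (n + 1) - (p : ℕ)) (by have := p.2; omega) (by have := p.2; omega), smul_zero]
    let π := QuotientAddGroup.mk' R
    have hrel : ∀ F : (KRR.PY n Y).Modules, FlatMod.IsFinLocFree F →
        ∀ t, Rel n (fun t => π (KRR.cl _ (KRR.twF n Y t F))) t := fun F hF t => by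
      have h := congrArg π (rel_vb hF t)
      rw [map_zero, map_sum] at h
      simp only [map_zsmul] at h
      exact h
    have hgen : ∀ (V : Y.Modules), FlatMod.IsFinLocFree V → ∀ t : ℤ, t ≤ n → π (KRR.cl _ (twPull n t V)) = 0 := by
      intro V hV
      refine hzero (hrel _ (DCat.PullPerf.isFinLocFree_pullback (KRR.pr n Y) hV)) fun t h1 h2 => ?_
      obtain ⟨i, rfl⟩ := Int.eq_ofNat_of_zero_le h1
      refine (QuotientAddGroup.eq_zero_iff _).2 ⟨Pi.single (⟨i, by omega⟩ : Fin (n + 1)) (KRR.cl Y V), ?_⟩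
      rw [hΦ, Finset.sum_eq_single (⟨i, by omega⟩ : Fin (n + 1)) (fun j _ hj => by rw [Pi.single_eq_of_ne hj, map_zero])
        (fun h => absurd (Finset.mem_univ _) h), Pi.single_eq_same, hA _ V hV]
    intro y
    suffices hy : π y = 0 from (QuotientAddGroup.eq_zero_iff _).1 hy
    refine KvbLam28.kvb_induction (P := fun y => π y = 0) (map_zero π) ?_ ?_ ?_ y
    · intro F hF
      obtain ⟨N, hN⟩ := exists_regBound hF
      obtain ⟨e⟩ := CM28.nonempty_twF_zero F
      have h := eq_of_rel (n := n) (N : ℤ) (f := fun t => π (KRR.cl _ (KRR.twF n Y t F))) (g := fun _ => 0)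
        (hrel F hF) (fun t => by simp [Rel]) (fun t ht => ?_) 0
      · refine Eq.trans ?_ h
        exact congrArg π (ExtFilt28.clv_iso e).symm
      · refine (QuotientAddGroup.eq_zero_iff _).2 (cl_mem_of_regP (hN t ht) R fun i _ T hT => ?_)
        exact (QuotientAddGroup.eq_zero_iff _).1 (hgen T hT (-(i : ℤ)) (by omega))
    · intro a ha; rw [map_neg, ha, neg_zero]
    · intro a b ha hb; rw [map_add, ha, hb, add_zero]

end Groth.Agent.KPr28
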