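import Groth.Agent.KPr28.UnitQC

/-!
# Resolution of regular quasi-coherent modules by twisted pullbacks
-/

set_option autoImplicit false
set_option linter.style.haveILetI false
set_option backward.isDefEq.respectTransparency false
set_option maxHeartbeats 1000000

universe u v w

open CategoryTheory CategoryTheory.Limits AlgebraicGeometry TopologicalSpace
open Groth.Agent.Coherent

noncomputable section

namespace Groth.Agent.KPr28

/-- Splicing short exact sequences into a resolution. -/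
theorem exists_resolution_of_ses {A : Type v} [Category.{w} A] [Abelian A] (K E : ℕ → A)
    (ι : ∀ i, K (i + 1) ⟶ E i) (π : ∀ i, E i ⟶ K i) (wz : ∀ i, ι i ≫ π i = 0)
    (hS : ∀ i, (ShortComplex.mk (ι i) (π i) (wz i)).ShortExact) :
    ∃ (L : ChainComplex A ℕ) (q : L ⟶ (ChainComplex.single₀ A).obj (K 0)), (∀ i, L.X i = E i) ∧ QuasiIso q := by
  let d : ∀ i, E (i + 1) ⟶ E i := fun i => π (i + 1) ≫ ι i
  have hsq : ∀ i, d (i + 1) ≫ d i = 0 := fun i => by
    simp only [d, Category.assoc]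
    rw [← Category.assoc (ι (i + 1)), wz, zero_comp, comp_zero]
  let C : ChainComplex A ℕ := ChainComplex.of E d hsq
  have hd : ∀ i, C.d (i + 1) i = d i := fun i => ChainComplex.of_d E d i
  have h0 : C.d 1 0 ≫ π 0 = 0 := by
    rw [hd]; simp only [d, Category.assoc]; rw [wz, comp_zero]
  let q : C ⟶ (ChainComplex.single₀ A).obj (K 0) := (ChainComplex.toSingle₀Equiv _ _).symm ⟨π 0, h0⟩
  have hq : q.f 0 = π 0 := ChainComplex.toSingle₀Equiv_symm_apply_f_zero _ _
  have hex : ∀ i, (ShortComplex.mk (π (i + 1) ≫ ι i) (π i) (by rw [Category.assoc, wz, comp_zero])).Exact := fun i => by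
    let φ : ShortComplex.mk (π (i + 1) ≫ ι i) (π i) (by rw [Category.assoc, wz, comp_zero]) ⟶ ShortComplex.mk (ι i) (π i) (wz i) :=
      { τ₁ := π (i + 1), τ₂ := 𝟙 _, τ₃ := 𝟙 _, comm₁₂ := (Category.comp_id _).symm, comm₂₃ := by simp }
    haveI : Epi φ.τ₁ := (hS (i + 1)).epi_g
    haveI : IsIso φ.τ₂ := inferInstanceAs (IsIso (𝟙 _))
    haveI : Mono φ.τ₃ := inferInstanceAs (Mono (𝟙 _))
    exact (ShortComplex.exact_iff_of_epi_of_isIso_of_mono φ).2 (hS i).exact
  refine ⟨C, q, fun i => rfl, ⟨fun i => ?_⟩⟩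
  cases i with
  | zero =>
    rw [ChainComplex.quasiIsoAt₀_iff, ShortComplex.quasiIso_iff_of_zeros']
    · refine (ShortComplex.exact_and_epi_g_iff_of_iso
        (S₂ := ShortComplex.mk (π 1 ≫ ι 0) (π 0) (by rw [Category.assoc, wz, comp_zero])) ?_).2 ⟨hex 0, (hS 0).epi_g⟩
      exact ShortComplex.isoMk (Iso.refl _) (Iso.refl _) (Iso.refl _) (by simp [hd 0, d])
        (by simp [hq])
    all_goals simp
  | succ i =>
    rw [quasiIsoAt_iff_exactAt' _ _ (ChainComplex.exactAt_succ_single_obj _ _),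
      HomologicalComplex.exactAt_iff' _ (i + 2) (i + 1) i (by simp) (by simp)]
    let S := ShortComplex.mk (d (i + 1)) (d i) (hsq i)
    have hS2 : S.Exact := by
      let φ : ShortComplex.mk (π (i + 2) ≫ ι (i + 1)) (π (i + 1)) (by rw [Category.assoc, wz, comp_zero]) ⟶ S :=
        { τ₁ := 𝟙 _, τ₂ := 𝟙 _, τ₃ := ι i, comm₁₂ := by simp [S, d], comm₂₃ := by simp [S, d] }
      haveI : Epi φ.τ₁ := inferInstanceAs (Epi (𝟙 _))
      haveI : IsIso φ.τ₂ := inferInstanceAs (IsIso (𝟙 _))
      haveI : Mono φ.τ₃ := (hS i).mono_f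
      exact (ShortComplex.exact_iff_of_epi_of_isIso_of_mono φ).1 (hex (i + 1))
    refine ShortComplex.exact_of_iso ?_ hS2
    exact ShortComplex.isoMk (Iso.refl _) (Iso.refl _) (Iso.refl _) (by simp [S, hd])
      (by simp [S, hd])

variable {n : ℕ} {Y : Scheme.{u}}

/-- Regular quasi-coherent modules. -/
def regQ (n : ℕ) (Y : Scheme.{u}) (F : (KRR.PY n Y).Modules) : Prop := Coh.IsQCoh F ∧ KRR.IsRegSheaf n Y F

/-- The twisted kernel of the counit is again regular. -/
theorem regQ_stepMod {F : (KRR.PY n Y).Modules} (hF : regQ n Y F) : regQ n Y (stepMod F) := by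
  haveI := hF.1
  let adj := Scheme.Modules.pullbackPushforwardAdjunction (KRR.pr n Y)
  haveI : IsProper (KRR.pr n Y) := RelVALib.isProper_toBase n Y
  haveI : Coh.IsQCoh ((Scheme.Modules.pushforward (KRR.pr n Y)).obj F) := Coherent.isQCoh_push _ _
  haveI : Coh.IsQCoh ((Scheme.Modules.pushforward (KRR.pr n Y) ⋙ Scheme.Modules.pullback (KRR.pr n Y)).obj F) :=
    EGA43.InjFibre.isQCoh_pullback (KRR.pr n Y) ((Scheme.Modules.pushforward (KRR.pr n Y)).obj F)
  haveI : Coh.IsQCoh ((𝟭 (KRR.PY n Y).Modules).obj F) := hF.1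
  haveI := isQCoh_kernel (adj.counit.app F)
  haveI hepi : Epi (adj.counit.app F) := epi_counit_qcoh hF.1 hF.2
  refine ⟨Gen.isQCoh_twF 1, ?_⟩
  let P := (Scheme.Modules.pullback (KRR.pr n Y)).obj ((Scheme.Modules.pushforward (KRR.pr n Y)).obj F)
  let S : ShortComplex (KRR.PY n Y).Modules :=
    ShortComplex.mk (kernel.ι (adj.counit.app F)) (adj.counit.app F) (kernel.condition _)
  have hS : S.ShortExact :=
    ShortComplex.ShortExact.mk' (ShortComplex.exact_of_f_is_kernel _ (kernelIsKernel _)) inferInstance hepi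
  intro i hi
  obtain ⟨e⟩ := CM28.nonempty_twF_twF (kernel (adj.counit.app F)) (show -(i : ℤ) + 1 = 1 - (i : ℤ) by ring)
  refine van_of_iso e.symm ?_
  obtain ⟨k, rfl⟩ : ∃ k, i = k + 1 := ⟨i - 1, by omega⟩
  rcases Nat.eq_zero_or_pos k with rfl | hk
  · obtain ⟨e0⟩ := CM28.nonempty_twF_zero (kernel (adj.counit.app F))
    obtain ⟨eP⟩ := CM28.nonempty_twF_zero P
    refine van_of_iso (e0.symm ≪≫ eqToIso (congrArg (fun d : ℤ => KRR.twF n Y d _)
      (show (0 : ℤ) = 1 - ((0 + 1 : ℕ) : ℤ) by norm_num))) ?_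
    have hsplit : Epi ((Coh.pushAb (KRR.pr n Y)).map
        ((toAbFunctor (KRR.PY n Y)).map (adj.counit.app F))) :=
      haveI : IsSplitEpi ((Scheme.Modules.pushforward (KRR.pr n Y)).map (adj.counit.app F)) :=
        IsSplitEpi.mk' ⟨adj.unit.app _, adj.right_triangle_components F⟩
      inferInstanceAs (Epi ((toAbFunctor Y).map
        ((Scheme.Modules.pushforward (KRR.pr n Y)).map (adj.counit.app F))))
    exact CM28.isZero_X₁_one (Coh.pushAb (KRR.pr n Y)) (toAb_shortExact hS)
      (van_of_iso eP (van_twF_pull 0 1 (fun h => by omega) (fun h => by omega))) (hepi := hsplit)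
  · obtain ⟨T, hT, e₁, e₂, e₃⟩ := twF_ses hS (1 - ((k + 1 : ℕ) : ℤ))
    have h₂ : Van (k + 1) T.X₂ := by
      rw [e₂]; exact van_twF_pull _ (k + 1) (fun h => by omega) (fun h => by omega)
    have h₃ : Van k T.X₃ := by
      rw [e₃, show (1 : ℤ) - ((k + 1 : ℕ) : ℤ) = -(k : ℤ) by push_cast; ring]; exact hF.2 k hk
    show Van (k + 1) (KRR.twF n Y (1 - ((k + 1 : ℕ) : ℤ)) S.X₁)
    rw [← e₁]
    exact CM28.isZero_X₁ (Coh.pushAb (KRR.pr n Y)) (toAb_shortExact hT) k h₂ h₃

theorem regQ_iterStep {F : (KRR.PY n Y).Modules} (hF : regQ n Y F) : ∀ j, regQ n Y (iterStep F j)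
  | 0 => hF
  | j + 1 => regQ_stepMod (regQ_iterStep hF j)

/-- The first `j` negative twists of the `j`-th kernel are acyclic in all degrees. -/
theorem van_iterStep_qc {F : (KRR.PY n Y).Modules} (hF : regQ n Y F) :
    ∀ j : ℕ, j ≤ n + 1 → ∀ s : ℕ, 1 ≤ s → s ≤ j → ∀ q : ℕ,
      Van q (KRR.twF n Y (-(s : ℤ)) (iterStep F j)) := by
  intro j
  induction j with
  | zero => intro _ s h1 h2; omega
  | succ j ih =>
    intro hj s hs hsj q
    let G := iterStep F j
    have hG : regQ n Y G := regQ_iterStep hF j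
    haveI := hG.1
    let adj := Scheme.Modules.pullbackPushforwardAdjunction (KRR.pr n Y)
    haveI : IsProper (KRR.pr n Y) := RelVALib.isProper_toBase n Y
    haveI : Coh.IsQCoh ((Scheme.Modules.pushforward (KRR.pr n Y)).obj G) := Coherent.isQCoh_push _ _
    haveI hepi : Epi (adj.counit.app G) := epi_counit_qcoh hG.1 hG.2
    have hS : (ShortComplex.mk (kernel.ι (adj.counit.app G)) (adj.counit.app G) (kernel.condition _)).ShortExact :=
      ShortComplex.ShortExact.mk' (ShortComplex.exact_of_f_is_kernel _ (kernelIsKernel _)) inferInstance hepi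
    obtain ⟨e⟩ := CM28.nonempty_twF_twF (kernel (adj.counit.app G))
      (show -(s : ℤ) + 1 = -((s - 1 : ℕ) : ℤ) by omega)
    refine van_of_iso e.symm ?_
    rcases Nat.eq_zero_or_pos q with rfl | hq
    · by_cases hs1 : s = 1
      · subst hs1
        obtain ⟨e0⟩ := CM28.nonempty_twF_zero (kernel (adj.counit.app G))
        refine van_of_iso (e0.symm ≪≫ eqToIso (congrArg (fun d : ℤ => KRR.twF n Y d _)
          (show (0 : ℤ) = -((1 - 1 : ℕ) : ℤ) by norm_num))) ?_
        exact van_kernel_counit G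
      · obtain ⟨T, hT, e₁, e₂, -⟩ := twF_ses hS (-((s - 1 : ℕ) : ℤ))
        refine (congrArg (Van 0) e₁).mp (van_X₁_zero hT ((congrArg (Van 0) e₂).mpr ?_))
        exact van_twF_pull _ 0 (fun h => by omega) (fun h => by omega)
    · by_cases hs1 : s = 1
      · have h := van_twF_of_reg (regQ_stepMod hG).2 (q - 1) q hq
        rw [show ((q - 1 : ℕ) : ℤ) - q = -(1 : ℕ) by omega] at h
        subst hs1
        exact van_of_iso e h
      · obtain ⟨q, rfl⟩ : ∃ p, q = p + 1 := ⟨q - 1, by omega⟩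
        obtain ⟨T, hT, e₁, e₂, e₃⟩ := twF_ses hS (-((s - 1 : ℕ) : ℤ))
        refine (congrArg (Van (q + 1)) e₁).mp (CM28.isZero_X₁ (Coh.pushAb (KRR.pr n Y)) (toAb_shortExact hT) q
          ((congrArg (Van (q + 1)) e₂).mpr ?_) ((congrArg (Van q) e₃).mpr ?_))
        · exact van_twF_pull _ (q + 1) (fun h => by omega) (fun h => by omega)
        · exact ih (by omega) (s - 1) (by omega) (by omega) q

/-- The resolution stops after `n + 1` steps. -/
theorem isZero_iterStep_qc {F : (KRR.PY n Y).Modules} (hF : regQ n Y F) :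
    ∀ k : ℕ, IsZero (iterStep F (n + 1 + k))
  | 0 => by
    let G := iterStep F (n + 1)
    have hG : regQ n Y G := regQ_iterStep hF (n + 1)
    obtain ⟨D, f, w, hex, hepi, hX, hz⟩ := exists_koszulSeq n Y G 0
    obtain ⟨e0⟩ := hX 0 (Nat.zero_le _)
    obtain ⟨u0⟩ := nonempty_sigma_one (Nat.choose_zero_right (n + 1)) (KRR.twF n Y ((0 : ℤ) - ((0 : ℕ) : ℤ)) G)
    obtain ⟨z0⟩ := CM28.nonempty_twF_zero G
    have h0 : Van 0 (D 0) := van_of_exact (n + 1) 0 D f w hex hepi hz fun p => by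
      by_cases hp : p + 1 ≤ n + 1
      · obtain ⟨e⟩ := hX (p + 1) hp
        refine van_of_iso e.symm (van_sigma _ ?_)
        rw [show (0 : ℤ) - ((p + 1 : ℕ) : ℤ) = -((p + 1 : ℕ) : ℤ) by ring]
        exact van_iterStep_qc hF (n + 1) le_rfl (p + 1) (by omega) hp _
      · exact (Coh.RpushAb (KRR.pr n Y) (0 + p)).map_isZero ((toAbFunctor _).map_isZero (hz _ (by omega)))
    have hp := isZero_push_of_van (van_of_iso (e0 ≪≫ u0 ≪≫
      eqToIso (congrArg (fun d => KRR.twF n Y d G) (sub_zero (0 : ℤ))) ≪≫ z0) h0)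
    haveI : Epi ((Scheme.Modules.pullbackPushforwardAdjunction (KRR.pr n Y)).counit.app G) := epi_counit_qcoh hG.1 hG.2
    exact IsZero.of_epi ((Scheme.Modules.pullbackPushforwardAdjunction (KRR.pr n Y)).counit.app G)
      ((Scheme.Modules.pullback (KRR.pr n Y)).map_isZero hp)
  | k + 1 => by
    haveI : PreservesLimitsOfSize.{0, 0} (Scheme.Modules.pushforward (KRR.pr n Y)) :=
      (Scheme.Modules.pullbackPushforwardAdjunction (KRR.pr n Y)).rightAdjoint_preservesLimits
    haveI : (Scheme.Modules.pushforward (KRR.pr n Y)).Additive := Functor.additive_of_preserves_binary_products _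
    exact ((DCoh.tensorBi (X := KRR.PY n Y)).obj _).map_isZero (IsZero.of_mono (kernel.ι _)
      ((Scheme.Modules.pushforward (KRR.pr n Y) ⋙ Scheme.Modules.pullback (KRR.pr n Y)).map_isZero (isZero_iterStep_qc hF k)))

/-- Regular quasi-coherent modules have resolutions by twisted pullbacks. -/
theorem exists_resolution_twisted {F : (KRR.PY n Y).Modules} (hF : regQ n Y F) :
    ∃ (Tm : ℕ → Y.Modules) (L : ChainComplex (KRR.PY n Y).Modules ℕ)
      (π : L ⟶ (ChainComplex.single₀ (KRR.PY n Y).Modules).obj F),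
      (∀ i, Coh.IsQCoh (Tm i)) ∧
      (∀ i, i ≤ n → Nonempty (L.X i ≅
        KRR.twF n Y (-(i : ℤ)) ((Scheme.Modules.pullback (KRR.pr n Y)).obj (Tm i)))) ∧
      (∀ i, n < i → IsZero (L.X i)) ∧ QuasiIso π := by
  let adj := Scheme.Modules.pullbackPushforwardAdjunction (KRR.pr n Y)
  haveI : IsProper (KRR.pr n Y) := RelVALib.isProper_toBase n Y
  let Tm : ℕ → Y.Modules := fun i => (Scheme.Modules.pushforward (KRR.pr n Y)).obj (iterStep F i)
  have hTm : ∀ i, Coh.IsQCoh (Tm i) := fun i => by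
    haveI := (regQ_iterStep hF i).1; exact Coherent.isQCoh_push _ _
  let K : ℕ → (KRR.PY n Y).Modules := fun i => KRR.twF n Y (-(i : ℤ)) (iterStep F i)
  let E : ℕ → (KRR.PY n Y).Modules := fun i =>
    KRR.twF n Y (-(i : ℤ)) ((Scheme.Modules.pullback (KRR.pr n Y)).obj (Tm i))
  have hstep : ∀ i, ∃ (a : K (i + 1) ⟶ E i) (b : E i ⟶ K i) (w : a ≫ b = 0), (ShortComplex.mk a b w).ShortExact := fun i => by
    let G := iterStep F i
    haveI hepi : Epi (adj.counit.app G) := epi_counit_qcoh (regQ_iterStep hF i).1 (regQ_iterStep hF i).2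
    have hS : (ShortComplex.mk (kernel.ι (adj.counit.app G)) (adj.counit.app G) (kernel.condition _)).ShortExact :=
      ShortComplex.ShortExact.mk' (ShortComplex.exact_of_f_is_kernel _ (kernelIsKernel _)) inferInstance hepi
    let T := Coherent.tensE (Twist.twistOver n Y (-(i : ℤ)))
    haveI : PreservesFiniteLimits T := Coherent.preservesFiniteLimits_tensE (isFinLocFree_twistOver _)
    haveI : PreservesFiniteColimits T := Coherent.preservesFiniteColimits_tensE (isFinLocFree_twistOver _)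
    haveI : T.Additive := Functor.additive_of_preserves_binary_products T
    have hT := hS.map_of_exact T
    obtain ⟨e⟩ := CM28.nonempty_twF_twF (kernel (adj.counit.app G)) (show -((i + 1 : ℕ) : ℤ) + 1 = -(i : ℤ) by push_cast; ring)
    have hw : (e.hom ≫ T.map (kernel.ι (adj.counit.app G))) ≫ T.map (adj.counit.app G) = 0 := by
      rw [Category.assoc, ← T.map_comp, kernel.condition, T.map_zero, comp_zero]
    refine ⟨e.hom ≫ T.map (kernel.ι (adj.counit.app G)), T.map (adj.counit.app G), hw, ?_⟩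
    exact ShortComplex.shortExact_of_iso
      (ShortComplex.isoMk (S₁ := (ShortComplex.mk _ _ (kernel.condition (adj.counit.app G))).map T)
        (S₂ := ShortComplex.mk _ _ hw) e.symm (Iso.refl _) (Iso.refl _)
        ((Iso.inv_hom_id_assoc e _).trans (Category.comp_id _).symm)
        ((Category.id_comp _).trans (Category.comp_id _).symm)) hT
  choose a b w hSS using hstep
  obtain ⟨L, q, hL, hq⟩ := exists_resolution_of_ses K E a b w hSS
  obtain ⟨z⟩ := CM28.nonempty_twF_zero F
  let e0 : K 0 ≅ F := eqToIso (congrArg (fun d : ℤ => KRR.twF n Y d F) (show -((0 : ℕ) : ℤ) = 0 by norm_num)) ≪≫ z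
  refine ⟨Tm, L, q ≫ (ChainComplex.single₀ _).map e0.hom, hTm, fun i _ => ⟨eqToIso (hL i)⟩, fun i hi => ?_, ?_⟩
  · rw [hL i]
    obtain ⟨k, rfl⟩ : ∃ k, i = n + 1 + k := ⟨i - (n + 1), by omega⟩
    haveI : PreservesLimitsOfSize.{0, 0} (Scheme.Modules.pushforward (KRR.pr n Y)) := adj.rightAdjoint_preservesLimits
    haveI : (Scheme.Modules.pushforward (KRR.pr n Y)).Additive := Functor.additive_of_preserves_binary_products _
    exact ((DCoh.tensorBi (X := KRR.PY n Y)).obj _).map_isZero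
      ((Scheme.Modules.pushforward (KRR.pr n Y) ⋙ Scheme.Modules.pullback (KRR.pr n Y)).map_isZero (isZero_iterStep_qc hF k))
  · infer_instance

end Groth.Agent.KPr28
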