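import Groth.Agent.KPr28.Push
import Groth.Agent.VarietyLib.TensorExact

/-!
# Tensoring exact sequences of vector bundles with an arbitrary module
-/

set_option autoImplicit false
set_option linter.style.haveILetI false
set_option backward.isDefEq.respectTransparency.types false

universe u

open CategoryTheory CategoryTheory.Limits AlgebraicGeometry TopologicalSpace MonoidalCategory TensorProduct
open Groth.Agent.ModStalk Groth.Agent.OmegaLib

noncomputable section

namespace Groth.Agent.KPr28

variable {X : Scheme.{u}}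

/-- Tensoring with `F` on the right. -/
abbrev tensR (F : X.Modules) : X.Modules ⥤ X.Modules := (DCoh.tensorBi (X := X)).flip.obj F

/-- A short exact sequence with locally free cokernel stays exact after tensoring with anything. -/
theorem shortExact_tensR {S : ShortComplex X.Modules} (hS : S.ShortExact) (h₃ : FlatMod.IsFinLocFree S.X₃)
    (F : X.Modules) [(tensR F).PreservesZeroMorphisms] : (S.map (tensR F)).ShortExact := by
  haveI := CAlgH3.LocFreeFactor.isQCoh_of_finLocFree h₃
  let St := DerSch.stalkFunctor X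
  have hex : ∀ x, Function.Exact ((St x).map ((tensR F).map S.f)) ((St x).map ((tensR F).map S.g)) ∧
      Function.Injective ((St x).map ((tensR F).map S.f)) ∧ Function.Surjective ((St x).map ((tensR F).map S.g)) := by
    intro x
    have hx := hS.map_of_exact (St x)
    haveI : Module.Free (X.presheaf.stalk x) (S.X₃.presheaf.stalk x) := Props12.free_stalk_of_isFinLocFree S.X₃ h₃ x
    haveI : Module.Projective (X.presheaf.stalk x) ((S.map (St x)).X₃ : Type u) :=
      inferInstanceAs (Module.Projective (X.presheaf.stalk x) (S.X₃.presheaf.stalk x))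
    haveI : Projective (S.map (St x)).X₃ :=
      (IsProjective.iff_projective (R := X.presheaf.stalk x) (S.map (St x)).X₃).1 inferInstance
    let sp := hx.splittingOfProjective
    let f := ((St x).map S.f).hom
    let g := ((St x).map S.g).hom
    have hfg : Function.Exact f g := (ShortComplex.ShortExact.moduleCat_exact_iff_function_exact _).mp hx.exact
    have hg : Function.Surjective g := (ModuleCat.epi_iff_surjective _).mp hx.epi_g
    let e₁ : ((St x).obj ((tensR F).obj S.X₁)) ≃ₗ[X.presheaf.stalk x]
        TensorProduct (X.presheaf.stalk x) ((St x).obj S.X₁) ((St x).obj F) := (stalkTensorIso x S.X₁ F).toLinearEquiv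
    let e₂ : ((St x).obj ((tensR F).obj S.X₂)) ≃ₗ[X.presheaf.stalk x]
        TensorProduct (X.presheaf.stalk x) ((St x).obj S.X₂) ((St x).obj F) := (stalkTensorIso x S.X₂ F).toLinearEquiv
    let e₃ : ((St x).obj ((tensR F).obj S.X₃)) ≃ₗ[X.presheaf.stalk x]
        TensorProduct (X.presheaf.stalk x) ((St x).obj S.X₃) ((St x).obj F) := (stalkTensorIso x S.X₃ F).toLinearEquiv
    have ha : ∀ v, e₂ ((St x).map ((tensR F).map S.f) v) = LinearMap.rTensor _ f (e₁ v) := fun v => by
      rw [show (tensR F).map S.f = KoszTw.tensorMap S.f (𝟙 F) from KoszTw.tensorBi_map_app S.f F]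
      exact VarietyLib.stalk_tensorMap_id S.f F x v
    have hb : ∀ v, e₃ ((St x).map ((tensR F).map S.g) v) = LinearMap.rTensor _ g (e₂ v) := fun v => by
      rw [show (tensR F).map S.g = KoszTw.tensorMap S.g (𝟙 F) from KoszTw.tensorBi_map_app S.g F]
      exact VarietyLib.stalk_tensorMap_id S.g F x v
    have hfr : sp.r.hom.comp f = LinearMap.id := congrArg ModuleCat.Hom.hom sp.f_r
    have key : ∀ a, LinearMap.rTensor ((St x).obj F : Type u) sp.r.hom (LinearMap.rTensor ((St x).obj F : Type u) f a) = a := by
      intro a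
      induction a using TensorProduct.induction_on with
      | zero => exact (congrArg _ (map_zero _)).trans (map_zero _)
      | tmul a c => exact congrArg (fun z => z ⊗ₜ[X.presheaf.stalk x] c) (LinearMap.congr_fun hfr a)
      | add a c ha hc => exact ((congrArg _ (map_add _ a c)).trans (map_add _ _ _)).trans (congrArg₂ (· + ·) ha hc)
    have hf' : Function.Injective (LinearMap.rTensor ((St x).obj F : Type u) f) := fun a b hab => by
      rw [← key a, hab, key b]
    have hg' := LinearMap.rTensor_surjective ((St x).obj F : Type u) hg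
    have hfg' := rTensor_exact ((St x).obj F : Type u) hfg hg
    refine ⟨fun v => ⟨fun hv => ?_, ?_⟩, fun v w h => ?_, fun w => ?_⟩
    · obtain ⟨u, hu⟩ := (hfg' (e₂ v)).1 (by rw [← hb, hv, map_zero])
      refine ⟨e₁.symm u, e₂.injective ?_⟩
      rw [ha, e₁.apply_symm_apply, hu]
    · rintro ⟨u, rfl⟩
      refine e₃.injective ?_
      rw [hb, ha, hfg'.apply_apply_eq_zero, map_zero]
    · refine e₁.injective (hf' ?_)
      rw [← ha, ← ha, h]
    · obtain ⟨u, hu⟩ := hg' (e₃ w)
      refine ⟨e₂.symm u, e₃.injective ?_⟩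
      rw [hb, e₂.apply_symm_apply, hu]
  haveI hm : Mono (S.map (tensR F)).f := mono_of_stalks_injective _ fun x => (hex x).2.1
  haveI he : Epi (S.map (tensR F)).g := epi_of_stalks_surjective _ fun x => (hex x).2.2
  refine { exact := exact_of_stalks _ fun x => ?_ }
  exact (ShortComplex.ShortExact.moduleCat_exact_iff_function_exact _).mpr (hex x).1

instance (F : X.Modules) : (tensR F).Additive where
  map_add {A B f g} :=
    congrArg (fun t => NatTrans.app t F) ((DCoh.tensorBi (X := X)).map_add (f := f) (g := g))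

/-- A functor exact on split-stalk sequences keeps bounded exact sequences of bundles exact. -/
theorem exact_map (G : X.Modules ⥤ X.Modules) [G.Additive]
    (hG : ∀ S : ShortComplex X.Modules, S.ShortExact → FlatMod.IsFinLocFree S.X₃ → (S.map G).ShortExact) :
    ∀ (N : ℕ) (D : ℕ → X.Modules) (f : ∀ p, D (p + 1) ⟶ D p) (w : ∀ p, f (p + 1) ≫ f p = 0),
      (∀ p, (ShortComplex.mk (f (p + 1)) (f p) (w p)).Exact) → Epi (f 0) → (∀ p, FlatMod.IsFinLocFree (D p)) →
      (∀ p, N < p → IsZero (D p)) →
      (∀ p, (ShortComplex.mk (G.map (f (p + 1))) (G.map (f p))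
        (by rw [← Functor.map_comp, w, Functor.map_zero])).Exact) ∧ Epi (G.map (f 0)) := by
  intro N
  induction N with
  | zero =>
    intro D f w _ h0 _ hz
    have hD : ∀ p, IsZero (G.obj (D (p + 1))) := fun p => G.map_isZero (hz _ (by omega))
    refine ⟨fun p => ShortComplex.exact_of_isZero_X₂ _ (hD p), ⟨fun _ _ _ => ?_⟩⟩
    haveI := h0
    exact (G.map_isZero (IsZero.of_epi (f 0) (hz 1 one_pos))).eq_of_src _ _
  | succ N ih =>
    intro D f w hex h0 hP hz
    haveI := h0
    let D' : ℕ → X.Modules := fun p => match p with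
      | 0 => kernel (f 0)
      | q + 1 => D (q + 2)
    let f' : ∀ p, D' (p + 1) ⟶ D' p := fun p => match p with
      | 0 => kernel.lift (f 0) (f 1) (w 0)
      | q + 1 => f (q + 2)
    have w' : ∀ p, f' (p + 1) ≫ f' p = 0 := fun p => match p with
      | 0 => (cancel_mono (kernel.ι (f 0))).1 (by
          show (f 2 ≫ kernel.lift (f 0) (f 1) (w 0)) ≫ _ = _
          rw [Category.assoc, kernel.lift_ι, zero_comp]; exact w 1)
      | q + 1 => w (q + 2)
    have hex' : ∀ p, (ShortComplex.mk (f' (p + 1)) (f' p) (w' p)).Exact := fun p => match p with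
      | 0 => by
          let φ : ShortComplex.mk (f' 1) (f' 0) (w' 0) ⟶ ShortComplex.mk (f 2) (f 1) (w 1) :=
            { τ₁ := 𝟙 _, τ₂ := 𝟙 _, τ₃ := kernel.ι (f 0)
              comm₁₂ := by simp [f']
              comm₂₃ := by simp [f'] }
          haveI : Epi φ.τ₁ := inferInstanceAs (Epi (𝟙 _))
          haveI : IsIso φ.τ₂ := inferInstanceAs (IsIso (𝟙 _))
          haveI : Mono φ.τ₃ := inferInstanceAs (Mono (kernel.ι (f 0)))
          exact (ShortComplex.exact_iff_of_epi_of_isIso_of_mono φ).2 (hex 1)
      | q + 1 => hex (q + 2)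
    have h0' : Epi (f' 0) := (ShortComplex.exact_iff_epi_kernel_lift _).1 (hex 0)
    have hP' : ∀ p, FlatMod.IsFinLocFree (D' p) := fun p => match p with
      | 0 => KoszPn17.isFinLocFree_kernel (f 0) (hP 1) (hP 0)
      | q + 1 => hP (q + 2)
    have hz' : ∀ p, N < p → IsZero (D' p) := fun p hp => match p, hp with
      | q + 1, hp => hz (q + 2) (by omega)
    obtain ⟨hT', hE'⟩ := ih D' f' w' hex' h0' hP' hz'
    have hS : (ShortComplex.mk (kernel.ι (f 0)) (f 0) (kernel.condition _)).ShortExact :=
      ShortComplex.ShortExact.mk' (ShortComplex.exact_of_f_is_kernel _ (kernelIsKernel _)) inferInstance h0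
    have hST := hG _ hS (hP 0)
    haveI : Mono (G.map (kernel.ι (f 0))) := hST.mono_f
    have hfac : G.map (f' 0) ≫ G.map (kernel.ι (f 0)) = G.map (f 1) := by
      rw [← Functor.map_comp]
      exact congrArg _ (kernel.lift_ι _ _ _)
    refine ⟨fun p => ?_, hST.epi_g⟩
    match p with
    | 0 =>
      let T := ShortComplex.mk (G.map (kernel.ι (f 0))) (G.map (f 0))
        (by rw [← Functor.map_comp, kernel.condition, Functor.map_zero])
      have hTex : T.Exact := hST.exact
      let φ : ShortComplex.mk (G.map (f 1)) (G.map (f 0))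
          (by rw [← Functor.map_comp, w, Functor.map_zero]) ⟶ T :=
        ShortComplex.homMk (G.map (f' 0)) (𝟙 _) (𝟙 _)
          (hfac.trans (Category.comp_id _).symm) ((Category.id_comp _).trans (Category.comp_id _).symm)
      haveI : Epi φ.τ₁ := hE'
      haveI : IsIso φ.τ₂ := inferInstanceAs (IsIso (𝟙 _))
      haveI : Mono φ.τ₃ := inferInstanceAs (Mono (𝟙 _))
      exact (ShortComplex.exact_iff_of_epi_of_isIso_of_mono φ).2 hTex
    | 1 =>
      let φ : ShortComplex.mk (G.map (f' 1)) (G.map (f' 0))
          (by rw [← Functor.map_comp, w', Functor.map_zero]) ⟶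
          ShortComplex.mk (G.map (f 2)) (G.map (f 1))
            (by rw [← Functor.map_comp, w, Functor.map_zero]) :=
        { τ₁ := 𝟙 _, τ₂ := 𝟙 _, τ₃ := G.map (kernel.ι (f 0))
          comm₁₂ := (Category.id_comp _).trans (Category.comp_id _).symm
          comm₂₃ := (Category.id_comp _).trans hfac.symm }
      haveI : Epi φ.τ₁ := inferInstanceAs (Epi (𝟙 _))
      haveI : IsIso φ.τ₂ := inferInstanceAs (IsIso (𝟙 _))
      haveI : Mono φ.τ₃ := ‹Mono (G.map (kernel.ι (f 0)))›
      exact (ShortComplex.exact_iff_of_epi_of_isIso_of_mono φ).1 (hT' 0)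
    | q + 2 => exact hT' (q + 1)

/-- A bounded exact sequence of bundles stays exact after tensoring. -/
theorem exact_tensR (F : X.Modules) (N : ℕ) (D : ℕ → X.Modules)
    (f : ∀ p, D (p + 1) ⟶ D p) (w : ∀ p, f (p + 1) ≫ f p = 0)
    (hex : ∀ p, (ShortComplex.mk (f (p + 1)) (f p) (w p)).Exact) (h0 : Epi (f 0))
    (hP : ∀ p, FlatMod.IsFinLocFree (D p)) (hz : ∀ p, N < p → IsZero (D p)) :
    (∀ p, (ShortComplex.mk ((tensR F).map (f (p + 1))) ((tensR F).map (f p))
      (by rw [← Functor.map_comp, w, Functor.map_zero])).Exact) ∧ Epi ((tensR F).map (f 0)) :=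
  exact_map (tensR F) (fun _ h h' => shortExact_tensR h h' F) N D f w hex h0 hP hz

end Groth.Agent.KPr28
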