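import Groth.Agent.KPr28.CounitQC
import Groth.Agent.KPr28.Resolve
import Groth.Agent.InjMod14.Sums
import Groth.Agent.SerreDual.Colim
import Groth.Agent.ProjLib.ProjSpace
import Groth.Agent.KLoc28.Restrict
import Groth.Agent.CycLib28.PB.Ops.LocFree

/-!
# `pr_* pr^* H = H` for quasi-coherent modules on projective space
-/

set_option autoImplicit false
set_option backward.isDefEq.respectTransparency false
set_option linter.style.haveILetI false
set_option maxHeartbeats 1000000

universe u v w

open CategoryTheory CategoryTheory.Limits AlgebraicGeometry TopologicalSpace Opposite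
open Groth.Agent.Coherent Groth.Agent.PicLib Groth.Agent.AmpleLib

noncomputable section

namespace Groth.Agent.KPr28

variable {n : ℕ} {Y : Scheme.{u}}

theorem exists_section_pr : ∃ s : Y ⟶ KRR.PY n Y, s ≫ KRR.pr n Y = 𝟙 Y := by
  obtain ⟨s, hs⟩ := ProjLib.exists_section_toSpec n (ULift.{u} ℤ)
  exact ⟨pullback.lift (specULiftZIsTerminal.from Y ≫ s) (𝟙 Y) (by rw [Category.assoc, hs, Category.comp_id, Category.id_comp]),
    pullback.lift_snd _ _ _⟩

theorem isSplitMono_unit (H : Y.Modules) :
    IsSplitMono ((Scheme.Modules.pullbackPushforwardAdjunction (KRR.pr n Y)).unit.app H) := by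
  obtain ⟨s, hs⟩ := exists_section_pr (n := n) (Y := Y)
  let adj := Scheme.Modules.pullbackPushforwardAdjunction (KRR.pr n Y)
  haveI : IsSplitMono ((Scheme.Modules.pullback (KRR.pr n Y)).map (adj.unit.app H)) :=
    IsSplitMono.mk' ⟨adj.counit.app _, adj.left_triangle_components H⟩
  let ζ : Scheme.Modules.pullback (KRR.pr n Y) ⋙ Scheme.Modules.pullback s ≅ 𝟭 Y.Modules :=
    Scheme.Modules.pullbackComp s (KRR.pr n Y) ≪≫ Scheme.Modules.pullbackCongr hs ≪≫ Scheme.Modules.pullbackId Y
  have h : ζ.inv.app H ≫ (Scheme.Modules.pullback s).map ((Scheme.Modules.pullback (KRR.pr n Y)).map (adj.unit.app H)) ≫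
      ζ.hom.app _ = adj.unit.app H := by
    have := ζ.hom.naturality (adj.unit.app H)
    simp only [Functor.comp_map, Functor.id_map] at this
    rw [this, ← Category.assoc]
    exact (congrArg (· ≫ adj.unit.app H) (ζ.inv_hom_id_app H)).trans (Category.id_comp _)
  rw [← h]
  infer_instance

theorem isIso_unit_structure :
    IsIso ((Scheme.Modules.pullbackPushforwardAdjunction (KRR.pr n Y)).unit.app (Coh.structureModule Y)) := by
  haveI := isSplitMono_unit (n := n) (Coh.structureModule Y)
  let η := (Scheme.Modules.pullbackPushforwardAdjunction (KRR.pr n Y)).unit.app (Coh.structureModule Y)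
  obtain ⟨e⟩ := nonempty_push_pull (n := n) (Coherent.CohBC.isFinLocFree_structureModule Y)
  haveI : IsIso (retraction η) := isIso_of_epi_iso (Coherent.CohBC.isFinLocFree_structureModule Y) e (retraction η)
  have h : η = inv (retraction η) := IsIso.eq_inv_of_inv_hom_id (IsSplitMono.id η)
  show IsIso η
  rw [h]
  infer_instance

theorem preservesColimit_pull {ι : Type u} (J : ι → Y.Modules) :
    PreservesColimit (Discrete.functor J) (Scheme.Modules.pullback (KRR.pr n Y)) := by
  haveI := (Scheme.Modules.pullbackPushforwardAdjunction (KRR.pr n Y)).leftAdjoint_preservesColimits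
    (F := Scheme.Modules.pullback (KRR.pr n Y))
  infer_instance

/-- Sections over projective space of a pulled back free module are constant. -/
theorem surjective_unit_free [IsAffine Y] (ι : Type u) :
    Function.Surjective (((Scheme.Modules.pullbackPushforwardAdjunction (KRR.pr n Y)).unit.app
      (∐ fun _ : ι => Coh.structureModule Y)).app ⊤) := by
  classical
  let p := KRR.pr n Y
  let q := Scheme.Modules.pullback p
  let η := (Scheme.Modules.pullbackPushforwardAdjunction p).unit
  haveI : IsProper p := RelVALib.isProper_toBase n Y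
  haveI : CompactSpace ↥(KRR.PY n Y) := QuasiCompact.compactSpace_of_compactSpace p
  let J : ι → (KRR.PY n Y).Modules := fun _ => q.obj (Coh.structureModule Y)
  haveI := preservesColimit_pull (n := n) (fun _ : ι => Coh.structureModule Y)
  let e : (∐ J) ≅ q.obj (∐ fun _ : ι => Coh.structureModule Y) := asIso (sigmaComparison q fun _ => Coh.structureModule Y)
  intro u
  let u₀ : Γ(q.obj (∐ fun _ : ι => Coh.structureModule Y), (⊤ : (KRR.PY n Y).Opens)) := u
  let u' : Γ((∐ J), (⊤ : (KRR.PY n Y).Opens)) := e.inv.app ⊤ u₀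
  obtain ⟨T, hT⟩ := InjMod14.exists_part_range J (𝟙 (∐ J)) (U := ⊤) isCompact_univ u'
  have hfix : (InjMod14.part J T).app ⊤ u' = u' := by
    refine TopCat.Presheaf.section_ext ⟨(∐ J).presheaf, (∐ J).isSheaf⟩ ⊤ _ _ fun y hy => ?_
    obtain ⟨z, hz⟩ := hT y hy
    rw [Category.comp_id] at hz
    refine (Coherent.stalk_map_germ (InjMod14.part J T) hy u').symm.trans ?_
    refine ((congrArg _ hz.symm).trans ?_).trans hz
    rw [Coherent.stalk_comp_apply, InjMod14.part_comp_part J subset_rfl]
  let R : AddSubgroup Γ(q.obj (∐ fun _ : ι => Coh.structureModule Y), (⊤ : (KRR.PY n Y).Opens)) :=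
    ((η.app (∐ fun _ : ι => Coh.structureModule Y)).app ⊤).hom.range
  suffices u₀ ∈ R by
    obtain ⟨w, hw⟩ := this
    exact ⟨w, hw⟩
  have hu : u₀ = e.hom.app ⊤ u' :=
    (ConcreteCategory.congr_hom (congrArg (fun φ => Scheme.Modules.Hom.app φ (⊤ : (KRR.PY n Y).Opens)) e.inv_hom_id) u₀).symm
  rw [hu, ← hfix]
  let Θ : (∐ J) ⟶ q.obj (∐ fun _ : ι => Coh.structureModule Y) := e.hom
  have hsum : InjMod14.part J T ≫ Θ =
      ∑ i ∈ T, Sigma.π J i ≫ q.map (Limits.Sigma.ι (fun _ : ι => Coh.structureModule Y) i) := by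
    rw [InjMod14.part, Preadditive.sum_comp]
    refine Finset.sum_congr rfl fun i _ => ?_
    rw [Category.assoc]
    exact congrArg (Sigma.π J i ≫ ·) (ι_comp_sigmaComparison q _ i)
  have happ : ∀ (A : Finset ι), (∑ i ∈ A, Sigma.π J i ≫ q.map (Limits.Sigma.ι (fun _ : ι => Coh.structureModule Y) i)).app ⊤ u' ∈ R := by
    intro A
    induction A using Finset.induction with
    | empty => rw [Finset.sum_empty]; exact zero_mem R
    | insert i A hi ih =>
      rw [Finset.sum_insert hi, Scheme.Modules.Hom.add_app]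
      refine add_mem ?_ ih
      haveI := isIso_unit_structure (n := n) (Y := Y)
      obtain ⟨w, hw⟩ := (ConcreteCategory.bijective_of_isIso ((η.app (Coh.structureModule Y)).app ⊤)).2
        ((Sigma.π J i).app ⊤ u')
      refine ⟨(Limits.Sigma.ι (fun _ : ι => Coh.structureModule Y) i).app ⊤ w, ?_⟩
      refine (ConcreteCategory.congr_hom (congrArg (fun φ => Scheme.Modules.Hom.app φ (⊤ : Y.Opens))
        (η.naturality (Limits.Sigma.ι (fun _ : ι => Coh.structureModule Y) i))) w).trans ?_
      exact congrArg ((q.map (Limits.Sigma.ι (fun _ : ι => Coh.structureModule Y) i)).app ⊤) hw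
  have := happ T
  rw [← hsum] at this
  exact this

/-- A map out of a quasi-coherent module on an affine scheme is determined by the global sections. -/
theorem eq_zero_of_top [IsAffine Y] {M Q : Y.Modules} [Coh.IsQCoh M] (g : M ⟶ Q)
    (h : ∀ t : Γ(M, ⊤), g.app ⊤ t = 0) : g = 0 := by
  refine Scheme.Modules.hom_ext _ _ fun W => ConcreteCategory.hom_ext _ _ fun a => ?_
  show g.app W a = 0
  refine sec_ext _ _ _ fun y hy => ?_
  obtain ⟨f, hfW, hyf⟩ := (isAffineOpen_top Y).exists_basicOpen_le ⟨y, hy⟩ (Opens.mem_top y)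
  obtain ⟨m, t, ht⟩ := qcoh_exists_pow_smul (isAffineOpen_top Y) M f (resM M hfW a)
  refine ⟨Y.basicOpen f, hfW, hyf, ?_⟩
  obtain ⟨w, hw⟩ := (isUnit_res_pow f (Y.basicOpen_le f) le_rfl m).exists_left_inv
  have h2 := congrArg (fun x => g.app (Y.basicOpen f) x) ht
  simp only [Scheme.Modules.Hom.app_smul, app_resM, h, map_zero] at h2
  rw [map_zero]
  calc resM Q hfW (g.app W a) = (w * _) • resM Q hfW (g.app W a) := by rw [hw, one_smul]
    _ = w • _ := mul_smul _ _ _
    _ = 0 := by
      simp only [resM_self, map_pow] at h2 ⊢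
      rw [← h2, smul_zero]

/-- `pr_* pr^* H = H` over an affine base. -/
theorem isIso_unit_affine [IsAffine Y] (H : Y.Modules) [Coh.IsQCoh H] :
    IsIso ((Scheme.Modules.pullbackPushforwardAdjunction (KRR.pr n Y)).unit.app H) := by
  classical
  let p := KRR.pr n Y
  let η := (Scheme.Modules.pullbackPushforwardAdjunction p).unit
  haveI : IsProper p := RelVALib.isProper_toBase n Y
  haveI : Flat p := Coherent.flat_toBase n Y
  let O : Γ(H, ⊤) → Y.Modules := fun _ => Coh.structureModule Y
  let φ : (∐ O) ⟶ H := Sigma.desc fun t => unitDesc H t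
  haveI : Epi φ := Preadditive.epi_of_cancel_zero _ fun {Q} g hg => eq_zero_of_top g fun t => by
    have h0 : unitDesc H t ≫ g = 0 := by
      rw [← Sigma.ι_desc (fun t => unitDesc H t) t, Category.assoc]
      exact (congrArg (Limits.Sigma.ι O t ≫ ·) hg).trans comp_zero
    have h1 := congrArg (fun ψ => unitVal ψ (⊤ : Y.Opens)) h0
    have h2 : unitVal (unitDesc H t) ⊤ = t := (unitVal_unitDesc H t ⊤).trans (resM_self _ _ _)
    calc g.app ⊤ t = g.app ⊤ (unitVal (unitDesc H t) ⊤) := by rw [h2]
      _ = 0 := h1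
  haveI : Coh.IsQCoh (∐ O) := SerreDual.isQCoh_colimit Y _ fun _ => isQCoh_structureModule
  haveI := isQCoh_kernel φ
  have hS : (ShortComplex.mk (kernel.ι φ) φ (kernel.condition φ)).ShortExact :=
    { exact := ShortComplex.exact_kernel φ }
  have hT := CycLib28.PB.Ops.shortExact_pullback p hS
  haveI : Epi ((Scheme.Modules.pullback p).map φ) := hT.epi_g
  obtain ⟨z⟩ := CM28.nonempty_twF_zero ((Scheme.Modules.pullback p).obj (kernel φ))
  have hvan : Van 1 (kernel ((Scheme.Modules.pullback p).map φ)) :=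
    van_of_iso (z ≪≫ hT.fIsKernel.conePointUniqueUpToIso (limit.isLimit (parallelPair ((Scheme.Modules.pullback p).map φ) 0)))
      (van_twF_pull 0 1 (fun h => by omega) (fun h => by omega))
  haveI := epi_push_of_van ((Scheme.Modules.pullback p).map φ) hvan
  have hpush : ∀ M : Y.Modules, Coh.IsQCoh M → Coh.IsQCoh ((Scheme.Modules.pushforward p).obj ((Scheme.Modules.pullback p).obj M)) :=
    fun M hM => by
      haveI : Coh.IsQCoh ((Scheme.Modules.pullback p).obj M) := EGA43.InjFibre.isQCoh_pullback p M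
      exact Coherent.isQCoh_push _ _
  haveI : Coh.IsQCoh ((Scheme.Modules.pullback p ⋙ Scheme.Modules.pushforward p).obj H) := hpush H inferInstance
  haveI := hpush H inferInstance
  haveI : Coh.IsQCoh ((𝟭 Y.Modules).obj H) := ‹Coh.IsQCoh H›
  haveI := hpush (∐ O) inferInstance
  haveI := isSplitMono_unit (n := n) H
  refine Props12.isIso_of_bijective_top (η.app H) ⟨Coherent.app_injective_of_mono _ ⊤, fun a => ?_⟩
  obtain ⟨b, hb⟩ := FlatMor12.FittSheaf.surjective_app_of_epi' ((Scheme.Modules.pushforward p).map ((Scheme.Modules.pullback p).map φ))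
    (isAffineOpen_top Y) a
  obtain ⟨c, hc⟩ := surjective_unit_free (n := n) (Γ(H, ⊤)) b
  refine ⟨φ.app ⊤ c, ?_⟩
  refine (ConcreteCategory.congr_hom (congrArg (fun ψ => Scheme.Modules.Hom.app ψ (⊤ : Y.Opens)) (η.naturality φ)) c).trans ?_
  exact (congrArg (((Scheme.Modules.pushforward p).map ((Scheme.Modules.pullback p).map φ)).app ⊤) hc).trans hb

/-- Over an affine base the direct image of the kernel of the counit vanishes. -/
theorem isZero_push_kernel_affine [IsAffine Y] (F : (KRR.PY n Y).Modules) [Coh.IsQCoh F] :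
    IsZero ((Scheme.Modules.pushforward (KRR.pr n Y)).obj
      (kernel ((Scheme.Modules.pullbackPushforwardAdjunction (KRR.pr n Y)).counit.app F))) := by
  let p := Scheme.Modules.pushforward (KRR.pr n Y)
  let adj := Scheme.Modules.pullbackPushforwardAdjunction (KRR.pr n Y)
  haveI : IsProper (KRR.pr n Y) := RelVALib.isProper_toBase n Y
  haveI : Coh.IsQCoh (p.obj F) := Coherent.isQCoh_push _ _
  haveI := isIso_unit_affine (n := n) (p.obj F)
  haveI : IsIso (p.map (adj.counit.app F)) := by
    haveI : IsIso (adj.unit.app (p.obj F) ≫ p.map (adj.counit.app F)) := by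
      rw [adj.right_triangle_components F]; infer_instance
    exact IsIso.of_isIso_comp_left (adj.unit.app (p.obj F)) _
  haveI : PreservesLimitsOfSize.{0, 0} p := adj.rightAdjoint_preservesLimits
  refine IsZero.of_mono_eq_zero (p.map (kernel.ι (adj.counit.app F))) ?_
  rw [← cancel_mono (p.map (adj.counit.app F)), zero_comp, ← Functor.map_comp, kernel.condition, Functor.map_zero]

/-- The direct image of the kernel of the counit vanishes. -/
theorem van_kernel_counit (F : (KRR.PY n Y).Modules) [Coh.IsQCoh F] :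
    Van 0 (kernel ((Scheme.Modules.pullbackPushforwardAdjunction (KRR.pr n Y)).counit.app F)) := by
  haveI : IsProper (KRR.pr n Y) := RelVALib.isProper_toBase n Y
  haveI : Coh.IsQCoh ((Scheme.Modules.pushforward (KRR.pr n Y)).obj F) := Coherent.isQCoh_push _ _
  haveI : Coh.IsQCoh ((Scheme.Modules.pullback (KRR.pr n Y)).obj ((Scheme.Modules.pushforward (KRR.pr n Y)).obj F)) :=
    EGA43.InjFibre.isQCoh_pullback _ _
  let c := (Scheme.Modules.pullbackPushforwardAdjunction (KRR.pr n Y)).counit.app F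
  haveI : Coh.IsQCoh ((Scheme.Modules.pushforward (KRR.pr n Y) ⋙ Scheme.Modules.pullback (KRR.pr n Y)).obj F) :=
    EGA43.InjFibre.isQCoh_pullback (KRR.pr n Y) ((Scheme.Modules.pushforward (KRR.pr n Y)).obj F)
  haveI : Coh.IsQCoh ((𝟭 (KRR.PY n Y).Modules).obj F) := ‹Coh.IsQCoh F›
  haveI : Coh.IsQCoh (kernel c) := isQCoh_kernel _
  refine isZero_rpushAb_of_cover (kernel c) 0 fun y => ?_
  obtain ⟨V, hV, hy, -⟩ :=
    Opens.isBasis_iff_nbhd.mp Y.isBasis_affineOpens (show y ∈ (⊤ : Y.Opens) from trivial)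
  let j : Scheme.Opens.toScheme V ⟶ Y := Scheme.Opens.ι V
  have hsq := isPullback_projSpaceMap n j (Gen.projSpaceMap_pr _)
  refine ⟨_, _, KRR.projSpaceMap n j, KRR.pr n (Scheme.Opens.toScheme V), j, inferInstance, hsq, ⟨⟨y, hy⟩, rfl⟩, ?_⟩
  haveI : IsAffine (Scheme.Opens.toScheme V) := hV
  haveI := isOpenImmersion_of_sq hsq
  let ψ := Scheme.Modules.pullback (KRR.projSpaceMap n j)
  haveI : Coh.IsQCoh (ψ.obj F) := EGA43.InjFibre.isQCoh_pullback _ F
  haveI := isIso_bc0_of_sq hsq F
  obtain ⟨e, he⟩ := exists_counit_fac hsq F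
  haveI : PreservesFiniteLimits ψ :=
    haveI := KLoc28.preservesFiniteLimits_restrict (KRR.projSpaceMap n j)
    preservesFiniteLimits_of_natIso (Scheme.Modules.restrictFunctorIsoPullback _)
  let c' := (Scheme.Modules.pullbackPushforwardAdjunction (KRR.pr n (Scheme.Opens.toScheme V))).counit.app (ψ.obj F)
  let i₁ := asIso ((Scheme.Modules.pullback (KRR.pr n (Scheme.Opens.toScheme V))).map
    (CohBC.bc0 (KRR.pr n Y) j (KRR.pr n (Scheme.Opens.toScheme V)) (KRR.projSpaceMap n j) hsq.w F))
  have hw : (e.symm ≪≫ i₁).hom ≫ c' = ψ.map c := by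
    show (e.inv ≫ i₁.hom) ≫ c' = _
    rw [Category.assoc, show i₁.hom ≫ c' = e.hom ≫ ψ.map c from he, Iso.inv_hom_id_assoc]
  let k : kernel c' ≅ ψ.obj (kernel c) :=
    (kernelIsIsoComp (e.symm ≪≫ i₁).hom c').symm ≪≫ kernel.mapIso _ _ (Iso.refl _) (Iso.refl _)
      (by rw [hw]; simp) ≪≫ (PreservesKernel.iso ψ c).symm
  refine van_of_iso k ?_
  exact IsZero.of_iso ((toAbFunctor _).map_isZero (isZero_push_kernel_affine (ψ.obj F)))
    (((Coh.pushAb (KRR.pr n (Scheme.Opens.toScheme V))).rightDerivedZeroIsoSelf).app _)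

end Groth.Agent.KPr28
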